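import Cfsg.Agent.Lib.CoreKill.Fail.Twin.Swap
import Cfsg.Agent.Lib.CoreKill.Functor

/-!
When no world is normalised by a Sylow subgroup, the worlds form two commuting quaternion groups exchanged by `P`.

Blueprint: `blueprint/bender/CoreKill.md`, 4 (B).
-/

set_option autoImplicit false
set_option linter.unusedSectionVars false
set_option linter.style.haveILetI false

universe u

namespace CfsgLib.CoreKill.Local

open Cfsg MulAction
open scoped Pointwise
open CfsgLib.Bender.TwoClosed (IsInv)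
open CfsgLib.Bender.Assembly (fix_iff)

variable {X : Type u} [Group X] [Finite X] {H : Subgroup X} {P : Sylow 2 X} {t s : X}

/-- A seat with an element of `P` exchanging `R` and `C`. -/
structure Exch (H : Subgroup X) (P : Sylow 2 X) (t s g : X) (C : Subgroup X) : Prop where
  seat : Seat H P t s
  g_mem : g ∈ (P : Subgroup X)
  g_T : seatT P (g * s * g⁻¹) = seatT P s
  g_out : g ∉ seatT P s
  data : SeatData H P t s C
  eq : seatR H P (g * s * g⁻¹) = C
  back : SeatData H P t (g * s * g⁻¹) (seatR H P s)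

theorem exists_exch (h : Pt H P t) (hS : Seat H P t s)
    (hno : ∀ r, World H t r → ¬ (P : Subgroup X) ≤ Subgroup.normalizer (Subgroup.zpowers r : Set X)) :
    ∃ g C, Exch H P t s g C := by
  haveI : Fact (Nat.Prime 2) := ⟨Nat.prime_two⟩
  haveI : Group.IsNilpotent ↥(P : Subgroup X) := P.isPGroup'.isNilpotent
  obtain ⟨⟨g, hgP⟩, hgN, hgn⟩ := SetLike.exists_of_lt (Group.normalizerCondition_of_isNilpotent
    ((seatT P s).subgroupOf (P : Subgroup X))
    (lt_top_iff_ne_top.mpr fun e => hno s hS.world fun x hx => (Subgroup.subgroupOf_eq_top.mp e hx).2))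
  have hmem : ∀ x : X, g⁻¹ * x * g ∈ seatT P s ↔ x ∈ seatT P s := by
    intro x
    by_cases hx : x ∈ (P : Subgroup X)
    · have h1 := Subgroup.mem_normalizer_iff.mp hgN ⟨g⁻¹ * x * g, mul_mem (mul_mem (inv_mem hgP) hx) hgP⟩
      have h2 : g * (g⁻¹ * x * g) * g⁻¹ = x := by group
      constructor
      · intro h3
        have h4 : g * (g⁻¹ * x * g) * g⁻¹ ∈ seatT P s := h1.mp h3
        rwa [h2] at h4
      · intro h3
        exact h1.mpr (show g * (g⁻¹ * x * g) * g⁻¹ ∈ seatT P s by rwa [h2])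
    · refine iff_of_false (fun h3 => hx ?_) fun h3 => hx h3.1
      have h4 := mul_mem (mul_mem hgP h3.1) (inv_mem hgP)
      rwa [show g * (g⁻¹ * x * g) * g⁻¹ = x by group] at h4
  have hgT : seatT P (g * s * g⁻¹) = seatT P s := Subgroup.ext fun x =>
    (Seat.mem_seatT_self h hS.world hgP).trans (hmem x)
  have hgn' : g ∉ seatT P s := hgn
  have hS' := hS.conj_self h hgP
  obtain ⟨C, hC⟩ := hS.seatData h
  obtain ⟨C', hC'⟩ := hS'.seatData h
  have hback : g⁻¹ * (g * s * g⁻¹) * g⁻¹⁻¹ = s := by group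
  have e1 := hS'.image_eq h hC' (inv_mem hgP) (by rw [hback, hgT]) (by rw [hgT]; exact fun hg => hgn' (inv_mem_iff.mp hg))
  rw [hback] at e1
  exact ⟨g, C, hS, hgP, hgT, hgn', hC, hS.image_eq h hC hgP hgT hgn', e1 ▸ hC'⟩

namespace Exch

variable {g : X} {C : Subgroup X} (h : Pt H P t) (E : Exch H P t s g C)
include h E

theorem seat' : Seat H P t (g * s * g⁻¹) := E.seat.conj_self h E.g_mem

theorem sq_R {r : X} (hr : r ∈ seatR H P s) (h1 : r ≠ 1) (ht : r ≠ t) : r * r = t := E.back.C_sq r hr h1 ht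

theorem fix_R {r : X} (hr : r ∈ seatR H P s) (h1 : r ≠ 1) (ht : r ≠ t) :
    World H t r ∧ fixPts H r = fixPts H s := E.seat.world_of_mem h hr (E.sq_R h hr h1 ht)

/-- A world of `P` does not carry `R` into `C`. -/
theorem no_swap {x : X} (hx : World H t x) (hxP : x ∈ (P : Subgroup X))
    (hsw : ∀ r ∈ seatR H P s, x * r * x⁻¹ ∈ C) : False := by
  haveI : Fact (Nat.Prime 2) := ⟨Nat.prime_two⟩
  have hsR := E.seat.s_mem h
  have hs1 : s ≠ 1 := fun e => h.inv.1 (by rw [← E.seat.world.sq, e, one_mul])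
  have hst : s ≠ t := fun e => h.inv.1 (E.seat.world.sq.symm.trans (by rw [e, h.inv.2]))
  obtain ⟨s₁, hs₁, hs₁2, hanti⟩ := E.data.partner s hsR E.seat.world.sq
  have hx2 : ∀ z : X, x * (x * z * x⁻¹) * x⁻¹ = z := fun z => by
    rw [show x * (x * z * x⁻¹) * x⁻¹ = x * x * z * (x * x)⁻¹ by group, hx.sq, h.inv.inv, mul_assoc, (h.central z).eq,
      ← mul_assoc, h.inv.2, one_mul]
  have hmemb : ∀ r ∈ seatR H P s, r * r = t →
      IsInv (r * (x * r * x⁻¹)) ∧ r * (x * r * x⁻¹) ≠ t ∧ Commute (r * (x * r * x⁻¹)) x ∧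
      r * (x * r * x⁻¹) ∈ H := by
    intro r hr hr2
    have hcr := E.data.C_comm _ (hsw r hr) r hr
    have hc2 : x * r * x⁻¹ * (x * r * x⁻¹) = t := by
      rw [show x * r * x⁻¹ * (x * r * x⁻¹) = x * (r * r) * x⁻¹ by group, hr2, (h.central x).eq, mul_inv_cancel_right]
    have hnot : ∀ e : X, e = 1 ∨ e = t → r * (x * r * x⁻¹) = e → False := by
      intro e he h1
      have h2 : x * r * x⁻¹ ∈ seatR H P s := by
        rw [eq_inv_mul_of_mul_eq h1]
        refine mul_mem (inv_mem hr) ?_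
        rcases he with rfl | rfl
        · exact one_mem _
        · exact E.seat.t_mem h
      rcases E.data.C_inf _ (hsw r hr) h2 with e' | e' <;> rw [e'] at hc2
      · exact h.inv.1 (by rw [← hc2, one_mul])
      · exact h.inv.1 (hc2.symm.trans h.inv.2)
    refine ⟨⟨fun e => hnot 1 (Or.inl rfl) e, by rw [hcr.mul_mul_mul_comm, hr2, hc2, h.inv.2]⟩,
      fun e => hnot t (Or.inr rfl) e, ?_,
      mul_mem (h.P_le (Subgroup.mem_inf.mp (Subgroup.mem_inf.mp hr).1).1)
        (mul_mem (mul_mem (h.P_le hxP) (h.P_le (Subgroup.mem_inf.mp (Subgroup.mem_inf.mp hr).1).1))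
          (inv_mem (h.P_le hxP)))⟩
    refine (mul_inv_eq_iff_eq_mul.mp ?_ : Commute x _).symm
    calc x * (r * (x * r * x⁻¹)) * x⁻¹ = (x * r * x⁻¹) * (x * (x * r * x⁻¹) * x⁻¹) := by group
      _ = r * (x * r * x⁻¹) := by rw [hx2, hcr.eq]
  obtain ⟨hai, hat, hax, haH⟩ := hmemb s hsR E.seat.world.sq
  obtain ⟨hbi, hbt, hbx, hbH⟩ := hmemb s₁ hs₁ hs₁2
  set a := s * (x * s * x⁻¹) with ha
  set b := s₁ * (x * s₁ * x⁻¹) with hb
  have hab : Commute a b := by
    have h1 := E.data.C_comm _ (hsw s hsR) s₁ hs₁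
    have h2 := E.data.C_comm _ (hsw s₁ hs₁) s hsR
    have h3 : x * s * x⁻¹ * (x * s₁ * x⁻¹) = x * s₁ * x⁻¹ * (x * s * x⁻¹) * t := by
      rw [show x * s * x⁻¹ * (x * s₁ * x⁻¹) = x * (s * s₁) * x⁻¹ by group, hanti,
        show x * (s₁ * s * t) * x⁻¹ = x * s₁ * x⁻¹ * (x * s * x⁻¹) * (x * t * x⁻¹) by group, (h.central x).eq,
        mul_inv_cancel_right]
    show s * (x * s * x⁻¹) * (s₁ * (x * s₁ * x⁻¹)) = s₁ * (x * s₁ * x⁻¹) * (s * (x * s * x⁻¹))
    rw [h1.mul_mul_mul_comm, hanti, h3, (h.central _).symm.mul_mul_mul_comm, h.inv.2, mul_one,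
      h2.mul_mul_mul_comm]
  have hne1 : b ≠ a ∧ b ≠ a * t := by
    have key : ∀ e, e = 1 ∨ e = t → b = a * e → False := by
      intro e he h1
      have h2 : s⁻¹ * s₁ = x * s * x⁻¹ * e * (x * s₁ * x⁻¹)⁻¹ := by
        rw [eq_mul_inv_iff_mul_eq, mul_assoc, ← hb, h1, ha]; group
      have h3 : s⁻¹ * s₁ ∈ C := by
        rw [h2]
        refine mul_mem (mul_mem (hsw s hsR) ?_) (inv_mem (hsw s₁ hs₁))
        rcases he with rfl | rfl
        · exact one_mem _
        · exact E.data.t_mem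
      have h4 : Commute s s₁ := by
        rcases E.data.C_inf _ h3 (mul_mem (inv_mem hsR) hs₁) with e' | e'
        · rw [eq_mul_of_inv_mul_eq e', mul_one]
        · rw [eq_mul_of_inv_mul_eq e']; exact (Commute.refl s).mul_right (h.central s)
      rw [h4.eq] at hanti
      exact h.inv.1 (mul_eq_left.mp hanti.symm)
    exact ⟨fun e => key 1 (Or.inl rfl) (by rw [e, mul_one]), fun e => key t (Or.inr rfl) e⟩
  -- in the normalizer of `<x>`
  obtain ⟨P', hP'⟩ := hx.exists_sylow h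
  have hpt := hx.pt h hP'
  obtain ⟨C', hQ⟩ := hx.quat h hP'
  have hNa : ∀ {z : X}, Commute z x → z ∈ Subgroup.normalizer (Subgroup.zpowers x : Set X) := fun hz =>
    h.mem_normalizer hx.sq (Or.inl (by rw [hz.eq, mul_inv_cancel_right]))
  let a' : ↥(Subgroup.normalizer (Subgroup.zpowers x : Set X)) := ⟨a, hNa hax⟩
  let b' : ↥(Subgroup.normalizer (Subgroup.zpowers x : Set X)) := ⟨b, hNa hbx⟩
  have ha'i : IsInv a' := ⟨fun e => hai.1 (congrArg Subtype.val e), Subtype.ext hai.2⟩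
  have hb'i : IsInv b' := ⟨fun e => hbi.1 (congrArg Subtype.val e), Subtype.ext hbi.2⟩
  have hab' : Commute a' b' := Subtype.ext hab.eq
  obtain ⟨U, -, -, hU2, haU, hbU, hU⟩ := CoreKill.pair_group ha'i hb'i
    (fun e => hne1.1 (congrArg Subtype.val e).symm) hab'
  have hUH : U ≤ H.subgroupOf _ := fun z hz => by
    rcases hU z hz with rfl | rfl | rfl | rfl
    · exact one_mem _
    · exact haH
    · exact hbH
    · exact mul_mem (show a' ∈ H.subgroupOf _ from haH) (show b' ∈ H.subgroupOf _ from hbH)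
  obtain ⟨m, -, hmP⟩ := Bender.Q.exists_conj_sylow hP' hU2 hUH
  set x' : ↥(Subgroup.normalizer (Subgroup.zpowers x : Set X)) := ⟨x, hx.s_mem h⟩
  have hxR : x' ∈ kerR (H.subgroupOf _) P' :=
    ⟨hx.s_mem_sylow h P', img_mem_core.mp (Bender.Q.permImg_eq_one.mpr (hx.s_fix h))⟩
  have hx'2 : x' * x' = World.tN h x := Subtype.ext hx.sq
  have hcx : ∀ z : ↥(Subgroup.normalizer (Subgroup.zpowers x : Set X)), Commute (z : X) x →
      Commute (m * z * m⁻¹) x' := fun z hz => Subtype.ext (hx.conj_cent h m hz).eq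
  -- members centralising `x'`
  have key : ∀ z, z ∈ (P' : Subgroup _) → IsInv z → z ≠ World.tN h x → Commute z x' →
      ∃ c ∈ C', c * c = World.tN h x ∧ (z = x'⁻¹ * c ∨ z = World.tN h x * x'⁻¹ * c) := by
    intro z hzP hzi hzt hzx
    obtain ⟨r, hr, c, hc, rfl, hr2, hc2⟩ := hQ.member z hzP hzi hzt
    have hrx : Commute r x' := by
      have h1 : Commute c x' := hQ.C_comm c hc x' hxR
      have h2 := hzx.mul_left h1.inv_left
      rwa [mul_inv_cancel_right] at h2
    have h3 : r * x' * (r * x') = 1 := by rw [hrx.symm.mul_mul_mul_comm, hr2, hx'2, hpt.inv.2]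
    refine ⟨c, hc, hc2, ?_⟩
    by_cases h4 : r * x' = 1
    · left; rw [eq_inv_of_mul_eq_one_left h4]
    · right; rw [eq_mul_inv_of_mul_eq (hpt.kernel_inv ⟨h4, h3⟩ (mul_mem hr hxR).2)]
  obtain ⟨c, hc, hc2, hca⟩ := key _ (hmP a' haU) (ha'i.conj m)
    (hpt.ne_conj (fun e => hat (congrArg Subtype.val e)) m) (hcx a' hax)
  obtain ⟨d, hd, hd2, hdb⟩ := key _ (hmP b' hbU) (hb'i.conj m)
    (hpt.ne_conj (fun e => hbt (congrArg Subtype.val e)) m) (hcx b' hbx)
  have hcd : Commute c d := by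
    have hkey : ∀ (z w : ↥(Subgroup.normalizer (Subgroup.zpowers x : Set X))), w ∈ C' →
        (z = x'⁻¹ * w ∨ z = World.tN h x * x'⁻¹ * w) → ∃ e ∈ kerR (H.subgroupOf _) P',
          z = e * w ∧ Commute e x' := by
      intro z w _ hz
      rcases hz with e | e
      · exact ⟨_, inv_mem hxR, e, (Commute.refl x').inv_left⟩
      · exact ⟨_, mul_mem (hx'2 ▸ mul_mem hxR hxR) (inv_mem hxR), e,
          (hpt.central x').symm.mul_left (Commute.refl x').inv_left⟩
    obtain ⟨e₁, he₁, hz₁, hce₁⟩ := hkey _ c hc hca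
    obtain ⟨e₂, he₂, hz₂, hce₂⟩ := hkey _ d hd hdb
    have he12 : Commute e₁ e₂ := by
      have hkk : ∀ e ∈ ({x'⁻¹, World.tN h x * x'⁻¹} : Set ↥(Subgroup.normalizer (Subgroup.zpowers x : Set X))),
          ∀ e' ∈ ({x'⁻¹, World.tN h x * x'⁻¹} : Set ↥(Subgroup.normalizer (Subgroup.zpowers x : Set X))),
            Commute e e' := by
        intro e he e' he'
        have hA : Commute x'⁻¹ (World.tN h x * x'⁻¹) := (hpt.central _).mul_right (Commute.refl _)
        rcases he with rfl | rfl <;> rcases he' with rfl | rfl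
        · exact Commute.refl _
        · exact hA
        · exact hA.symm
        · exact Commute.refl _
      refine hkk e₁ ?_ e₂ ?_
      · rcases hca with e | e
        · exact Or.inl (mul_right_cancel (hz₁.symm.trans e))
        · exact Or.inr (mul_right_cancel (hz₁.symm.trans e))
      · rcases hdb with e | e
        · exact Or.inl (mul_right_cancel (hz₂.symm.trans e))
        · exact Or.inr (mul_right_cancel (hz₂.symm.trans e))
    have h1 : Commute (m * a' * m⁻¹) (m * b' * m⁻¹) := Bender.Q.conj_comm hab'.eq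
    rw [hz₁, hz₂] at h1
    have h2 : e₁ * e₂ * (c * d) = e₁ * e₂ * (d * c) := by
      have h3 := h1.eq
      rw [(hQ.C_comm c hc e₂ he₂).mul_mul_mul_comm, (hQ.C_comm d hd e₁ he₁).mul_mul_mul_comm, ← he12.eq] at h3
      exact h3
    exact mul_left_cancel h2
  -- so they agree modulo `t`
  have hsame : d = c ∨ d = c * World.tN h x := by
    by_contra hne
    push Not at hne
    have hnt : ∀ w : ↥(Subgroup.normalizer (Subgroup.zpowers x : Set X)), w * w = World.tN h x →
        w ≠ 1 ∧ w ≠ World.tN h x := fun w hw =>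
      ⟨fun e => hpt.inv.1 (by rw [← hw, e, one_mul]), fun e => hpt.inv.1 (hw.symm.trans (by rw [e, hpt.inv.2]))⟩
    have h1 := hQ.C_anti c hc d hd (hnt c hc2).1 (hnt c hc2).2 (hnt d hd2).1 (hnt d hd2).2 hne.1 hne.2
    rw [hcd.eq] at h1
    exact hpt.inv.1 (mul_eq_left.mp h1.symm)
  have hfin : m * b' * m⁻¹ = m * a' * m⁻¹ ∨ m * b' * m⁻¹ = m * a' * m⁻¹ * World.tN h x := by
    rcases hca with e₁ | e₁ <;> rcases hdb with e₂ | e₂ <;> rcases hsame with e₃ | e₃ <;> rw [e₁, e₂, e₃]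
    · exact Or.inl rfl
    · exact Or.inr (mul_assoc _ _ _).symm
    · exact Or.inr (by rw [(hpt.central (x'⁻¹ * c)).eq]; group)
    · refine Or.inl ?_
      rw [← (hpt.central c).symm.eq, show World.tN h x * x'⁻¹ * (World.tN h x * c) =
        World.tN h x * (x'⁻¹ * World.tN h x) * c by group, (hpt.central x'⁻¹).eq, ← mul_assoc, hpt.inv.2, one_mul]
    · exact Or.inr (by
        rw [(hpt.central (World.tN h x * x'⁻¹ * c)).eq, ← mul_assoc, ← mul_assoc, hpt.inv.2, one_mul])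
    · exact Or.inl (by
        rw [← mul_assoc, (hpt.central (x'⁻¹ * c)).eq, ← mul_assoc])
    · exact Or.inl rfl
    · exact Or.inr (mul_assoc _ _ _).symm
  rcases hfin with e | e
  · exact hne1.1 (congrArg Subtype.val (mul_left_cancel (mul_right_cancel e)))
  · refine hne1.2 (congrArg Subtype.val (?_ : b' = a' * World.tN h x))
    rw [mul_assoc (m * a'), ← (hpt.central m⁻¹).symm.eq, ← mul_assoc, mul_assoc m a'] at e
    exact mul_left_cancel (mul_right_cancel e)

/-- A world of `P` normalising the part at the seat lies in it. -/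
theorem mem_T {x : X} (hx : World H t x) (hxP : x ∈ (P : Subgroup X))
    (hxN : ∀ y, x⁻¹ * y * x ∈ seatT P s ↔ y ∈ seatT P s) : x ∈ seatT P s := by
  by_contra hxn
  have hxT : seatT P (x * s * x⁻¹) = seatT P s := Subgroup.ext fun y =>
    (Seat.mem_seatT_self h E.seat.world hxP).trans (hxN y)
  have e := E.seat.image_eq h E.data hxP hxT hxn
  refine E.no_swap h hx hxP fun r hr => ?_
  rw [← e, Seat.mem_seatR_self h E.seat.world hxP, show x⁻¹ * (x * r * x⁻¹) * x = r by group]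
  exact hr

/-- Another seat inside `T` is one of the two. -/
theorem eq_or_eq {r : X} (hr : Seat H P t r) {gr : X} {Cr : Subgroup X} (Er : Exch H P t r gr Cr)
    (hsub : seatR H P r ≤ seatT P s) :
    (fixPts H r = fixPts H s ∧ seatR H P r = seatR H P s) ∨
      (fixPts H r = fixPts H (g * s * g⁻¹) ∧ seatR H P r = C) := by
  have hS' := E.seat' h
  -- some element of square `t` of the other seat lies in `R C`
  have hcard : Nat.card (seatR H P r) = 8 := Er.back.C_card
  obtain ⟨a, ha, ha1, hat, -, -⟩ := exists_outside (C := seatR H P r) (by rw [hcard]; norm_num) 1 t 1 1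
  obtain ⟨b, hb, hb1, hbt, hba, hbat⟩ := exists_outside (C := seatR H P r) (by rw [hcard]; norm_num) 1 t a (a * t)
  have hab := Er.back.C_anti a ha b hb ha1 hat hb1 hbt hba hbat
  have hab2 : a * b * (a * b) = t := by
    calc a * b * (a * b) = a * (b * a * t) * b * t := by
          rw [show a * (b * a * t) * b * t = a * (b * a) * (t * b) * t by group, ← (h.central b).eq,
            show a * (b * a) * (b * t) * t = a * b * (a * b) * (t * t) by group, h.inv.2, mul_one]
      _ = (a * a) * (b * b) * t := by rw [← hab]; group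
      _ = t := by rw [Er.sq_R h ha ha1 hat, Er.sq_R h hb hb1 hbt, h.inv.2, one_mul]
  set c₀ := g * s * g⁻¹ with hc₀
  have hc₀C : c₀ ∈ C := E.eq ▸ hS'.s_mem h
  have hc₀2 : c₀ * c₀ = t := hS'.world.sq
  have hc₀1 : c₀ ≠ 1 := fun e => h.inv.1 (by rw [← hc₀2, e, one_mul])
  have hc₀t : c₀ ≠ t := fun e => h.inv.1 (hc₀2.symm.trans (by rw [e, h.inv.2]))
  have hE_T : seatT P c₀ = seatT P s := E.g_T
  have hE_eq : seatR H P c₀ = C := E.eq
  clear_value c₀
  obtain ⟨c₁, hc₁, hc₁1, hc₁t, hc10, hc10t⟩ := exists_outside (C := C) (by rw [E.data.C_card]; norm_num) 1 t c₀ (c₀ * t)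
  have hanti := E.data.C_anti c₀ hc₀C c₁ hc₁ hc₀1 hc₀t hc₁1 hc₁t hc10 hc10t
  have hc₁2 := E.data.C_sq c₁ hc₁ hc₁1 hc₁t
  have hc₁inv : c₁⁻¹ = c₁ * t := inv_eq_of_mul_eq_one_right (by rw [← mul_assoc, hc₁2, h.inv.2])
  -- the action of `T` on `C` modulo `t`
  have hconj0 : ∀ z ∈ seatT P s, z * c₀ * z⁻¹ = c₀ ∨ z * c₀ * z⁻¹ = c₀ * t := fun z hz =>
    h.conj_eq hS'.world.sq (show z ∈ seatT P c₀ by rw [hE_T]; exact hz).2
  have hnC : ∀ z ∈ seatT P s, z ∈ Subgroup.normalizer (C : Set X) := fun z hz => by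
    rw [← hE_eq]; exact hS'.R_normal h (show z ∈ seatT P c₀ by rw [hE_T]; exact hz)
  have hconj1 : ∀ z ∈ seatT P s, (z * c₁ * z⁻¹ = c₁ ∨ z * c₁ * z⁻¹ = c₁ * t) ∨
      (z * c₁ * z⁻¹ = c₀ * c₁ ∨ z * c₁ * z⁻¹ = c₀ * c₁ * t) := by
    intro z hz
    set e := z * c₁ * z⁻¹ with he
    by_cases hcase : e = c₁ ∨ e = c₁ * t
    · exact Or.inl hcase
    push Not at hcase
    have heC : e ∈ C := (Subgroup.mem_normalizer_iff.mp (hnC z hz) c₁).mp hc₁
    have he1 : e ≠ 1 := fun e' => hc₁1 (conj_eq_one_iff.mp (he.symm.trans e'))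
    have he2 : e * e = t := by
      rw [he, show z * c₁ * z⁻¹ * (z * c₁ * z⁻¹) = z * (c₁ * c₁) * z⁻¹ by group, hc₁2, (h.central z).eq,
        mul_inv_cancel_right]
    have hea : c₀ * e = e * c₀ * t := by
      have h0 : z * (c₀ * c₁) * z⁻¹ = z * (c₁ * c₀ * t) * z⁻¹ := by rw [hanti]
      rw [show z * (c₀ * c₁) * z⁻¹ = z * c₀ * z⁻¹ * e by rw [he]; group,
        show z * (c₁ * c₀ * t) * z⁻¹ = e * (z * c₀ * z⁻¹) * (z * t * z⁻¹) by rw [he]; group, (h.central z).eq,
        mul_inv_cancel_right] at h0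
      rcases hconj0 z hz with e0 | e0 <;> rw [e0] at h0
      · exact h0
      · rw [mul_assoc c₀ t e, ← (h.central e).eq, ← mul_assoc, ← mul_assoc e c₀, mul_assoc (e * c₀) t t, h.inv.2,
          mul_one] at h0
        rw [← h0, mul_assoc (c₀ * e), h.inv.2, mul_one]
    have heb1 : e * c₁ ≠ 1 := fun e' => hcase.2 (by rw [eq_inv_of_mul_eq_one_left e', hc₁inv])
    have hebt : e * c₁ ≠ t := fun e' => hcase.1 (by
      rw [eq_mul_inv_of_mul_eq e', hc₁inv, (h.central c₁).eq, ← mul_assoc, h.inv.2, one_mul])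
    have hcom : Commute c₀ (e * c₁) := by
      show c₀ * (e * c₁) = e * c₁ * c₀
      calc c₀ * (e * c₁) = (c₀ * e) * c₁ := by group
        _ = e * (c₀ * c₁) * t := by
            rw [hea, show e * c₀ * t * c₁ = e * c₀ * (t * c₁) by group, ← (h.central c₁).eq]; group
        _ = e * c₁ * c₀ * (t * t) := by rw [hanti]; group
        _ = e * c₁ * c₀ := by rw [h.inv.2, mul_one]
    have hcase' : e * c₁ = c₀ ∨ e * c₁ = c₀ * t := by
      by_contra hne
      push Not at hne
      have h1 := E.data.C_anti c₀ hc₀C (e * c₁) (mul_mem heC hc₁) hc₀1 hc₀t heb1 hebt hne.1 hne.2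
      rw [hcom.eq] at h1
      exact h.inv.1 (mul_eq_left.mp h1.symm)
    refine Or.inr ?_
    rcases hcase' with e' | e'
    · right
      rw [eq_mul_inv_of_mul_eq e', hc₁inv, mul_assoc]
    · left
      rw [eq_mul_inv_of_mul_eq e', hc₁inv, show c₀ * t * (c₁ * t) = c₀ * (t * c₁) * t by group,
        ← (h.central c₁).eq, show c₀ * (c₁ * t) * t = c₀ * c₁ * (t * t) by group, h.inv.2, mul_one]
  -- one of `a`, `b`, `a b` fixes every element of `C` modulo `t`
  obtain ⟨x, hxR, hx2, hxc⟩ : ∃ x ∈ seatR H P r, x * x = t ∧ (x * c₁ * x⁻¹ = c₁ ∨ x * c₁ * x⁻¹ = c₁ * t) := by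
    rcases hconj1 a (hsub ha) with e | e
    · exact ⟨a, ha, Er.sq_R h ha ha1 hat, e⟩
    rcases hconj1 b (hsub hb) with e' | e'
    · exact ⟨b, hb, Er.sq_R h hb hb1 hbt, e'⟩
    refine ⟨a * b, mul_mem ha hb, hab2, ?_⟩
    have hclass : ∀ {u v : X}, (u = c₁ ∨ u = c₁ * t) → (v = u ∨ v = u * t) → (v = c₁ ∨ v = c₁ * t) := by
      rintro u v (rfl | rfl) (rfl | rfl)
      · exact Or.inl rfl
      · exact Or.inr rfl
      · exact Or.inr rfl
      · exact Or.inl (by rw [mul_assoc, h.inv.2, mul_one])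
    have htz : ∀ z : X, z * t * z⁻¹ = t := fun z => by rw [(h.central z).eq, mul_inv_cancel_right]
    -- `a` carries `c₀ c₁` back to `c₁`
    have hback : a * (c₀ * c₁) * a⁻¹ = c₁ ∨ a * (c₀ * c₁) * a⁻¹ = c₁ * t := by
      rw [show a * (c₀ * c₁) * a⁻¹ = (a * c₀ * a⁻¹) * (a * c₁ * a⁻¹) by group]
      have hsq : c₀ * (c₀ * c₁) = c₁ * t := by rw [← mul_assoc, hc₀2, ← (h.central c₁).eq]
      rcases hconj0 a (hsub ha) with e0 | e0 <;> rcases e with e1 | e1 <;> rw [e0, e1]
      · exact Or.inr hsq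
      · exact Or.inl (by rw [← mul_assoc, hsq, mul_assoc, h.inv.2, mul_one])
      · exact Or.inl (by
          rw [(h.central c₀).eq, mul_assoc, hsq, ← mul_assoc, ← (h.central c₁).eq, mul_assoc, h.inv.2, mul_one])
      · exact Or.inr (by
          rw [(h.central c₀).eq, mul_assoc, ← mul_assoc c₀, hsq, mul_assoc c₁, h.inv.2, mul_one,
            ← (h.central c₁).eq])
    rw [show a * b * c₁ * (a * b)⁻¹ = a * (b * c₁ * b⁻¹) * a⁻¹ by group]
    rcases e' with e2 | e2 <;> rw [e2]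
    · exact hback
    · refine hclass hback (Or.inr ?_)
      rw [show a * (c₀ * c₁ * t) * a⁻¹ = a * (c₀ * c₁) * a⁻¹ * (a * t * a⁻¹) by group, htz]
  have hxT := hsub hxR
  have hall : ∀ c ∈ C, x * c * x⁻¹ = c ∨ x * c * x⁻¹ = c * t := by
    let K : Subgroup X :=
      { carrier := {c | c ∈ C ∧ (x * c * x⁻¹ = c ∨ x * c * x⁻¹ = c * t)}
        one_mem' := ⟨one_mem C, Or.inl (by group)⟩
        mul_mem' := fun {u v} hu hv => ⟨mul_mem hu.1 hv.1, by
          rw [show x * (u * v) * x⁻¹ = x * u * x⁻¹ * (x * v * x⁻¹) by group]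
          rcases hu.2 with e1 | e1 <;> rcases hv.2 with e2 | e2 <;> rw [e1, e2]
          · exact Or.inl rfl
          · exact Or.inr (mul_assoc _ _ _).symm
          · exact Or.inr (by rw [mul_assoc u t v, ← (h.central v).eq, ← mul_assoc])
          · exact Or.inl (by rw [(h.central v).symm.mul_mul_mul_comm, h.inv.2, mul_one])⟩
        inv_mem' := fun {u} hu => ⟨inv_mem hu.1, by
          rcases hu.2 with e1 | e1
          · exact Or.inl (by rw [show x * u⁻¹ * x⁻¹ = (x * u * x⁻¹)⁻¹ by group, e1])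
          · refine Or.inr ?_
            rw [show x * u⁻¹ * x⁻¹ = (x * u * x⁻¹)⁻¹ by group, e1, mul_inv_rev, h.inv.inv, (h.central u⁻¹).eq]⟩ }
    have hKC : K ≤ C := fun c hc => hc.1
    have h0K : c₀ ∈ K := ⟨hc₀C, hconj0 x hxT⟩
    have h1K : c₁ ∈ K := ⟨hc₁, hxc⟩
    have hord : orderOf c₀ = 4 := by
      haveI : Fact (Nat.Prime 2) := ⟨Nat.prime_two⟩
      refine orderOf_eq_prime_pow (p := 2) (n := 1) (fun e => h.inv.1 ?_) ?_
      · rw [pow_one, pow_two, hc₀2] at e; exact e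
      · rw [show (2 : ℕ) ^ (1 + 1) = 2 * 2 from rfl, pow_mul, pow_two c₀, hc₀2, pow_two, h.inv.2]
    have hdvd : Nat.card K ∣ 2 ^ 3 := by
      rw [show (2 : ℕ) ^ 3 = Nat.card C by rw [E.data.C_card]; norm_num]
      exact Subgroup.card_dvd_of_le hKC
    obtain ⟨i, hi, e⟩ := (Nat.dvd_prime_pow Nat.prime_two).mp hdvd
    have h4 : 4 ≤ Nat.card K := by
      have := Subgroup.card_le_of_le (Subgroup.zpowers_le.mpr h0K)
      rwa [Nat.card_zpowers, hord] at this
    obtain rfl | rfl : i = 2 ∨ i = 3 := by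
      by_contra hne
      push Not at hne
      have h5 : 2 ^ i ≤ 2 ^ 1 := Nat.pow_le_pow_right (by norm_num) (by omega)
      rw [e] at h4
      omega
    · exfalso
      obtain ⟨k, hk⟩ := Subgroup.mem_zpowers_iff.mp ((Subgroup.eq_of_le_of_card_ge (Subgroup.zpowers_le.mpr h0K)
        (by rw [Nat.card_zpowers, hord, e]; norm_num)).ge h1K)
      have hc : Commute c₀ c₁ := hk ▸ (Commute.refl c₀).zpow_right k
      rw [hc.eq] at hanti
      exact h.inv.1 (mul_eq_left.mp hanti.symm)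
    · exact fun c hc => ((Subgroup.eq_of_le_of_card_ge hKC (by rw [E.data.C_card, e]; norm_num)).ge hc).2
  obtain ⟨c, hc, hρ⟩ := E.data.self x hxT hall
  have hcP : Commute c (c⁻¹ * x) := E.data.C_comm c hc _ hρ
  set ρ := c⁻¹ * x with hρ'
  have hx' : x = c * ρ := by rw [hρ']; group
  have hx1 : x ≠ 1 := fun e => h.inv.1 (by rw [← hx2, e, one_mul])
  have hxt : x ≠ t := fun e => h.inv.1 (hx2.symm.trans (by rw [e, h.inv.2]))
  obtain ⟨hWx, hfx⟩ := Er.fix_R h hxR hx1 hxt
  -- the fixer decides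
  have hfinal : ∀ (z : X), Seat H P t z → seatT P z = seatT P s → Nat.card (seatR H P z) = 8 →
      x ∈ seatR H P z → fixPts H r = fixPts H z ∧ seatR H P r = seatR H P z := by
    intro z hz hzT hz8 hxz
    have he : fixPts H r = fixPts H z := hfx.symm.trans (hz.world_of_mem h hxz hx2).2
    refine ⟨he, Subgroup.eq_of_le_of_card_ge (fun w hw => Subgroup.mem_inf.mpr ⟨?_, ?_⟩) (by rw [hz8, hcard])⟩
    · rw [hzT]; exact hsub hw
    · have h6 := (Subgroup.mem_inf.mp hw).2
      rwa [show fixer H r = fixer H z by rw [fixer, fixer, he]] at h6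
  have hC8 : Nat.card (seatR H P c₀) = 8 := by rw [hE_eq]; exact E.data.C_card
  by_cases hρ1 : ρ = 1
  · refine Or.inr ?_
    have := hfinal c₀ hS' hE_T hC8 (by rw [hE_eq, hx', hρ1, mul_one]; exact hc)
    exact ⟨hc₀ ▸ this.1, this.2.trans hE_eq⟩
  by_cases hρt : ρ = t
  · refine Or.inr ?_
    have := hfinal c₀ hS' hE_T hC8 (by rw [hE_eq, hx', hρt]; exact mul_mem hc E.data.t_mem)
    exact ⟨hc₀ ▸ this.1, this.2.trans hE_eq⟩
  refine Or.inl (hfinal s E.seat rfl E.back.C_card ?_)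
  by_cases hc1 : c = 1
  · rw [hx', hc1, one_mul]; exact hρ
  by_cases hct : c = t
  · rw [hx', hct]; exact mul_mem (E.seat.t_mem h) hρ
  exfalso
  refine h.inv.1 ?_
  rw [← hx2, hx', hcP.symm.mul_mul_mul_comm, E.data.C_sq c hc hc1 hct, E.sq_R h hρ hρ1 hρt, h.inv.2]

variable (hno : ∀ r, World H t r → ¬ (P : Subgroup X) ≤ Subgroup.normalizer (Subgroup.zpowers r : Set X))
include hno

/-- A seat whose group consists of worlds normalising `T` lies in `T`. -/
theorem sub_T {r : X} (hr : Seat H P t r)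
    (hnorm : ∀ x ∈ seatR H P r, ∀ y, x⁻¹ * y * x ∈ seatT P s ↔ y ∈ seatT P s) :
    seatR H P r ≤ seatT P s := by
  obtain ⟨gr, Cr, Er⟩ := exists_exch h hr hno
  intro x hx
  by_cases hx1 : x = 1
  · rw [hx1]; exact one_mem _
  by_cases hxt : x = t
  · rw [hxt]; exact (Subgroup.mem_inf.mp (E.seat.t_mem h)).1
  exact E.mem_T h (Er.fix_R h hx hx1 hxt).1 (Subgroup.mem_inf.mp (Subgroup.mem_inf.mp hx).1).1 (hnorm x hx)

/-- An element of `P` moving the seat into `T` is in `T` or exchanges the two groups. -/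
theorem coset_of_sub {k : X} (hk : k ∈ (P : Subgroup X)) (hsub : seatR H P (k * s * k⁻¹) ≤ seatT P s) :
    k ∈ seatT P s ∨ g⁻¹ * k ∈ seatT P s := by
  have hSk := E.seat.conj_self h hk
  obtain ⟨gk, Ck, Ek⟩ := exists_exch h hSk hno
  rcases E.eq_or_eq h hSk Ek hsub with ⟨-, e⟩ | ⟨-, e⟩
  · refine Or.inl (E.seat.mem_of_normalizer h hk (Comp.mem_normalizer_of_maps fun a ha => ?_))
    rw [← e, Seat.mem_seatR_self h E.seat.world hk, show k⁻¹ * (k * a * k⁻¹) * k = a by group]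
    exact ha
  · refine Or.inr (E.seat.mem_of_normalizer h (mul_mem (inv_mem E.g_mem) hk)
      (Comp.mem_normalizer_of_maps fun a ha => ?_))
    have h1 : k * a * k⁻¹ ∈ seatR H P (g * s * g⁻¹) := by
      rw [E.eq, ← e, Seat.mem_seatR_self h E.seat.world hk, show k⁻¹ * (k * a * k⁻¹) * k = a by group]
      exact ha
    rw [Seat.mem_seatR_self h E.seat.world E.g_mem] at h1
    rwa [show g⁻¹ * k * a * (g⁻¹ * k)⁻¹ = g⁻¹ * (k * a * k⁻¹) * g by group]

/-- `P` normalises `T`. -/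
theorem normal_T {x : X} (hx : x ∈ (P : Subgroup X)) (y : X) :
    x⁻¹ * y * x ∈ seatT P s ↔ y ∈ seatT P s := by
  haveI : Fact (Nat.Prime 2) := ⟨Nat.prime_two⟩
  set P₁ : Subgroup X := (P : Subgroup X) ⊓ Subgroup.normalizer (seatT P s : Set X) with hP₁
  have hiff : ∀ {z : X}, z ∈ P₁ → ∀ w : X, z⁻¹ * w * z ∈ seatT P s ↔ w ∈ seatT P s := fun {z} hz w => by
    have h1 := Subgroup.mem_normalizer_iff.mp (Subgroup.mem_inf.mp hz).2 (z⁻¹ * w * z)
    rwa [show z * (z⁻¹ * w * z) * z⁻¹ = w by group] at h1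
  have hgP₁ : g ∈ P₁ := Subgroup.mem_inf.mpr ⟨E.g_mem, Comp.mem_normalizer_of_maps fun a ha => by
    show g * a * g⁻¹ ∈ seatT P s
    rw [← E.g_T, Seat.mem_seatT_self h E.seat.world E.g_mem, show g⁻¹ * (g * a * g⁻¹) * g = a by group]
    exact ha⟩
  have hTP₁ : seatT P s ≤ P₁ := le_inf inf_le_left Subgroup.le_normalizer
  suffices htop : (P : Subgroup X) ≤ P₁ from hiff (htop hx) y
  by_contra hn
  haveI : Group.IsNilpotent ↥(P : Subgroup X) := P.isPGroup'.isNilpotent
  obtain ⟨⟨k, hkP⟩, hk, hk'⟩ := SetLike.exists_of_lt (Group.normalizerCondition_of_isNilpotent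
    (P₁.subgroupOf (P : Subgroup X)) (lt_top_iff_ne_top.mpr fun e => hn (Subgroup.subgroupOf_eq_top.mp e)))
  have hsub : seatR H P (k * s * k⁻¹) ≤ seatT P s := by
    refine E.sub_T h hno (E.seat.conj_self h hkP) fun z hz => ?_
    rw [Seat.mem_seatR_self h E.seat.world hkP] at hz
    have h1 := (Subgroup.mem_normalizer_iff.mp hk
      ⟨k⁻¹ * z * k, (Subgroup.mem_inf.mp (Subgroup.mem_inf.mp hz).1).1⟩).mp
        (show k⁻¹ * z * k ∈ P₁ from hTP₁ (Subgroup.mem_inf.mp hz).1)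
    have h2 : k * (k⁻¹ * z * k) * k⁻¹ ∈ P₁ := h1
    rw [show k * (k⁻¹ * z * k) * k⁻¹ = z by group] at h2
    exact hiff h2
  refine hk' (show k ∈ P₁ from ?_)
  rcases E.coset_of_sub h hno hkP hsub with e | e
  · exact hTP₁ e
  · have h3 := mul_mem hgP₁ (hTP₁ e)
    rwa [mul_inv_cancel_left] at h3

/-- Every world is conjugate in `H` into `R`. -/
theorem worlds {w : X} (hw : World H t w) : ∃ k ∈ H, k * w * k⁻¹ ∈ seatR H P s := by
  haveI : Fact (Nat.Prime 2) := ⟨Nat.prime_two⟩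
  obtain ⟨r, hr, k, hk, hfix⟩ := exists_seat h hw
  have hsub : seatR H P r ≤ seatT P s := E.sub_T h hno hr fun x hx y =>
    E.normal_T h hno (Subgroup.mem_inf.mp (Subgroup.mem_inf.mp hx).1).1 y
  obtain ⟨gr, Cr, Er⟩ := exists_exch h hr hno
  obtain ⟨k', hk', hfix'⟩ : ∃ k' ∈ H, fixPts H (k' * w * k'⁻¹) = fixPts H s := by
    rcases E.eq_or_eq h hr Er hsub with ⟨e, -⟩ | ⟨e, -⟩
    · exact ⟨k, hk, hfix.symm.trans e⟩
    · refine ⟨g⁻¹ * k, mul_mem (inv_mem (h.P_le E.g_mem)) hk, ?_⟩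
      rw [show g⁻¹ * k * w * (g⁻¹ * k)⁻¹ = g⁻¹ * (k * w * k⁻¹) * g⁻¹⁻¹ by group, fixPts_conj_image,
        hfix.symm.trans e, fixPts_conj_image, ← Set.image_comp]
      simp
  -- the stabiliser of the fixed points
  set w' := k' * w * k'⁻¹ with hw'
  have hW' := hw.conj h hk'
  let A : Subgroup X := H ⊓ stabilizer X (fixPts H s)
  have hTA : seatT P s ≤ A := fun x hx => Subgroup.mem_inf.mpr ⟨E.seat.T_le h hx, by
    rw [mem_stabilizer_iff]
    have h1 := fixPts_conj_image (H := H) x s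
    have hset : fixPts H (x * s * x⁻¹) = fixPts H s := by
      rcases h.conj_eq E.seat.world.sq (Subgroup.mem_inf.mp hx).2 with e | e <;> rw [e]
      ext c
      show (s * t) • c = c ↔ s • c = c
      rw [mul_smul, h.t_fix]
    exact h1.symm.trans hset⟩
  obtain ⟨U, hU⟩ := ((P.isPGroup'.to_le inf_le_left).comap_subtype (K := A) :
    IsPGroup 2 ↥((seatT P s).subgroupOf A)).exists_le_sylow
  have hUT : (U : Subgroup A) = (seatT P s).subgroupOf A := by
    by_contra hne
    haveI : Group.IsNilpotent ↥(U : Subgroup A) := U.isPGroup'.isNilpotent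
    obtain ⟨⟨z, hzU⟩, hz, hz'⟩ := SetLike.exists_of_lt (Group.normalizerCondition_of_isNilpotent
      (((seatT P s).subgroupOf A).subgroupOf (U : Subgroup A))
      (lt_top_iff_ne_top.mpr fun e => hne (le_antisymm (Subgroup.subgroupOf_eq_top.mp e) hU)))
    have hzT : ∀ a ∈ seatT P s, (z : X) * a * (z : X)⁻¹ ∈ seatT P s := fun a ha =>
      (Subgroup.mem_normalizer_iff.mp hz ⟨⟨a, hTA ha⟩, hU (show _ from ha)⟩).mp ha
    have hzR : (z : X) ∈ Subgroup.normalizer (seatR H P s : Set X) := Comp.mem_normalizer_of_maps fun a ha => by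
      refine Subgroup.mem_inf.mpr ⟨hzT a (Subgroup.mem_inf.mp ha).1, mem_fixer.mpr fun c hc => ?_⟩
      have hzc : (z : X)⁻¹ • c ∈ fixPts H s := by
        have h1 : ((z : X)⁻¹ • (fixPts H s)) = fixPts H s :=
          mem_stabilizer_iff.mp (inv_mem (Subgroup.mem_inf.mp z.2).2)
        exact h1.le (Set.smul_mem_smul_set hc)
      rw [mul_smul, mul_smul, mem_fixer.mp (Subgroup.mem_inf.mp ha).2 _ hzc, smul_inv_smul]
    have hQ := (E.seat.normalizer_le h (Q := seatT P s ⊔ Subgroup.zpowers (z : X))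
      ((U.isPGroup'.map A.subtype).to_le (sup_le (fun a ha => ⟨⟨a, hTA ha⟩, hU (show _ from ha), rfl⟩)
        (Subgroup.zpowers_le.mpr ⟨z, hzU, rfl⟩)))
      (sup_le (E.seat.T_le h) (Subgroup.zpowers_le.mpr (Subgroup.mem_inf.mp z.2).1)) le_sup_left
      (sup_le (E.seat.R_normal h) (Subgroup.zpowers_le.mpr hzR))).1
    exact hz' (hQ.le (Subgroup.mem_sup_right (Subgroup.mem_zpowers (z : X))))
  have hw'A : w' ∈ A := Subgroup.mem_inf.mpr ⟨hW'.mem, by
    rw [mem_stabilizer_iff, ← hfix']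
    have h1 := fixPts_conj_image (H := H) w' w'
    rw [mul_inv_cancel_right] at h1
    exact h1.symm⟩
  have h4 : (⟨w', hw'A⟩ : A) ^ 2 ^ 2 = 1 := Subtype.ext (by
    show w' ^ 2 ^ 2 = 1
    rw [show (2 : ℕ) ^ 2 = 2 * 2 from rfl, pow_mul, pow_two w', hW'.sq, pow_two, h.inv.2])
  obtain ⟨i, -, hi⟩ := (Nat.dvd_prime_pow Nat.prime_two).mp (orderOf_dvd_of_pow_eq_one h4)
  obtain ⟨V, hV⟩ := (IsPGroup.of_card (n := i) (by rw [Nat.card_zpowers, hi]) :
    IsPGroup 2 ↥(Subgroup.zpowers (⟨w', hw'A⟩ : A))).exists_le_sylow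
  obtain ⟨m, hm⟩ := MulAction.exists_smul_eq ↥A V U
  have h5 : m * ⟨w', hw'A⟩ * m⁻¹ ∈ ((m • V : Sylow 2 A) : Subgroup A) :=
    ⟨_, hV (Subgroup.mem_zpowers _), rfl⟩
  rw [hm, hUT] at h5
  refine ⟨(m : X) * k', mul_mem (Subgroup.mem_inf.mp m.2).1 hk', ?_⟩
  rw [show (m : X) * k' * w * ((m : X) * k')⁻¹ = (m : X) * w' * (m : X)⁻¹ by rw [hw']; group]
  refine Subgroup.mem_inf.mpr ⟨h5, mem_fixer.mpr fun c hc => ?_⟩
  have h6 : fixPts H ((m : X) * w' * (m : X)⁻¹) = fixPts H s := by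
    rw [fixPts_conj_image, hfix']
    exact mem_stabilizer_iff.mp (Subgroup.mem_inf.mp m.2).2
  exact h6.ge hc

/-- Case (B): the twin groups. -/
theorem twin : Twin H P t (seatR H P s) C := by
  have hS' := E.seat' h
  have hs1 : s ≠ 1 := fun e => h.inv.1 (by rw [← E.seat.world.sq, e, one_mul])
  have hst : s ≠ t := fun e => h.inv.1 (E.seat.world.sq.symm.trans (by rw [e, h.inv.2]))
  -- the exchange
  have hswap : ∀ x, x ∈ seatR H P s ↔ g * x * g⁻¹ ∈ C := fun x => by
    rw [← E.eq, Seat.mem_seatR_self h E.seat.world E.g_mem, show g⁻¹ * (g * x * g⁻¹) * g = x by group]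
  have hg'n : g ∉ seatT P (g * s * g⁻¹) := by rw [E.g_T]; exact E.g_out
  have hgT' : seatT P (g * (g * s * g⁻¹) * g⁻¹) = seatT P (g * s * g⁻¹) := Subgroup.ext fun x => by
    rw [Seat.mem_seatT_self h hS'.world E.g_mem, E.g_T]
    exact E.normal_T h hno E.g_mem x
  have hswap' : ∀ x, x ∈ C ↔ g * x * g⁻¹ ∈ seatR H P s := fun x => by
    rw [← hS'.image_eq h E.back E.g_mem hgT' hg'n, Seat.mem_seatR_self h hS'.world E.g_mem, E.eq,
      show g⁻¹ * (g * x * g⁻¹) * g = x by group]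
  have htR := E.seat.t_mem h
  have hTle : seatR H P s ≤ seatT P s := inf_le_left
  -- `H` centralising `C` is transitive on `R`
  have htrans : ∀ r ∈ seatR H P s, ∀ r' ∈ seatR H P s, r ≠ 1 → r ≠ t → r' ≠ 1 → r' ≠ t →
      ∃ k ∈ H, (∀ c ∈ C, Commute k c) ∧ (∀ x ∈ seatR H P s, k * x * k⁻¹ ∈ seatR H P s) ∧
        (k * r * k⁻¹ = r' ∨ k * r * k⁻¹ = r' * t) := by
    intro r hr r' hr' h1 h2 h3 h4
    obtain ⟨k, hk, hkC, hkR, e⟩ := E.back.trans r hr r' hr' h1 h2 h3 h4
    exact ⟨k, hk, fun c hc => hkC c (by rw [E.eq]; exact hc), hkR, e⟩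
  refine ⟨hTle.trans inf_le_left, E.data.C_le.trans inf_le_left, E.data.C_comm,
    fun x hx hxC => E.data.C_inf x hxC hx, htR, E.back.C_card, fun r hr => E.sq_R h hr, E.back.C_anti,
    ⟨g, E.g_mem, hswap, hswap'⟩, fun h' r hr hr1 hrt => ?_, htrans, fun r hr hr1 hrt x hx r' hr' => ?_, ?_,
    fun w hw => E.worlds h hno hw, fun v hvP hv hvt hvR => ?_⟩
  · obtain ⟨hWr, hfr⟩ := E.fix_R h hr hr1 hrt
    have hr2 := E.sq_R h hr hr1 hrt
    refine ⟨hWr, ?_, ?_⟩
    · refine sup_le (fun x hx => ?_) fun x hx =>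
        h.mem_normalizer hr2 (Or.inl (by rw [(E.data.C_comm x hx r hr).eq, mul_inv_cancel_right]))
      refine h.mem_normalizer hr2 ?_
      by_cases hxn : x = 1 ∨ x = t ∨ x = r ∨ x = r * t
      · left
        rcases hxn with rfl | rfl | rfl | rfl
        · group
        · rw [← (h.central r).eq, mul_inv_cancel_right]
        · group
        · rw [((Commute.refl r).mul_left (h.central r).symm).eq, mul_inv_cancel_right]
      · push Not at hxn
        right
        have e := E.back.C_anti r hr x hx hr1 hrt hxn.1 hxn.2.1 hxn.2.2.1 hxn.2.2.2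
        calc x * r * x⁻¹ = x * r * t * (t * x⁻¹) := by rw [← mul_assoc, mul_assoc (x * r), h.inv.2, mul_one]
          _ = r * x * (x⁻¹ * t) := by rw [← e, (h.central x⁻¹).eq]
          _ = r * t := by group
    -- a transporter from `s`
    obtain ⟨k, hk, hkC, hkR, hkr⟩ : ∃ k ∈ H, (∀ c ∈ C, Commute k c) ∧
        (∀ x ∈ seatR H P s, k * x * k⁻¹ ∈ seatR H P s) ∧ k * s * k⁻¹ = r := by
      obtain ⟨k, hk, hkC, hkR, e⟩ := htrans s (E.seat.s_mem h) r hr hs1 hst hr1 hrt
      rcases e with e | e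
      · exact ⟨k, hk, hkC, hkR, e⟩
      obtain ⟨r', hr', hr'2, hanti⟩ := E.data.partner r hr hr2
      refine ⟨r' * k, mul_mem (h.P_le (hTle hr').1) hk, fun c hc => (E.data.C_comm c hc r' hr').symm.mul_left (hkC c hc),
        fun x hx => ?_, ?_⟩
      · rw [show r' * k * x * (r' * k)⁻¹ = r' * (k * x * k⁻¹) * r'⁻¹ by group]
        exact mul_mem (mul_mem hr' (hkR x hx)) (inv_mem hr')
      · rw [show r' * k * s * (r' * k)⁻¹ = r' * (k * s * k⁻¹) * r'⁻¹ by group, e, ← mul_assoc, ← hanti,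
          mul_inv_cancel_right]
    have hSr : Seat H (k • P) t r := hkr ▸ E.seat.conj h hk
    obtain ⟨C₃, hC₃, P', hP', hP'H, hQ⟩ := hSr.exists_data (Seat.pt_conj h hk)
    have hkRiff : ∀ x, k⁻¹ * x * k ∈ seatR H P s ↔ x ∈ seatR H P s := by
      have hkN : k ∈ Subgroup.normalizer (seatR H P s : Set X) := Comp.mem_normalizer_of_maps hkR
      intro x
      have h1 := Subgroup.mem_normalizer_iff.mp hkN (k⁻¹ * x * k)
      rwa [show k * (k⁻¹ * x * k) * k⁻¹ = x by group] at h1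
    have hRk : seatR H (k • P) r = seatR H P s := Subgroup.ext fun x => by
      rw [← hkr, Seat.mem_seatR_conj h E.seat.world hk, hkRiff]
    rw [hRk] at hQ
    -- the quaternion partner is `C`
    have hCN : ∀ c ∈ C, c ∈ Subgroup.normalizer (Subgroup.zpowers r : Set X) := fun c hc =>
      h.mem_normalizer hr2 (Or.inl (by rw [(E.data.C_comm c hc r hr).eq, mul_inv_cancel_right]))
    have hrN : r ∈ Subgroup.normalizer (Subgroup.zpowers r : Set X) :=
      Subgroup.le_normalizer (Subgroup.mem_zpowers r)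
    have htC₃ : World.tN h r ∈ C₃.subgroupOf (Subgroup.normalizer (Subgroup.zpowers r : Set X)) := by
      obtain ⟨c, hc, hc1, hct, -, -⟩ := exists_outside
        (C := C₃.subgroupOf (Subgroup.normalizer (Subgroup.zpowers r : Set X)))
        (by rw [hQ.C_card]; norm_num) 1 (World.tN h r) 1 1
      have h1 : c * c ∈ C₃.subgroupOf (Subgroup.normalizer (Subgroup.zpowers r : Set X)) := mul_mem hc hc
      have h2 := hQ.C_sq c hc hc1 hct
      rw [h2] at h1
      exact h1
    have hle : C ≤ C₃ := fun c hc => by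
      by_cases hc1 : c = 1
      · rw [hc1]; exact one_mem _
      by_cases hct : c = t
      · rw [hct]; exact htC₃
      have hc2 := E.data.C_sq c hc hc1 hct
      have hcT : c ∈ seatT (k • P) r := by
        rw [← hkr, Seat.mem_seatT_conj h E.seat.world hk,
          show k⁻¹ * c * k = c by rw [mul_assoc, ← (hkC c hc).eq, inv_mul_cancel_left]]
        exact E.data.C_le hc
      exact hQ.mem_C (hSr.world.pt (Seat.pt_conj h hk) hP'H) htC₃ (x := ⟨c, hCN c hc⟩) (r := ⟨r, hrN⟩)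
        (by rw [hP']; exact hcT) (Subtype.ext hc2)
        (fun hcR => (E.data.C_inf c hc hcR).elim hc1 hct) hr (Subtype.ext hr2)
        (Subtype.ext (E.data.C_comm c hc r hr).eq)
    have hC : C = C₃ := by
      refine Subgroup.eq_of_le_of_card_ge hle ?_
      rw [E.data.C_card, ← Nat.card_congr (Subgroup.subgroupOfEquivOfLe (hC₃.trans inf_le_right)).toEquiv, hQ.C_card]
    refine ⟨P', hP'H, ?_⟩
    rw [hC]
    exact hQ
  · refine fix_iff.mp (mem_fixer.mp (Subgroup.mem_inf.mp hr').2 _ ?_)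
    rw [← (E.fix_R h hr hr1 hrt).2]
    exact fix_iff.mpr hx
  · -- a point fixed by `R`, moved by `C`
    obtain ⟨c, hc, hc'⟩ : ∃ c ∈ fixPts H s, c ∉ fixPts H (g * s * g⁻¹) := by
      by_contra hall
      push Not at hall
      exact E.seat.fix_ne h E.g_mem E.g_T E.g_out (E.seat.world.fix_eq h hS'.world hall)
    induction c using QuotientGroup.induction_on with
    | _ x =>
      exact ⟨x, fun r hr => fix_iff.mp (mem_fixer.mp (Subgroup.mem_inf.mp hr).2 _ hc), g * s * g⁻¹,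
        E.eq ▸ hS'.s_mem h, fun e => hc' (fix_iff.mpr e)⟩
  · exact E.data.member v (E.seat.mem_of_normalizer h hvP hvR) hv hvt

/-- Every member of `P` lies with `t` in an elementary subgroup of order eight of `P`. -/
theorem overEight : Over P t := by
  intro v hvP hv hvt
  have htT : t ∈ seatT P s := (Subgroup.mem_inf.mp (E.seat.t_mem h)).1
  have hTP : ∀ x ∈ seatT P s, x ∈ (P : Subgroup X) := fun x hx => (Subgroup.mem_inf.mp hx).1
  have hRT : ∀ r ∈ seatR H P s, r ∈ seatT P s := fun r hr => (Subgroup.mem_inf.mp hr).1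
  -- a product of two elements of square `t` from `R` and `C` is an involution other than `t`
  have hprod : ∀ r ∈ seatR H P s, ∀ c ∈ C, r * r = t → c * c = t → IsInv (r * c) ∧ r * c ≠ t := by
    intro r hr c hc hr2 hc2
    have hnot : r ∉ C := fun hrC => by
      rcases E.data.C_inf r hrC hr with e | e <;> rw [e] at hr2
      · exact h.inv.1 (by rw [← hr2, one_mul])
      · exact h.inv.1 (hr2.symm.trans h.inv.2)
    refine ⟨⟨fun e => hnot ?_, by rw [(E.data.C_comm c hc r hr).mul_mul_mul_comm, hr2, hc2, h.inv.2]⟩,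
      fun e => hnot ?_⟩
    · rw [eq_inv_of_mul_eq_one_left e]; exact inv_mem hc
    · rw [eq_mul_inv_of_mul_eq e]; exact mul_mem E.data.t_mem (inv_mem hc)
  suffices hw : ∃ w ∈ (P : Subgroup X), IsInv w ∧ w ≠ t ∧ w ≠ v ∧ w ≠ t * v ∧ Commute v w by
    obtain ⟨w, hwP, hw, hwt, hwv, hwtv, hcw⟩ := hw
    have o2 : ∀ {a : X}, IsInv a → orderOf a = 2 := fun ha => Bender.Assembly.orderOf_two ha
    obtain ⟨hA, h4⟩ := card_pair (o2 h.inv) (o2 hv) hvt.symm (h.central v).symm.eq
    obtain ⟨U, -, -, -, htU, hvU, hU⟩ := CoreKill.pair_group h.inv hv hvt.symm (h.central v).symm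
    have hle : Subgroup.zpowers t ⊔ Subgroup.zpowers v ≤ U :=
      sup_le (Subgroup.zpowers_le.mpr htU) (Subgroup.zpowers_le.mpr hvU)
    have hwc : ∀ a ∈ U, Commute a w := fun a ha => by
      rcases hU a ha with rfl | rfl | rfl | rfl
      · exact Commute.one_left w
      · exact (h.central w).symm
      · exact hcw
      · exact (h.central w).symm.mul_left hcw
    have hB := TwoLocalSignalizer.ea_sup hA (CoreKill.ea_zpowers hw.2) fun a ha b hb => by
      obtain ⟨i, rfl⟩ := Subgroup.mem_zpowers_iff.mp hb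
      exact ((hwc a (hle ha)).zpow_right i).eq
    refine ⟨_, sup_le (sup_le (Subgroup.zpowers_le.mpr (hTP t htT)) (Subgroup.zpowers_le.mpr hvP))
      (Subgroup.zpowers_le.mpr hwP), hB, TwoLocalSignalizer.eight_le_of_four_lt (Signalizer.isPGroup_ea hB) ?_,
      Subgroup.mem_sup_left (Subgroup.mem_sup_left (Subgroup.mem_zpowers t)),
      Subgroup.mem_sup_left (Subgroup.mem_sup_right (Subgroup.mem_zpowers v))⟩
    refine lt_of_le_of_ne (h4 ▸ Subgroup.card_le_of_le le_sup_left) fun e => ?_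
    have h1 := Subgroup.eq_of_le_of_card_ge (le_sup_left (a := Subgroup.zpowers t ⊔ Subgroup.zpowers v)
      (b := Subgroup.zpowers w)) (by omega)
    rcases hU w (hle (h1.ge (Subgroup.mem_sup_right (Subgroup.mem_zpowers w)))) with e' | e' | e' | e'
    exacts [hw.1 e', hwt e', hwv e', hwtv e']
  by_cases hvT : v ∈ seatT P s
  · obtain ⟨r, hr, c, hc, hvrc, hr2, hc2⟩ := E.data.member v hvT hv hvt
    obtain ⟨r', hr', hr'2, hanti⟩ := E.data.partner r hr hr2
    obtain ⟨c', hc', hc'1, hc't, hc'c, hc'ct⟩ := exists_outside (C := C) (by rw [E.data.C_card]; norm_num) 1 t c (c * t)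
    have hc1 : c ≠ 1 := fun e => h.inv.1 (by rw [← hc2, e, one_mul])
    have hct : c ≠ t := fun e => h.inv.1 (hc2.symm.trans (by rw [e, h.inv.2]))
    have hcanti : c * c' = c' * c * t := E.data.C_anti c hc c' hc' hc1 hct hc'1 hc't hc'c hc'ct
    have hc'2 := E.data.C_sq c' hc' hc'1 hc't
    obtain ⟨hwi, hwt⟩ := hprod r' hr' c' hc' hr'2 hc'2
    have hvw : v * (r' * c') = r * r' * (c * c') := by
      rw [hvrc, (E.data.C_comm c hc r' hr').mul_mul_mul_comm]
    have hnot : ∀ e : X, e = 1 ∨ e = t → v * (r' * c') = e → False := by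
      intro e he h1
      rw [hvw] at h1
      have h2 : r * r' ∈ C := by
        rw [eq_mul_inv_of_mul_eq h1]
        refine mul_mem ?_ (inv_mem (mul_mem hc hc'))
        rcases he with rfl | rfl
        exacts [one_mem _, E.data.t_mem]
      have h3 : Commute r r' := by
        rcases E.data.C_inf _ h2 (mul_mem hr hr') with e' | e'
        · rw [eq_inv_of_mul_eq_one_right e']; exact (Commute.refl r).inv_right
        · rw [show r' = r⁻¹ * t by rw [← e', inv_mul_cancel_left]]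
          exact (Commute.refl r).inv_right.mul_right (h.central r)
      rw [h3.eq] at hanti
      exact h.inv.1 (mul_eq_left.mp hanti.symm)
    refine ⟨r' * c', mul_mem (hTP _ (hRT r' hr')) (hTP _ (E.data.C_le hc')), hwi, hwt,
      fun e => hnot 1 (Or.inl rfl) (by rw [e, hv.2]), fun e => hnot t (Or.inr rfl) ?_, ?_⟩
    · rw [e, (h.central v).symm.eq, ← mul_assoc, hv.2, one_mul]
    · show v * (r' * c') = r' * c' * v
      rw [hvw, hvrc, (E.data.C_comm c' hc' r hr).mul_mul_mul_comm, hanti, hcanti,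
        (h.central (c' * c)).symm.mul_mul_mul_comm, h.inv.2, mul_one]
  · -- `v` exchanges `R` and `C`
    have hgv : g⁻¹ * v ∈ seatT P s := by
      refine (E.coset_of_sub h hno hvP (E.sub_T h hno (E.seat.conj_self h hvP) fun x hx y => ?_)).resolve_left hvT
      exact E.normal_T h hno (Subgroup.mem_inf.mp (Subgroup.mem_inf.mp hx).1).1 y
    have hsR := E.seat.s_mem h
    have hsC : v * s * v⁻¹ ∈ C := by
      rw [← E.eq, Seat.mem_seatR_self h E.seat.world E.g_mem,
        show g⁻¹ * (v * s * v⁻¹) * g = g⁻¹ * v * s * (g⁻¹ * v)⁻¹ by group]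
      exact (Subgroup.mem_normalizer_iff.mp (E.seat.R_normal h hgv) s).mp hsR
    have hc2 : v * s * v⁻¹ * (v * s * v⁻¹) = t := by
      rw [show v * s * v⁻¹ * (v * s * v⁻¹) = v * (s * s) * v⁻¹ by group, E.seat.world.sq, (h.central v).eq,
        mul_inv_cancel_right]
    obtain ⟨hwi, hwt⟩ := hprod s hsR _ hsC E.seat.world.sq hc2
    have haT : s * (v * s * v⁻¹) ∈ seatT P s := mul_mem (hRT s hsR) (E.data.C_le hsC)
    refine ⟨_, hTP _ haT, hwi, hwt, fun e => hvT (e ▸ haT), fun e => hvT ?_, ?_⟩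
    · have h1 := mul_mem htT (e ▸ haT : t * v ∈ seatT P s)
      rwa [← mul_assoc, h.inv.2, one_mul] at h1
    · refine (mul_inv_eq_iff_eq_mul.mp ?_ : v * _ = _)
      calc v * (s * (v * s * v⁻¹)) * v⁻¹ = v * s * v⁻¹ * (v * v * s * (v * v)⁻¹) := by group
        _ = v * s * v⁻¹ * s := by rw [hv.2, one_mul, inv_one, mul_one]
        _ = s * (v * s * v⁻¹) := (E.data.C_comm _ hsC s hsR).eq

end Exch

/-- Worlds none of which is normalised by a Sylow subgroup give a twin. -/
theorem Pt.exists_twin (h : Pt H P t) (hW : World H t s)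
    (hno : ∀ r, World H t r → ¬ (P : Subgroup X) ≤ Subgroup.normalizer (Subgroup.zpowers r : Set X)) :
    ∃ R C : Subgroup X, Twin H P t R C := by
  obtain ⟨r, hr, -⟩ := exists_seat h hW
  obtain ⟨g, C, E⟩ := exists_exch h hr hno
  exact ⟨_, _, E.twin h hno⟩

/-- Worlds none of which is normalised by a Sylow subgroup give a twin, and then `P` has a member of an elementary
subgroup of order eight over each of its members. -/
theorem Pt.exists_twin_over (h : Pt H P t) (hW : World H t s)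
    (hno : ∀ r, World H t r → ¬ (P : Subgroup X) ≤ Subgroup.normalizer (Subgroup.zpowers r : Set X)) :
    (∃ R C : Subgroup X, Twin H P t R C) ∧ Over P t := by
  obtain ⟨r, hr, -⟩ := exists_seat h hW
  obtain ⟨g, C, E⟩ := exists_exch h hr hno
  exact ⟨⟨_, _, E.twin h hno⟩, E.overEight h hno⟩

end CfsgLib.CoreKill.Local
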