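import Cfsg.Agent.Lib.CoreKill.Fail.Twin.Cover
import Cfsg.Agent.Lib.CoreKill.OddPart

/-!
Balance and rigidity in case (B): an element of odd order fixing the line of `r` pointwise and centralising `r` fixes
the line of `C`, so by covering everything; the odd groups at a member are generated by such elements.

Blueprint: `blueprint/bender/CoreKill.md`, 4 (B).
-/

set_option autoImplicit false
set_option linter.unusedSectionVars false
set_option linter.style.haveILetI false

universe u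

namespace CfsgLib.CoreKill.Local

open Cfsg MulAction
open CfsgLib.Bender.TwoClosed (IsInv)
open CfsgLib.Bender.Assembly (fix_iff)

variable {X : Type u} [Group X] [Finite X] {H : Subgroup X} {P : Sylow 2 X} {t : X} {R C : Subgroup X}

/-- The elements of a subgroup commuting with `c` are normalised by what keeps `c` modulo `t`. -/
theorem normalizes_inf (h : Pt H P t) {A : Subgroup X} {c g : X} (hA : g ∈ Subgroup.normalizer (A : Set X))
    (hg : g * c * g⁻¹ = c ∨ g * c * g⁻¹ = c * t) :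
    g ∈ Subgroup.normalizer ((A ⊓ Subgroup.centralizer ({c} : Set X) : Subgroup X) : Set X) := by
  refine Comp.mem_normalizer_of_maps fun x hx => ⟨(Subgroup.mem_normalizer_iff.mp hA x).mp hx.1, ?_⟩
  refine Subgroup.mem_centralizer_singleton_iff.mpr ?_
  have hxc : x * c = c * x := Subgroup.mem_centralizer_singleton_iff.mp hx.2
  obtain ⟨c', hxc', hgc'⟩ : ∃ c', x * c' = c' * x ∧ g * c' * g⁻¹ = c := by
    rcases hg with e | e
    · exact ⟨c, hxc, e⟩
    · refine ⟨c * t, ?_, ?_⟩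
      · rw [← mul_assoc, hxc, mul_assoc, (h.central x).eq, ← mul_assoc]
      · rw [show g * (c * t) * g⁻¹ = g * c * g⁻¹ * (g * t * g⁻¹) by group, e, (h.central g).eq, mul_inv_cancel_right,
          mul_assoc, h.inv.2, mul_one]
  rw [← hgc']
  calc g * x * g⁻¹ * (g * c' * g⁻¹) = g * (x * c') * g⁻¹ := by group
    _ = g * (c' * x) * g⁻¹ := by rw [hxc']
    _ = g * c' * g⁻¹ * (g * x * g⁻¹) := by group

/-- The pointwise stabiliser of a set. -/
def fixAll (H : Subgroup X) (S : Set (X ⧸ H)) : Subgroup X := ⨅ p ∈ S, MulAction.stabilizer X p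

theorem mem_fixAll {S : Set (X ⧸ H)} {x : X} : x ∈ fixAll H S ↔ ∀ p ∈ S, x • p = p := by
  simp only [fixAll, Subgroup.mem_iInf, mem_stabilizer_iff]

namespace Twin

variable (h : Pt H P t) (T : Twin H P t R C)
include h T

/-- An odd subgroup of the kernel lies in the odd core. -/
theorem kernel_odd {x : X} (hx : x ∈ H.normalCore) (hodd : Odd (orderOf x)) : x ∈ oddCore X := by
  haveI : Fact (Nat.Prime 2) := ⟨Nat.prime_two⟩
  haveI : H.normalCore.Normal := Subgroup.normalCore_normal _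
  set K := H.normalCore
  obtain ⟨Sy, hSy⟩ := PLocal.exists_sylow_inf P K
  have hTW : Subgroup.zpowers t ≤ K := Subgroup.zpowers_le.mpr h.t_mem_R.2
  have hTc : ∀ a ∈ Subgroup.zpowers t, ∀ w ∈ K, Commute a w := fun a ha w _ => by
    obtain ⟨i, rfl⟩ := Subgroup.mem_zpowers_iff.mp ha
    exact ((h.central w).symm).zpow_left i
  have hodd' : Odd ((Subgroup.zpowers t).relIndex K) := by
    have e : (Subgroup.zpowers t).subgroupOf K = (Sy : Subgroup K) := by
      refine Subgroup.map_injective K.subtype_injective ?_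
      rw [Subgroup.map_subgroupOf_eq_of_le hTW, hSy]
      refine le_antisymm (le_inf (Subgroup.zpowers_le.mpr h.t_mem_P) hTW) fun k hk => ?_
      rcases T.kernel_sylow h hk.1 hk.2 with e | e <;> rw [e]
      · exact one_mem _
      · exact Subgroup.mem_zpowers t
    rw [Subgroup.relIndex, e]
    exact Nat.odd_iff.mpr (Nat.two_dvd_ne_zero.mp Sy.not_dvd_index)
  refine le_core_of_normalized (K := K) (A := oddElts K _ hTW hTc hodd') (odd_card_of_forall fun a ha => ha.2)
    (fun a ha => ha.1) (fun g hg => Comp.mem_normalizer_of_maps fun a ha => ⟨?_, ?_⟩) ⟨hx, hodd⟩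
  · exact Subgroup.Normal.conj_mem inferInstance a ha.1 g
  · rw [Involutions.orderOf_conj]; exact ha.2

variable {r : X} (hr : r ∈ R) (hr1 : r ≠ 1) (hrt : r ≠ t)
include hr hr1 hrt

/-- An odd element centralising `r` and fixing its line pointwise lies in the odd core. -/
theorem line_core {x : X} (hodd : Odd (orderOf x)) (hxr : Commute x r) (hxD : ∀ p ∈ fixSet H r, x • p = p) :
    x ∈ oddCore X := by
  haveI : Fact (Nat.Prime 2) := ⟨Nat.prime_two⟩
  have hr2 := T.r_sq h hr hr1 hrt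
  set W := Subgroup.centralizer ({r} : Set X) ⊓ fixAll H (fixSet H r)
  have hrW : r ∈ W := ⟨Subgroup.mem_centralizer_singleton_iff.mpr rfl, mem_fixAll.mpr fun p hp => hp⟩
  have hTW : Subgroup.zpowers r ≤ W := Subgroup.zpowers_le.mpr hrW
  have hTc : ∀ a ∈ Subgroup.zpowers r, ∀ w ∈ W, Commute a w := fun a ha w hw => by
    obtain ⟨i, rfl⟩ := Subgroup.mem_zpowers_iff.mp ha
    exact (show Commute r w from (Subgroup.mem_centralizer_singleton_iff.mp hw.1).symm).zpow_left i
  -- a Sylow subgroup of `W` is `<r>`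
  have hodd' : Odd ((Subgroup.zpowers r).relIndex W) := by
    have hT2 : IsPGroup 2 ↥((Subgroup.zpowers r).subgroupOf W) := by
      refine IsPGroup.comap_subtype ?_
      obtain ⟨i, -, hi⟩ := (Nat.dvd_prime_pow Nat.prime_two).mp (orderOf_dvd_of_pow_eq_one (show r ^ 2 ^ 2 = 1 by
        rw [show (2 : ℕ) ^ 2 = 2 * 2 from rfl, pow_mul, pow_two r, hr2, pow_two, h.inv.2]))
      exact IsPGroup.of_card (n := i) (by rw [Nat.card_zpowers, hi])
    obtain ⟨S, hS⟩ := hT2.exists_le_sylow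
    set U := (S : Subgroup W).map W.subtype
    have hUW : U ≤ W := Subgroup.map_subtype_le _
    have hUN : U ≤ Subgroup.normalizer (Subgroup.zpowers r : Set X) := fun u hu =>
      h.mem_normalizer hr2 (Or.inl (by
        rw [Subgroup.mem_centralizer_singleton_iff.mp (hUW hu).1, mul_inv_cancel_right]))
    obtain ⟨m, hmN, -, hm⟩ := T.kernel_conj h hr hr1 hrt (S.isPGroup'.map _) hUN
      (fun u hu => fix_base.mp (mem_fixAll.mp (hUW hu).2 _ (T.base_mem h hr)))
      (fun u hu => mem_fixAll.mp (hUW hu).2)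
    have hUle : U ≤ Subgroup.zpowers r := by
      intro u hu
      set v := m * u * m⁻¹ with hv
      have hvR : v ∈ R := hm u hu
      have huc : u * r = r * u := Subgroup.mem_centralizer_singleton_iff.mp (hUW hu).1
      have hvc : Commute v r := by
        have key : ∀ r', Commute u r' → m * r' * m⁻¹ = r → Commute v r := fun r' hr' e => by
          rw [hv, ← e]
          show m * u * m⁻¹ * (m * r' * m⁻¹) = m * r' * m⁻¹ * (m * u * m⁻¹)
          calc m * u * m⁻¹ * (m * r' * m⁻¹) = m * (u * r') * m⁻¹ := by group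
            _ = m * (r' * u) * m⁻¹ := by rw [hr'.eq]
            _ = _ := by group
        rcases h.conj_eq hr2 hmN with e | e
        · exact key r huc e
        · refine key (r * t) ((show Commute u r from huc).mul_right (h.central u)) ?_
          rw [show m * (r * t) * m⁻¹ = m * r * m⁻¹ * (m * t * m⁻¹) by group, e, (h.central m).eq, mul_inv_cancel_right,
            mul_assoc, h.inv.2, mul_one]
      have hv4 : v = 1 ∨ v = t ∨ v = r ∨ v = r * t := by
        by_contra hcon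
        push Not at hcon
        have e := T.anti r hr v hvR hr1 hrt hcon.1 hcon.2.1 hcon.2.2.1 hcon.2.2.2
        rw [← hvc.eq] at e
        exact h.inv.1 (mul_eq_left.mp e.symm)
      have hu' : u = m⁻¹ * v * m := by rw [hv]; group
      have hm' : m⁻¹ ∈ Subgroup.normalizer (Subgroup.zpowers r : Set X) := inv_mem hmN
      have hvz : v ∈ Subgroup.zpowers r := by
        rcases hv4 with e | e | e | e <;> rw [e]
        · exact one_mem _
        · rw [← hr2]; exact mul_mem (Subgroup.mem_zpowers r) (Subgroup.mem_zpowers r)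
        · exact Subgroup.mem_zpowers r
        · rw [← hr2]; exact mul_mem (Subgroup.mem_zpowers r) (mul_mem (Subgroup.mem_zpowers r) (Subgroup.mem_zpowers r))
      rw [hu']
      have h1 := (Subgroup.mem_normalizer_iff.mp hm' v).mp hvz
      rwa [inv_inv] at h1
    have e : (Subgroup.zpowers r).subgroupOf W = (S : Subgroup W) := le_antisymm hS fun u hu => hUle ⟨u, hu, rfl⟩
    rw [Subgroup.relIndex, e]
    exact Nat.odd_iff.mpr (Nat.two_dvd_ne_zero.mp S.not_dvd_index)
  set O := oddElts W _ hTW hTc hodd'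
  have hOodd : Odd (Nat.card O) := odd_card_of_forall fun a ha => ha.2
  obtain ⟨htC, hC8, hCsq, hCanti⟩ := T.C_facts h
  obtain ⟨c, hc, hc1, hct, -, -⟩ := T.exists_other h hC8 1
  obtain ⟨d, hd, hd1, hdt, hdc, hdct⟩ := T.exists_other h hC8 c
  have hcd1 : c * d ≠ 1 := fun e => hdct (by rw [eq_inv_of_mul_eq_one_right e, h.inv_eq_mul (hCsq c hc hc1 hct)])
  have hcdt : c * d ≠ t := fun e => hdc (by
    rw [show d = c⁻¹ * t by rw [← e, inv_mul_cancel_left], h.inv_eq_mul (hCsq c hc hc1 hct), mul_assoc, h.inv.2,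
      mul_one])
  have hCn : ∀ {g}, g ∈ C → g ∈ Subgroup.normalizer (O : Set X) := fun {g} hg => Comp.mem_normalizer_of_maps
    fun a ha => by
      obtain ⟨⟨har, haD⟩, hao⟩ := ha
      refine ⟨⟨?_, mem_fixAll.mpr fun p hp => ?_⟩, by rw [Involutions.orderOf_conj]; exact hao⟩
      · refine Subgroup.mem_centralizer_singleton_iff.mpr ?_
        have h1 : Commute a r := Subgroup.mem_centralizer_singleton_iff.mp har
        have h2 : Commute g r := T.comm g hg r hr
        exact ((h2.mul_left h1).mul_left h2.inv_left).eq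
      · rw [mul_smul, mul_smul, mem_fixAll.mp haD _ ((fixSet_move h (T.C_mod h hr (inv_mem hg))).mp hp),
          smul_inv_smul]
  -- the line of `C` is fixed
  have hline : O ≤ fixAll H (fixSet H c) := by
    refine gen_mod h.inv h.central hOodd (Or.inr (hCsq c hc hc1 hct)) (Or.inr (hCsq d hd hd1 hdt))
      (Or.inr (hCanti c hc d hd hc1 hct hd1 hdt hdc hdct)) ⟨hc1, hct⟩ ⟨hd1, hdt⟩ ⟨hcd1, hcdt⟩ (hCn hc) (hCn hd)
      fun a ha hac => mem_fixAll.mpr ?_
    obtain ⟨c', hc', hc'1, hc't, hac'⟩ : ∃ c' ∈ C, c' ≠ 1 ∧ c' ≠ t ∧ Commute a c' := by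
      rcases hac with e | e | e
      · exact ⟨c, hc, hc1, hct, e⟩
      · exact ⟨d, hd, hd1, hdt, e⟩
      · exact ⟨c * d, mul_mem hc hd, hcd1, hcdt, e⟩
    rw [T.fixC_eq h hc hc1 hct hc' hc'1 hc't]
    have hmove : ∀ {g : X}, Commute g c' → ∀ p ∈ fixSet H c', g • p ∈ fixSet H c' := fun {g} hg p hp =>
      (fixSet_move h (Or.inl (by rw [hg.eq, mul_inv_cancel_right]))).mp hp
    exact five_odd (T.card_fixC h hc' hc'1 hc't) (fix_base.mpr (T.C_mem_H h hc'))
      (hmove (T.comm c' hc' r hr).symm) (fix_base.mpr (T.R_mem_H h hr))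
      (fun p _ => by rw [← mul_smul, hr2, h.t_fix])
      (fun p hp e => T.eq_base h hr hc' hr2 (hCsq c' hc' hc'1 hc't) e hp) ha.2 (hmove hac')
      (mem_fixAll.mp ha.1.2 _ (T.base_mem h hr))
      (fun p _ => by
        rw [← mul_smul, ← mul_smul, (show Commute a r from Subgroup.mem_centralizer_singleton_iff.mp ha.1.1).eq])
  -- covering
  refine T.kernel_odd h (Bender.Q.mem_normalCore_of_fix fun b => ?_) hodd
  by_cases hb : b ∈ fixSet H r
  · exact hxD b hb
  obtain ⟨n, hn, hnC⟩ := T.cover h hr hr1 hrt hb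
  have hxO : n⁻¹ * x * n ∈ O := by
    have hn' : n⁻¹ ∈ Subgroup.normalizer (Subgroup.zpowers r : Set X) := inv_mem hn
    refine ⟨⟨?_, mem_fixAll.mpr fun p hp => ?_⟩, ?_⟩
    · refine Subgroup.mem_centralizer_singleton_iff.mpr ?_
      have key : ∀ r', Commute x r' → n⁻¹ * r' * n = r → n⁻¹ * x * n * r = r * (n⁻¹ * x * n) := fun r' hr' e => by
        rw [← e]
        calc n⁻¹ * x * n * (n⁻¹ * r' * n) = n⁻¹ * (x * r') * n := by group
          _ = n⁻¹ * (r' * x) * n := by rw [hr'.eq]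
          _ = _ := by group
      rcases h.conj_eq hr2 hn' with e | e <;> rw [inv_inv] at e
      · exact key r hxr e
      · refine key (r * t) (hxr.mul_right (h.central x)) ?_
        rw [show n⁻¹ * (r * t) * n = n⁻¹ * r * n * (n⁻¹ * t * n) by group, e, mul_assoc n⁻¹ t, ← (h.central n).eq,
          inv_mul_cancel_left, mul_assoc, h.inv.2, mul_one]
    · rw [mul_smul, mul_smul, hxD _ ((T.fixSet_N h hr hr1 hrt hn).mp hp), inv_smul_smul]
    · have e : Odd (orderOf (n⁻¹ * x * n⁻¹⁻¹)) := by rw [Involutions.orderOf_conj]; exact hodd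
      rwa [inv_inv] at e
  have h1 := mem_fixAll.mp (hline hxO) _ (hnC c hc hc1 hct)
  rw [mul_smul, mul_smul, smul_inv_smul] at h1
  exact smul_left_cancel n⁻¹ h1

/-- An odd element of `H` centralising `r` and a map of its line fixing only the base point lies in the odd core. -/
theorem small {x v : X} (hodd : Odd (orderOf x)) (hxr : Commute x r) (hxH : x ∈ H) (hxv : Commute x v)
    (hvH : v ∈ H) (hvr : v * r * v⁻¹ = r ∨ v * r * v⁻¹ = r * t) (hv2 : v * v = 1 ∨ v * v = t)
    (hv : ∀ p ∈ fixSet H r, v • p = p → p = base H) : x ∈ oddCore X :=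
  T.line_core h hr hr1 hrt hodd hxr (five_odd (T.card_fix h hr hr1 hrt) (T.base_mem h hr)
    (fun _ hp => (fixSet_move h hvr).mp hp) (fix_base.mpr hvH)
    (fun p _ => by rcases hv2 with e | e <;> rw [← mul_smul, e]; exacts [one_smul _ _, h.t_fix p]) hv hodd
    (fun _ hp => (fixSet_move h (Or.inl (by rw [hxr.eq, mul_inv_cancel_right]))).mp hp) (fix_base.mpr hxH)
    fun p _ => by rw [← mul_smul, ← mul_smul, hxv.eq])

omit hr hr1 hrt in
/-- Balance at a member of the twin. -/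
theorem bal_rc {r c : X} (hr : r ∈ R) (hr1 : r ≠ 1) (hrt : r ≠ t) (hc : c ∈ C) (hc1 : c ≠ 1) (hct : c ≠ t)
    {A : Subgroup X} (hA : Odd (Nat.card A)) (hAC : A ≤ Subgroup.centralizer ({r * c} : Set X))
    (hn : Subgroup.centralizer ({r * c} : Set X) ≤ Subgroup.normalizer (A : Set X)) : A ≤ oddCore X := by
  obtain ⟨htC, hC8, hCsq, hCanti⟩ := T.C_facts h
  have hr2 := T.r_sq h hr hr1 hrt
  have hc2 := hCsq c hc hc1 hct
  set y := r * c with hy
  set A₀ := qOf 2 (Subgroup.centralizer ({y} : Set X)) with hA₀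
  refine (le_qOf hAC hn (Nat.coprime_two_right.mpr hA)).trans ?_
  have hA₀odd : Odd (Nat.card A₀) := Nat.coprime_two_right.mp (card_qOf_coprime 2 _)
  have hyP : y ∈ (P : Subgroup X) := mul_mem (T.R_le hr) (T.C_le hc)
  have hyi : IsInv y := by
    refine ⟨fun e => ?_, by rw [hy, (T.comm c hc r hr).mul_mul_mul_comm, hr2, hc2, h.inv.2]⟩
    have hcR : c ∈ R := by rw [eq_inv_of_mul_eq_one_right e]; exact inv_mem hr
    exact (T.inter c hcR hc).elim hc1 hct
  have hyt : y ≠ t := fun e => by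
    have hcR : c ∈ R := by rw [show c = r⁻¹ * t by rw [← e, hy, inv_mul_cancel_left]]; exact mul_mem (inv_mem hr) T.t_mem
    exact (T.inter c hcR hc).elim hc1 hct
  have hAH : A₀ ≤ H := fun x hx => fix_base.mp (h.commute_fix hyi hyt (fix_base.mpr (h.P_le hyP))
    (Subgroup.mem_centralizer_singleton_iff.mp (qOf_le 2 _ hx)))
  -- `R` and `C` normalise it
  have hnorm : ∀ {g}, (g * y * g⁻¹ = y ∨ g * y * g⁻¹ = y * t) → g ∈ Subgroup.normalizer (A₀ : Set X) :=
    fun {g} hg => normalizer_le_qOf 2 _ (by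
      have := normalizes_inf h (A := (⊤ : Subgroup X)) (c := y) (g := g)
        (Subgroup.le_normalizer (Subgroup.mem_top g)) hg
      rwa [top_inf_eq] at this)
  have hyR : ∀ {r'}, r' ∈ R → r' ∈ Subgroup.normalizer (A₀ : Set X) := fun {r'} hr' => hnorm (by
    have e : r' * y * r'⁻¹ = r' * r * r'⁻¹ * c := by
      rw [hy, show r' * (r * c) * r'⁻¹ = r' * r * (c * r'⁻¹) by group, ((T.comm c hc r' hr').inv_right).eq]; group
    rcases T.R_mod h hr hr' with e1 | e1 <;> rw [e1] at e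
    · exact Or.inl e
    · exact Or.inr (by rw [e, mul_assoc r, ← (h.central c).eq, ← mul_assoc]))
  have hyC : ∀ {c'}, c' ∈ C → c' ∈ Subgroup.normalizer (A₀ : Set X) := fun {c'} hc' => hnorm (by
    have e : c' * y * c'⁻¹ = r * (c' * c * c'⁻¹) := by
      rw [hy, ← mul_assoc, (T.comm c' hc' r hr).eq]; group
    rw [e]
    by_cases h1 : c' = 1 ∨ c' = t ∨ c' = c ∨ c' = c * t
    · refine Or.inl (congrArg (r * ·) ?_)
      rcases h1 with rfl | rfl | rfl | rfl
      · simp
      · rw [← (h.central c).eq, mul_inv_cancel_right]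
      · group
      · rw [mul_inv_eq_iff_eq_mul, mul_assoc, (h.central c).eq]
    · push Not at h1
      refine Or.inr ?_
      rw [mul_assoc r]
      refine congrArg (r * ·) (mul_inv_eq_iff_eq_mul.mpr ?_)
      have e1 := hCanti c hc c' hc' hc1 hct h1.1 h1.2.1 h1.2.2.1 h1.2.2.2
      calc c' * c = c' * c * (t * t) := by rw [h.inv.2, mul_one]
        _ = c * c' * t := by rw [← mul_assoc, e1]
        _ = c * t * c' := by rw [mul_assoc, (h.central c').eq, ← mul_assoc])
  obtain ⟨r', hr', hr'1, hr't, hr'r, hr'rt⟩ := T.exists_other h T.card r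
  have hrr'1 : r * r' ≠ 1 := fun e => hr'rt (by rw [eq_inv_of_mul_eq_one_right e, h.inv_eq_mul hr2])
  have hrr't : r * r' ≠ t := fun e => hr'r (by
    rw [show r' = r⁻¹ * t by rw [← e, inv_mul_cancel_left], h.inv_eq_mul hr2, mul_assoc, h.inv.2, mul_one])
  refine gen_mod h.inv h.central hA₀odd (Or.inr hr2) (Or.inr (T.sq r' hr' hr'1 hr't))
    (Or.inr (T.anti r hr r' hr' hr1 hrt hr'1 hr't hr'r hr'rt)) ⟨hr1, hrt⟩ ⟨hr'1, hr't⟩ ⟨hrr'1, hrr't⟩ (hyR hr)
    (hyR hr') fun x hx hxc => ?_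
  obtain ⟨s, hs, hs1, hst, hxs⟩ : ∃ s ∈ R, s ≠ 1 ∧ s ≠ t ∧ Commute x s := by
    rcases hxc with e | e | e
    · exact ⟨r, hr, hr1, hrt, e⟩
    · exact ⟨r', hr', hr'1, hr't, e⟩
    · exact ⟨r * r', mul_mem hr hr', hrr'1, hrr't, e⟩
  -- inside the centraliser of `s` split by `C`
  obtain ⟨d, hd, hd1, hdt, hdc, hdct⟩ := T.exists_other h hC8 c
  have hcd1 : c * d ≠ 1 := fun e => hdct (by rw [eq_inv_of_mul_eq_one_right e, h.inv_eq_mul hc2])
  have hcdt : c * d ≠ t := fun e => hdc (by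
    rw [show d = c⁻¹ * t by rw [← e, inv_mul_cancel_left], h.inv_eq_mul hc2, mul_assoc, h.inv.2, mul_one])
  have hsub : A₀ ⊓ Subgroup.centralizer ({s} : Set X) ≤ oddCore X := by
    refine gen_mod h.inv h.central (hA₀odd.of_dvd_nat (Subgroup.card_dvd_of_le inf_le_left)) (Or.inr hc2)
      (Or.inr (hCsq d hd hd1 hdt)) (Or.inr (hCanti c hc d hd hc1 hct hd1 hdt hdc hdct)) ⟨hc1, hct⟩ ⟨hd1, hdt⟩
      ⟨hcd1, hcdt⟩ (normalizes_inf h (hyC hc) (T.C_mod h hs hc)) (normalizes_inf h (hyC hd) (T.C_mod h hs hd))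
      fun z hz hzc => ?_
    obtain ⟨c', hc', hc'1, hc't, hzc'⟩ : ∃ c' ∈ C, c' ≠ 1 ∧ c' ≠ t ∧ Commute z c' := by
      rcases hzc with e | e | e
      · exact ⟨c, hc, hc1, hct, e⟩
      · exact ⟨d, hd, hd1, hdt, e⟩
      · exact ⟨c * d, mul_mem hc hd, hcd1, hcdt, e⟩
    exact T.small h hs hs1 hst (hA₀odd.of_dvd_nat (Subgroup.orderOf_dvd_natCard A₀ hz.1))
      (Subgroup.mem_centralizer_singleton_iff.mp hz.2) (hAH hz.1) hzc' (T.C_mem_H h hc') (T.C_mod h hs hc')
      (Or.inr (hCsq c' hc' hc'1 hc't))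
      fun p hp e => T.eq_base h hs hc' (T.r_sq h hs hs1 hst) (hCsq c' hc' hc'1 hc't) hp e
  exact hsub ⟨hx, Subgroup.mem_centralizer_singleton_iff.mpr hxs.eq⟩

omit hr hr1 hrt in
/-- Rigidity at a member of the twin. -/
theorem rigid_rc {r c : X} (hr : r ∈ R) (hr1 : r ≠ 1) (hrt : r ≠ t) (hc : c ∈ C) (hc1 : c ≠ 1) (hct : c ≠ t)
    {B : Subgroup X} (hB : Odd (Nat.card B))
    (hn : Subgroup.centralizer ({r * c} : Set X) ≤ Subgroup.normalizer (B : Set X))
    (hBy : B ⊓ Subgroup.centralizer ({r * c} : Set X) ≤ oddCore X) : B ≤ oddCore X := by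
  haveI : (oddCore X).Normal := inferInstanceAs (pPrimeCore 2 X).Normal
  obtain ⟨htC, hC8, hCsq, hCanti⟩ := T.C_facts h
  have hr2 := T.r_sq h hr hr1 hrt
  have hc2 := hCsq c hc hc1 hct
  have hcr : Commute c r := T.comm c hc r hr
  obtain ⟨r', hr', hr'1, hr't, hr'r, hr'rt⟩ := T.exists_other h T.card r
  obtain ⟨c', hc', hc'1, hc't, hc'c, hc'ct⟩ := T.exists_other h hC8 c
  have hr'2 := T.sq r' hr' hr'1 hr't
  have hc'2 := hCsq c' hc' hc'1 hc't
  have ea := T.anti r hr r' hr' hr1 hrt hr'1 hr't hr'r hr'rt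
  have eb := hCanti c hc c' hc' hc1 hct hc'1 hc't hc'c hc'ct
  have hmem : ∀ {a b : X}, a ∈ R → b ∈ C → a * a = t → b * b = t →
      IsInv (a * b) ∧ a * b ≠ t ∧ a * b ∈ H := by
    intro a b ha hb ha2 hb2
    refine ⟨⟨fun e => ?_, by rw [(T.comm b hb a ha).mul_mul_mul_comm, ha2, hb2, h.inv.2]⟩, fun e => ?_,
      mul_mem (T.R_mem_H h ha) (T.C_mem_H h hb)⟩
    · have hbR : b ∈ R := by rw [eq_inv_of_mul_eq_one_right e]; exact inv_mem ha
      exact (T.inter b hbR hb).elim (T.sq_ne h hb2).1 (T.sq_ne h hb2).2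
    · have hbR : b ∈ R := by rw [show b = a⁻¹ * t by rw [← e, inv_mul_cancel_left]]; exact mul_mem (inv_mem ha) T.t_mem
      exact (T.inter b hbR hb).elim (T.sq_ne h hb2).1 (T.sq_ne h hb2).2
  have hnrm : ∀ {g}, Commute g (r * c) → g ∈ Subgroup.normalizer (B : Set X) := fun {g} hg =>
    hn (Subgroup.mem_centralizer_singleton_iff.mpr hg.eq)
  have hcc' : c * c' * (c * c') = t := hCsq _ (mul_mem hc hc')
    (fun e => hc'ct (by rw [eq_inv_of_mul_eq_one_right e, h.inv_eq_mul hc2]))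
    (fun e => hc'c (by rw [show c' = c⁻¹ * t by rw [← e, inv_mul_cancel_left], h.inv_eq_mul hc2, mul_assoc, h.inv.2,
      mul_one]))
  have hrr' : r * r' * (r * r') = t := T.sq _ (mul_mem hr hr')
    (fun e => hr'rt (by rw [eq_inv_of_mul_eq_one_right e, h.inv_eq_mul hr2]))
    (fun e => hr'r (by rw [show r' = r⁻¹ * t by rw [← e, inv_mul_cancel_left], h.inv_eq_mul hr2, mul_assoc, h.inv.2,
      mul_one]))
  obtain ⟨hv, hvt, hvH⟩ := hmem hr' hc' hr'2 hc'2
  obtain ⟨hw, hwt, hwH⟩ := hmem hr' (mul_mem hc hc') hr'2 hcc'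
  obtain ⟨hu, hut, huH⟩ := hmem (mul_mem hr hr') hc' hrr' hc'2
  set v := r' * c' with hvdef
  have hcr' : Commute c r' := T.comm c hc r' hr'
  have hc'r : Commute c' r := T.comm c' hc' r hr
  have hc'r' : Commute c' r' := T.comm c' hc' r' hr'
  have hvy : Commute v (r * c) := by
    show r' * c' * (r * c) = r * c * (r' * c')
    rw [hc'r.mul_mul_mul_comm, hcr'.mul_mul_mul_comm, ea, eb, mul_assoc (r' * r) t, ← mul_assoc t,
      ← (h.central (c' * c)).eq, mul_assoc (c' * c), h.inv.2, mul_one]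
  have hvr : v * r * v⁻¹ = r ∨ v * r * v⁻¹ = r * t := by
    rw [hvdef, show r' * c' * r * (r' * c')⁻¹ = r' * (c' * r) * c'⁻¹ * r'⁻¹ by group, hc'r.eq,
      show r' * (r * c') * c'⁻¹ * r'⁻¹ = r' * r * r'⁻¹ by group]
    exact T.R_mod h hr hr'
  have hvc : v * c * v⁻¹ = c ∨ v * c * v⁻¹ = c * t := by
    refine Or.inr (mul_inv_eq_iff_eq_mul.mpr ?_)
    calc r' * c' * c = r' * (c' * c * (t * t)) := by rw [h.inv.2, mul_one, mul_assoc]
      _ = r' * (c * c' * t) := by rw [← mul_assoc (c' * c), eb]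
      _ = c * t * (r' * c') := by
          rw [← mul_assoc r', ← mul_assoc r', ← hcr'.eq, mul_assoc c r' c', mul_assoc c (r' * c') t,
            (h.central (r' * c')).eq, ← mul_assoc c t]
  have hvv : v * v = 1 := hv.2
  -- pieces centralising a member
  have hside : ∀ {x g : X}, x ∈ H → Odd (orderOf x) → Commute x g → ∀ {u}, IsInv u → u ≠ t → u ∈ H →
      Commute x u → g ∈ R → g ≠ 1 → g ≠ t → (u * g * u⁻¹ = g ∨ u * g * u⁻¹ = g * t) → x ∈ oddCore X :=
    fun {x g} hxH hxo hxg {u} hu hut huH hxu hg hg1 hgt hug =>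
      T.small h hg hg1 hgt hxo hxg hxH hxu huH hug (Or.inl hu.2)
        fun p _ e => h.eq_of_fix hu hut e (fix_base.mpr huH)
  have hpt : ∀ {x u : X}, IsInv u → u ≠ t → u ∈ H → Commute x u → x ∈ H := fun {x u} hu hut huH hxu =>
    fix_base.mp (h.commute_fix hu hut (fix_base.mpr huH) hxu.eq)
  have hyC : ∀ {x}, x ∈ B → Commute x r → Commute x c → x ∈ oddCore X := fun {x} hx h1 h2 =>
    hBy ⟨hx, Subgroup.mem_centralizer_singleton_iff.mpr (h1.mul_right h2).eq⟩
  have hcy : Commute c (r * c) := hcr.mul_right (Commute.refl c)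
  have hry : Commute r (r * c) := (Commute.refl r).mul_right hcr.symm
  have hpieceR : B ⊓ Subgroup.centralizer ({r} : Set X) ≤ oddCore X := by
    have hcv : c * v = v * c * t := by
      rw [hvdef, ← mul_assoc, hcr'.eq, mul_assoc r', eb]; simp only [mul_assoc]
    have hcv' : c * v = r' * (c * c') := by rw [hvdef, ← mul_assoc, hcr'.eq, mul_assoc]
    refine gen_mod h.inv h.central (hB.of_dvd_nat (Subgroup.card_dvd_of_le inf_le_left)) (Or.inr hc2) (Or.inl hvv)
      (Or.inr hcv) ⟨hc1, hct⟩ ⟨hv.1, hvt⟩ ⟨by rw [hcv']; exact hw.1, by rw [hcv']; exact hwt⟩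
      (normalizes_inf h (hnrm hcy) (T.C_mod h hr hc)) (normalizes_inf h (hnrm hvy) hvr) fun x hx hxc => ?_
    have hxo := hB.of_dvd_nat (Subgroup.orderOf_dvd_natCard B hx.1)
    have hxr : Commute x r := Subgroup.mem_centralizer_singleton_iff.mp hx.2
    rcases hxc with e | e | e
    · exact hyC hx.1 hxr e
    · exact hside (hpt hv hvt hvH e) hxo hxr hv hvt hvH e hr hr1 hrt hvr
    · rw [hcv'] at e
      refine hside (hpt hw hwt hwH e) hxo hxr hw hwt hwH e hr hr1 hrt ?_
      have hcc'r : Commute (c * c') r := hcr.mul_left hc'r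
      rw [show r' * (c * c') * r * (r' * (c * c'))⁻¹ = r' * (c * c' * r) * (c * c')⁻¹ * r'⁻¹ by group, hcc'r.eq,
        show r' * (r * (c * c')) * (c * c')⁻¹ * r'⁻¹ = r' * r * r'⁻¹ by group]
      exact T.R_mod h hr hr'
  have hpieceC : B ⊓ Subgroup.centralizer ({c} : Set X) ≤ oddCore X := by
    obtain ⟨g, hg, hgR, hgC⟩ := T.swap
    have hgH : g ∈ H := h.P_le hg
    have hgt : g * t * g⁻¹ = t := by rw [(h.central g).eq, mul_inv_cancel_right]
    have hrv : r * v = v * r * t := by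
      rw [hvdef, ← mul_assoc, ea, mul_assoc (r' * r) t, ← (h.central c').eq, ← mul_assoc, mul_assoc r' r,
        ← hc'r.eq, ← mul_assoc]
    have hrv' : r * v = r * r' * c' := by rw [hvdef, mul_assoc]
    refine gen_mod h.inv h.central (hB.of_dvd_nat (Subgroup.card_dvd_of_le inf_le_left)) (Or.inr hr2) (Or.inl hvv)
      (Or.inr hrv) ⟨hr1, hrt⟩ ⟨hv.1, hvt⟩ ⟨by rw [hrv']; exact hu.1, by rw [hrv']; exact hut⟩
      (normalizes_inf h (hnrm hry) (Or.inl (by rw [← hcr.eq, mul_inv_cancel_right])))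
      (normalizes_inf h (hnrm hvy) hvc) fun x hx hxc => ?_
    have hxo := hB.of_dvd_nat (Subgroup.orderOf_dvd_natCard B hx.1)
    have hxc' : Commute x c := Subgroup.mem_centralizer_singleton_iff.mp hx.2
    -- move to the line of `R`
    have hmove : ∀ {u}, IsInv u → u ≠ t → u ∈ H → Commute x u → (u * c * u⁻¹ = c ∨ u * c * u⁻¹ = c * t) →
        x ∈ oddCore X := by
      intro u hu hut huH hxu huc
      have hcj : ∀ {a b : X}, Commute a b → Commute (g * a * g⁻¹) (g * b * g⁻¹) := fun {a b} hab => by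
        show g * a * g⁻¹ * (g * b * g⁻¹) = g * b * g⁻¹ * (g * a * g⁻¹)
        calc g * a * g⁻¹ * (g * b * g⁻¹) = g * (a * b) * g⁻¹ := by group
          _ = g * (b * a) * g⁻¹ := by rw [hab.eq]
          _ = _ := by group
      have key : g * x * g⁻¹ ∈ oddCore X := hside (mul_mem (mul_mem hgH (hpt hu hut huH hxu)) (inv_mem hgH))
        (by rw [Involutions.orderOf_conj]; exact hxo) (hcj hxc') (hu.conj g) (h.ne_conj hut g)
        (mul_mem (mul_mem hgH huH) (inv_mem hgH)) (hcj hxu) ((hgC c).mp hc)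
        (fun e => hc1 (conj_eq_one_iff.mp e)) (h.ne_conj hct g) (by
          rw [show g * u * g⁻¹ * (g * c * g⁻¹) * (g * u * g⁻¹)⁻¹ = g * (u * c * u⁻¹) * g⁻¹ by group]
          rcases huc with e | e <;> rw [e]
          · exact Or.inl rfl
          · exact Or.inr (by rw [show g * (c * t) * g⁻¹ = g * c * g⁻¹ * (g * t * g⁻¹) by group, hgt]))
      have h2 := Subgroup.Normal.conj_mem (inferInstance : (oddCore X).Normal) _ key g⁻¹
      simpa [mul_assoc] using h2
    rcases hxc with e | e | e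
    · exact hyC hx.1 e hxc'
    · exact hmove hv hvt hvH e hvc
    · rw [hrv'] at e
      refine hmove hu hut huH e ?_
      have hcrr : Commute c (r * r') := hcr.mul_right hcr'
      rw [show r * r' * c' * c * (r * r' * c')⁻¹ = r * r' * (c' * c * c'⁻¹) * (r * r')⁻¹ by group]
      have hc'cc : c' * c * c'⁻¹ = c * t := by
        refine mul_inv_eq_iff_eq_mul.mpr ?_
        calc c' * c = c' * c * (t * t) := by rw [h.inv.2, mul_one]
          _ = c * c' * t := by rw [← mul_assoc, eb]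
          _ = c * t * c' := by rw [mul_assoc, (h.central c').eq, ← mul_assoc]
      refine Or.inr ?_
      rw [hc'cc, ← (hcrr.mul_left (h.central (r * r')).symm).eq, mul_inv_cancel_right]
  have hne := hmem hr hc hr2 hc2
  refine gen_mod h.inv h.central hB (Or.inr hr2) (Or.inr hc2) (Or.inl hcr.symm.eq) ⟨hr1, hrt⟩ ⟨hc1, hct⟩
    ⟨hne.1.1, hne.2.1⟩ (hnrm hry) (hnrm hcy) fun x hx hxc => ?_
  rcases hxc with e | e | e
  · exact hpieceR ⟨hx, Subgroup.mem_centralizer_singleton_iff.mpr e.eq⟩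
  · exact hpieceC ⟨hx, Subgroup.mem_centralizer_singleton_iff.mpr e.eq⟩
  · exact hBy ⟨hx, Subgroup.mem_centralizer_singleton_iff.mpr e.eq⟩

omit hr hr1 hrt in
/-- A member of the twin. -/
theorem exists_rc : ∃ r ∈ R, ∃ c ∈ C, r ≠ 1 ∧ r ≠ t ∧ c ≠ 1 ∧ c ≠ t ∧ IsInv (r * c) ∧ r * c ≠ t := by
  obtain ⟨htC, hC8, hCsq, -⟩ := T.C_facts h
  obtain ⟨r, hr, hr1, hrt, -, -⟩ := T.exists_other h T.card 1
  obtain ⟨c, hc, hc1, hct, -, -⟩ := T.exists_other h hC8 1
  refine ⟨r, hr, c, hc, hr1, hrt, hc1, hct, ⟨fun e => ?_, ?_⟩, fun e => ?_⟩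
  · have hcR : c ∈ R := by rw [eq_inv_of_mul_eq_one_right e]; exact inv_mem hr
    exact (T.inter c hcR hc).elim hc1 hct
  · rw [(T.comm c hc r hr).mul_mul_mul_comm, T.sq r hr hr1 hrt, hCsq c hc hc1 hct, h.inv.2]
  · have hcR : c ∈ R := by rw [show c = r⁻¹ * t by rw [← e, inv_mul_cancel_left]]; exact mul_mem (inv_mem hr) T.t_mem
    exact (T.inter c hcR hc).elim hc1 hct

omit hr hr1 hrt in
/-- Balance and rigidity at every member, when the members are conjugate. -/
theorem bal_rigid (hone : ∀ u v : X, IsInv u → u ≠ t → IsInv v → v ≠ t → ∃ g : X, g * u * g⁻¹ = v) :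
    (∀ y ∈ (P : Subgroup X), IsInv y → y ≠ t → ∀ A : Subgroup X, Odd (Nat.card A) →
      A ≤ Subgroup.centralizer ({y} : Set X) →
      Subgroup.centralizer ({y} : Set X) ≤ Subgroup.normalizer (A : Set X) → A ≤ oddCore X) ∧
    ∀ y ∈ (P : Subgroup X), IsInv y → y ≠ t → ∀ B : Subgroup X, Odd (Nat.card B) → oddCore X ≤ B →
      Subgroup.centralizer ({y} : Set X) ≤ Subgroup.normalizer (B : Set X) →
      B ⊓ Subgroup.centralizer ({y} : Set X) ≤ oddCore X → B ≤ oddCore X := by
  haveI : (oddCore X).Normal := inferInstanceAs (pPrimeCore 2 X).Normal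
  obtain ⟨r, hr, c, hc, hr1, hrt, hc1, hct, hi, hit⟩ := T.exists_rc h
  have hmap : ∀ {y g : X}, g * y * g⁻¹ = r * c → ∀ {a : X},
      a ∈ Subgroup.centralizer ({y} : Set X) ↔ g * a * g⁻¹ ∈ Subgroup.centralizer ({r * c} : Set X) := by
    intro y g hg a
    rw [Subgroup.mem_centralizer_singleton_iff, Subgroup.mem_centralizer_singleton_iff, ← hg,
      show g * a * g⁻¹ * (g * y * g⁻¹) = g * (a * y) * g⁻¹ by group,
      show g * y * g⁻¹ * (g * a * g⁻¹) = g * (y * a) * g⁻¹ by group]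
    exact ⟨fun e => by rw [e], fun e => mul_left_cancel (mul_right_cancel e)⟩
  have hback : ∀ {g : X} {A : Subgroup X}, A.map (MulAut.conj g).toMonoidHom ≤ oddCore X → A ≤ oddCore X := by
    intro g A hle a ha
    have h2 := Subgroup.Normal.conj_mem (inferInstance : (oddCore X).Normal) _ (hle ⟨a, ha, rfl⟩) g⁻¹
    simpa [mul_assoc] using h2
  have hnm : ∀ {y g : X}, g * y * g⁻¹ = r * c → ∀ {A : Subgroup X},
      Subgroup.centralizer ({y} : Set X) ≤ Subgroup.normalizer (A : Set X) →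
      Subgroup.centralizer ({r * c} : Set X) ≤
        Subgroup.normalizer ((A.map (MulAut.conj g).toMonoidHom : Subgroup X) : Set X) := by
    intro y g hg A hn z hz
    have hz' : g⁻¹ * z * g ∈ Subgroup.centralizer ({y} : Set X) := (hmap hg).mpr (by simpa [mul_assoc] using hz)
    refine Comp.mem_normalizer_of_maps ?_
    rintro _ ⟨a, ha, rfl⟩
    exact ⟨_, (Subgroup.mem_normalizer_iff.mp (hn hz') a).mp ha, by simp [mul_assoc]⟩
  constructor
  · intro y _ hy hyt A hA hAC hn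
    obtain ⟨g, hg⟩ := hone y (r * c) hy hyt hi hit
    refine hback (g := g) (T.bal_rc h hr hr1 hrt hc hc1 hct ?_ ?_ (hnm hg hn))
    · rwa [Subgroup.card_map_of_injective (MulAut.conj g).injective]
    · rintro _ ⟨a, ha, rfl⟩
      exact (hmap hg).mp (hAC ha)
  · intro y _ hy hyt B hB _ hn hBy
    obtain ⟨g, hg⟩ := hone y (r * c) hy hyt hi hit
    refine hback (g := g) (T.rigid_rc h hr hr1 hrt hc hc1 hct ?_ (hnm hg hn) ?_)
    · rwa [Subgroup.card_map_of_injective (MulAut.conj g).injective]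
    · rintro _ ⟨⟨a, ha, rfl⟩, hac⟩
      exact Subgroup.Normal.conj_mem inferInstance a (hBy ⟨ha, (hmap hg).mpr hac⟩) g

end Twin

end CfsgLib.CoreKill.Local
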