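import Cfsg.Agent.Lib.CoreKill.Local.Dichotomy
import Cfsg.Agent.Lib.CoprimeGen

/-!
Group lemmas for case (B): the elements of odd order over a central subgroup of odd index, generation by the
centralisers of a four group taken modulo a central involution, and two facts about five points.

Blueprint: `blueprint/bender/CoreKill.md`, 4 (B).
-/

set_option autoImplicit false
set_option linter.unusedSectionVars false
set_option linter.style.haveILetI false

namespace CfsgLib.CoreKill.Local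

open Cfsg MulAction
open CfsgLib.Bender.TwoClosed (IsInv)

universe u v

variable {X : Type u} [Group X] [Finite X]

/-- Over a central subgroup of odd index the elements of odd order form a subgroup. -/
theorem odd_mul_of_center {W T : Subgroup X} (hTW : T ≤ W) (hTc : ∀ a ∈ T, ∀ w ∈ W, Commute a w)
    (hodd : Odd (T.relIndex W)) {a b : X} (ha : a ∈ W) (hb : b ∈ W) (hao : Odd (orderOf a))
    (hbo : Odd (orderOf b)) : Odd (orderOf (a * b)) := by
  set m := (Subgroup.center W).index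
  have hm : Odd m := by
    refine hodd.of_dvd_nat (Subgroup.index_dvd_of_le ?_)
    intro x hx
    exact Subgroup.mem_center_iff.mpr fun w => Subtype.ext (hTc x hx w w.2).eq.symm
  set A : W := ⟨a, ha⟩
  set B : W := ⟨b, hb⟩
  let φ := MonoidHom.transferCenterPow W
  have h1 : ((A * B) ^ m : W) = A ^ m * B ^ m := by
    exact congrArg Subtype.val (map_mul φ A B)
  have h2 : (a * b) ^ m = a ^ m * b ^ m := congrArg Subtype.val h1
  have hc : Commute (a ^ m) (b ^ m) :=
    congrArg Subtype.val (Subgroup.mem_center_iff.mp (Subgroup.pow_index_mem (Subgroup.center W) B) (A ^ m))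
  have h3 : Odd (orderOf ((a * b) ^ m)) := by
    rw [h2]
    exact ((hao.of_dvd_nat (orderOf_pow_dvd m)).mul (hbo.of_dvd_nat (orderOf_pow_dvd m))).of_dvd_nat
      hc.orderOf_mul_dvd_mul_orderOf
  refine (hm.mul h3).of_dvd_nat (orderOf_dvd_of_pow_eq_one ?_)
  rw [pow_mul, pow_orderOf_eq_one]

/-- The elements of odd order of a subgroup with a central subgroup of odd index. -/
def oddElts (W T : Subgroup X) (hTW : T ≤ W) (hTc : ∀ a ∈ T, ∀ w ∈ W, Commute a w) (hodd : Odd (T.relIndex W)) :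
    Subgroup X where
  carrier := {x | x ∈ W ∧ Odd (orderOf x)}
  one_mem' := ⟨one_mem W, by rw [orderOf_one]; exact odd_one⟩
  mul_mem' := fun {a b} ha hb => ⟨mul_mem ha.1 hb.1, odd_mul_of_center hTW hTc hodd ha.1 hb.1 ha.2 hb.2⟩
  inv_mem' := fun {a} ha => ⟨inv_mem ha.1, by rw [orderOf_inv]; exact ha.2⟩

/-- A subgroup of elements of odd order has odd order. -/
theorem odd_card_of_forall {A : Subgroup X} (h : ∀ x ∈ A, Odd (orderOf x)) : Odd (Nat.card A) := by
  rw [← Nat.not_even_iff_odd, even_iff_two_dvd]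
  intro hd
  haveI : Fact (Nat.Prime 2) := ⟨Nat.prime_two⟩
  obtain ⟨x, hx⟩ := exists_prime_orderOf_dvd_card' (G := A) 2 hd
  have h1 := h x x.2
  rw [Subgroup.orderOf_coe, hx] at h1
  exact absurd h1 (by decide)

/-- An element of odd order commuting modulo a central involution with another commutes with it. -/
theorem commute_of_mod {t x a : X} (ht : IsInv t) (htc : ∀ g : X, Commute g t) (hx : Odd (orderOf x))
    (h : x * a * x⁻¹ = a ∨ x * a * x⁻¹ = a * t) : Commute x a := by
  rcases h with e | e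
  · exact mul_inv_eq_iff_eq_mul.mp e
  exfalso
  have hpow : ∀ n : ℕ, x ^ n * a * (x ^ n)⁻¹ = a * t ^ n := by
    intro n
    induction n with
    | zero => simp
    | succ n ih =>
      calc x ^ (n + 1) * a * (x ^ (n + 1))⁻¹ = x * (x ^ n * a * (x ^ n)⁻¹) * x⁻¹ := by rw [pow_succ']; group
        _ = x * (a * t ^ n) * x⁻¹ := by rw [ih]
        _ = x * a * x⁻¹ * (x * t ^ n * x⁻¹) := by group
        _ = a * t ^ (n + 1) := by rw [e, ((htc x).pow_right n).eq, mul_inv_cancel_right, mul_assoc, ← pow_succ']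
  obtain ⟨l, hl⟩ := hx
  have h1 := hpow (orderOf x)
  rw [pow_orderOf_eq_one, one_mul, inv_one, mul_one, hl, pow_succ, pow_mul, pow_two, ht.2, one_pow, one_mul,
    left_eq_mul] at h1
  exact ht.1 h1

/-- An odd group normalised by `a`, `b` forming a four group modulo a central involution is generated by the
centralisers of `a`, `b` and `ab`. -/
theorem gen_mod {t : X} (ht : IsInv t) (htc : ∀ g : X, Commute g t) {A T : Subgroup X} (hA : Odd (Nat.card A))
    {a b : X} (ha2 : a * a = 1 ∨ a * a = t) (hb2 : b * b = 1 ∨ b * b = t) (hc : a * b = b * a ∨ a * b = b * a * t)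
    (ha : a ≠ 1 ∧ a ≠ t) (hb : b ≠ 1 ∧ b ≠ t) (hab : a * b ≠ 1 ∧ a * b ≠ t)
    (han : a ∈ Subgroup.normalizer (A : Set X)) (hbn : b ∈ Subgroup.normalizer (A : Set X))
    (h : ∀ x ∈ A, Commute x a ∨ Commute x b ∨ Commute x (a * b) → x ∈ T) : A ≤ T := by
  classical
  haveI : Fact (Nat.Prime 2) := ⟨Nat.prime_two⟩
  set Z := Subgroup.zpowers t
  have hZmem : ∀ {z : X}, z ∈ Z → z = 1 ∨ z = t := fun {z} hz => by
    obtain ⟨i, rfl⟩ := Subgroup.mem_zpowers_iff.mp hz
    rcases Int.even_or_odd i with ⟨j, rfl⟩ | ⟨j, rfl⟩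
    · exact Or.inl (by rw [← two_mul, zpow_mul, zpow_two, ht.2, one_zpow])
    · exact Or.inr (by rw [zpow_add, zpow_mul, zpow_two, ht.2, one_zpow, one_mul, zpow_one])
  haveI : Z.Normal := ⟨fun z hz g => by
    rcases hZmem hz with rfl | rfl
    · simp
    · rw [(htc g).eq, mul_inv_cancel_right]; exact hz⟩
  let π := QuotientGroup.mk' Z
  have hπ1 : ∀ {z : X}, z = 1 ∨ z = t → π z = 1 := fun {z} hz => (QuotientGroup.eq_one_iff z).mpr (by
    rcases hz with rfl | rfl
    · exact one_mem Z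
    · exact Subgroup.mem_zpowers _)
  have hπne : ∀ {z : X}, z ≠ 1 ∧ z ≠ t → π z ≠ 1 := fun {z} hz e =>
    (hZmem ((QuotientGroup.eq_one_iff z).mp e)).elim hz.1 hz.2
  have hπt : π t = 1 := hπ1 (Or.inr rfl)
  have hcomm : Commute (π a) (π b) := by
    show π a * π b = π b * π a
    rcases hc with e | e
    · rw [← map_mul, e, map_mul]
    · rw [← map_mul, e, map_mul, map_mul, hπt, mul_one]
  have hai : IsInv (π a) := ⟨hπne ha, by rw [← map_mul]; exact hπ1 ha2⟩
  have hbi : IsInv (π b) := ⟨hπne hb, by rw [← map_mul]; exact hπ1 hb2⟩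
  have hne : π a ≠ π b := fun e => hπne hab (by rw [map_mul, e, hbi.2])
  obtain ⟨U, hUc, hUn, hU2, haU, hbU, hU⟩ := CoreKill.pair_group hai hbi hne hcomm
  haveI := hUc
  have hUnorm : U ≤ Subgroup.normalizer ((A.map π : Subgroup (X ⧸ Z)) : Set (X ⧸ Z)) := fun z hz => by
    have hbase : ∀ {g : X}, g ∈ Subgroup.normalizer (A : Set X) →
        π g ∈ Subgroup.normalizer ((A.map π : Subgroup (X ⧸ Z)) : Set (X ⧸ Z)) := fun {g} hg =>
      Comp.mem_normalizer_of_maps (by
        rintro _ ⟨x, hx, rfl⟩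
        exact ⟨g * x * g⁻¹, (Subgroup.mem_normalizer_iff.mp hg x).mp hx, by rw [map_mul, map_mul, map_inv]⟩)
    rcases hU z hz with rfl | rfl | rfl | rfl
    · exact one_mem _
    · exact hbase han
    · exact hbase hbn
    · rw [← map_mul]; exact hbase (mul_mem han hbn)
  have hgen := coprime_generated_by_centralizers (K := A.map π) hUn hUnorm (by
    obtain ⟨i, hi⟩ := IsPGroup.iff_card.mp hU2
    rw [hi]
    exact Nat.Coprime.pow_left i (Nat.coprime_two_left.mpr (hA.of_dvd_nat (Subgroup.card_map_dvd _ _))))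
  have hle : A.map π ≤ (A ⊓ T).map π := by
    rw [← hgen]
    refine iSup₂_le fun z hz x hx => ?_
    obtain ⟨w, hw, rfl⟩ := hx.1
    have hxz := Subgroup.mem_centralizer_singleton_iff.mp hx.2
    have hodd : Odd (orderOf w) := hA.of_dvd_nat (Subgroup.orderOf_dvd_natCard A hw)
    have hcom : ∀ {g : X}, π g = z → Commute w g := fun {g} hg => by
      refine commute_of_mod ht htc hodd ?_
      have h1 : π (g⁻¹ * (w * g * w⁻¹)) = 1 := by
        rw [map_mul, map_mul, map_mul, map_inv, map_inv, hg, hxz, mul_inv_cancel_right, inv_mul_cancel]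
      rcases hZmem ((QuotientGroup.eq_one_iff _).mp h1) with e | e
      · exact Or.inl (by rw [← mul_inv_cancel_left g (w * g * w⁻¹), e, mul_one])
      · exact Or.inr (by rw [← mul_inv_cancel_left g (w * g * w⁻¹), e])
    refine ⟨w, ⟨hw, h w hw ?_⟩, rfl⟩
    rcases hU z hz.1 with e | e | e | e
    · exact absurd e hz.2
    · exact Or.inl (hcom e.symm)
    · exact Or.inr (Or.inl (hcom e.symm))
    · exact Or.inr (Or.inr (hcom (by rw [map_mul, e])))
  intro x hx
  obtain ⟨w, ⟨hwA, hwT⟩, e⟩ := hle ⟨x, hx, rfl⟩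
  have hd : x⁻¹ * w ∈ A := mul_mem (inv_mem hx) hwA
  have hdZ : x⁻¹ * w ∈ Z := (QuotientGroup.eq_one_iff _).mp (show π (x⁻¹ * w) = 1 by
    rw [map_mul, map_inv, e, inv_mul_cancel])
  rcases hZmem hdZ with e1 | e1
  · rwa [inv_mul_eq_one.mp e1]
  · refine absurd ?_ ht.1
    exact eq_one_of_odd (show t * t = 1 from ht.2)
      (hA.of_dvd_nat (Subgroup.orderOf_dvd_natCard A (e1 ▸ hd)))

section Five

variable {G : Type u} {Ω : Type v} [Group G] [MulAction G Ω] {S : Set Ω} {p₀ : Ω} {v : G}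

/-- The points of `S` other than `p₀` are two orbits of `v`. -/
theorem five_cases (hS : S.ncard = 5) (hp₀ : p₀ ∈ S) (hvS : ∀ p ∈ S, v • p ∈ S) (hv0 : v • p₀ = p₀)
    (hv2 : ∀ p ∈ S, v • v • p = p) (hv : ∀ p ∈ S, v • p = p → p = p₀) {p q : Ω} (hp : p ∈ S) (hp0 : p ≠ p₀)
    (hq : q ∈ S) (hq0 : q ≠ p₀) (hqp : q ≠ p) (hqv : q ≠ v • p) :
    ∀ r ∈ S, r = p₀ ∨ r = p ∨ r = v • p ∨ r = q ∨ r = v • q := by
  classical
  have hvp : v • p ≠ p := fun e => hp0 (hv p hp e)
  have hvp0 : v • p ≠ p₀ := fun e => hp0 (by rw [← hv2 p hp, e, hv0])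
  have hvq : v • q ≠ q := fun e => hq0 (hv q hq e)
  have hvq0 : v • q ≠ p₀ := fun e => hq0 (by rw [← hv2 q hq, e, hv0])
  have hvqp : v • q ≠ p := fun e => hqv (by rw [← e, hv2 q hq])
  have hvqvp : v • q ≠ v • p := fun e => hqp (smul_left_cancel v e)
  have hsub : ({p₀, p, v • p, q, v • q} : Set Ω) ⊆ S := by
    rintro r (rfl | rfl | rfl | rfl | rfl)
    exacts [hp₀, hp, hvS p hp, hq, hvS q hq]
  have hfin : S.Finite := Set.finite_of_ncard_ne_zero (by omega)
  have hcard : ({p₀, p, v • p, q, v • q} : Set Ω).ncard = 5 := by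
    rw [Set.ncard_insert_of_notMem (by
        simp only [Set.mem_insert_iff, Set.mem_singleton_iff, not_or]
        exact ⟨hp0.symm, hvp0.symm, hq0.symm, hvq0.symm⟩) (by simp),
      Set.ncard_insert_of_notMem (by
        simp only [Set.mem_insert_iff, Set.mem_singleton_iff, not_or]
        exact ⟨hvp.symm, hqp.symm, hvqp.symm⟩) (by simp),
      Set.ncard_insert_of_notMem (by
        simp only [Set.mem_insert_iff, Set.mem_singleton_iff, not_or]
        exact ⟨hqv.symm, hvqvp.symm⟩) (by simp),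
      Set.ncard_insert_of_notMem (by
        simp only [Set.mem_singleton_iff]
        exact hvq.symm) (by simp), Set.ncard_singleton]
  intro r hr
  have := (Set.eq_of_subset_of_ncard_le hsub (by rw [hcard, hS]) hfin).ge hr
  simpa using this

/-- An element of odd order fixing `p₀` and commuting on five points with an involutory map fixing only `p₀` fixes
all five. -/
theorem five_odd (hS : S.ncard = 5) (hp₀ : p₀ ∈ S) (hvS : ∀ p ∈ S, v • p ∈ S) (hv0 : v • p₀ = p₀)
    (hv2 : ∀ p ∈ S, v • v • p = p) (hv : ∀ p ∈ S, v • p = p → p = p₀) {x : G} (hx : Odd (orderOf x))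
    (hxS : ∀ p ∈ S, x • p ∈ S) (hx0 : x • p₀ = p₀) (hxv : ∀ p ∈ S, x • v • p = v • x • p) :
    ∀ p ∈ S, x • p = p := by
  intro p hp
  by_cases hp0 : p = p₀
  · rw [hp0]; exact hx0
  have hne : ∀ {q}, q ∈ S → q ≠ p₀ → x • q ≠ p₀ := fun {q} _ hq0 e =>
    hq0 (smul_left_cancel x (e.trans hx0.symm))
  have hp' : v • x • p = x • v • p := (hxv p hp).symm
  have h4 : (x ^ 4) • p = p := by
    have hsq : x • x • p = p ∨ x • x • p = v • p := by
      by_cases h1 : x • p = p
      · exact Or.inl (by rw [h1, h1])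
      by_cases h2 : x • p = v • p
      · exact Or.inl (by rw [h2, hxv p hp, h2, hv2 p hp])
      rcases five_cases hS hp₀ hvS hv0 hv2 hv hp hp0 (hxS p hp) (hne hp hp0) h1 h2 (x • x • p)
        (hxS _ (hxS p hp)) with e | e | e | e | e
      · exact absurd e (hne (hxS p hp) (hne hp hp0))
      · exact Or.inl e
      · exact Or.inr e
      · exact absurd (smul_left_cancel x e) h1
      · rw [hp'] at e
        exact absurd (smul_left_cancel x e) h2
    rw [pow_succ, pow_succ, pow_two, mul_smul, mul_smul, mul_smul]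
    rcases hsq with e | e
    · rw [e, e]
    · rw [e, hxv p hp, hxv (x • p) (hxS p hp), e, hv2 p hp]
  have hx1 : Subgroup.zpowers (x ^ 4) = Subgroup.zpowers x := by
    refine le_antisymm (Subgroup.zpowers_le.mpr (pow_mem (Subgroup.mem_zpowers x) 4)) (Subgroup.zpowers_le.mpr ?_)
    obtain ⟨m, hm⟩ := exists_pow_eq_self_of_coprime (n := 4) (x := x)
      (show (4 : ℕ).Coprime (orderOf x) from Nat.Coprime.pow_left 2 (Nat.coprime_two_left.mpr hx))
    exact Subgroup.mem_zpowers_iff.mpr ⟨m, by rw [zpow_natCast]; exact hm⟩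
  have hle : Subgroup.zpowers (x ^ 4) ≤ MulAction.stabilizer G p :=
    Subgroup.zpowers_le.mpr (mem_stabilizer_iff.mpr h4)
  exact mem_stabilizer_iff.mp ((hx1 ▸ hle) (Subgroup.mem_zpowers x))

/-- Two involutory maps fixing only `p₀` that agree at one further point agree on the five points. -/
theorem five_eq (hS : S.ncard = 5) (hp₀ : p₀ ∈ S) (hvS : ∀ p ∈ S, v • p ∈ S) (hv0 : v • p₀ = p₀)
    (hv2 : ∀ p ∈ S, v • v • p = p) (hv : ∀ p ∈ S, v • p = p → p = p₀) {e : G} (heS : ∀ p ∈ S, e • p ∈ S)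
    (he0 : e • p₀ = p₀) (hee : ∀ p ∈ S, e • e • p = p) (hef : ∀ p ∈ S, e • p = p → p = p₀) {p : Ω} (hp : p ∈ S)
    (hp0 : p ≠ p₀) (hagree : e • p = v • p) : ∀ q ∈ S, e • q = v • q := by
  intro q hq
  by_cases hq0 : q = p₀
  · rw [hq0, he0, hv0]
  by_cases hqp : q = p
  · rw [hqp, hagree]
  by_cases hqv : q = v • p
  · have h1 : e • q = p := by rw [hqv, ← hagree, hee p hp]
    rw [h1, hqv, hv2 p hp]
  rcases five_cases hS hp₀ hvS hv0 hv2 hv hp hp0 hq hq0 hqp hqv (e • q) (heS q hq) with h | h | h | h | h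
  · exact absurd (smul_left_cancel e (h.trans he0.symm)) hq0
  · exact absurd (by rw [← hee q hq, h, hagree]) hqv
  · exact absurd (smul_left_cancel e (h.trans hagree.symm)) hqp
  · exact absurd (hef q hq h) hq0
  · exact h

end Five

end CfsgLib.CoreKill.Local
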