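import Cfsg.Agent.Lib.CoreKill.Fail.Twin.Defs
import Cfsg.Agent.Lib.CoreKill.Fail.Twin.Gen

/-!
The two lines of five points of a twin: they meet in the base point; the other group acts regularly on the four other
points of each.

Blueprint: `blueprint/bender/CoreKill.md`, 4 (B).
-/

set_option autoImplicit false
set_option linter.unusedSectionVars false
set_option linter.style.haveILetI false

universe u

namespace CfsgLib.CoreKill.Local

open Cfsg MulAction
open CfsgLib.Bender.TwoClosed (IsInv)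
open CfsgLib.Bender.Assembly (fix_iff)

/-- The points fixed by `x`. -/
def fixSet {X : Type u} [Group X] (H : Subgroup X) (x : X) : Set (X ⧸ H) := {p | x • p = p}

variable {X : Type u} [Group X] [Finite X] {H : Subgroup X} {P : Sylow 2 X} {t : X} {R C : Subgroup X}

theorem mem_fixSet {x : X} {p : X ⧸ H} : p ∈ fixSet H x ↔ x • p = p := Iff.rfl

theorem fixSet_conj (g x : X) (p : X ⧸ H) : p ∈ fixSet H (g * x * g⁻¹) ↔ g⁻¹ • p ∈ fixSet H x := by
  simp only [mem_fixSet, mul_smul]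
  exact smul_eq_iff_eq_inv_smul g

/-- An element commuting modulo `t` keeps the fixed points. -/
theorem fixSet_move (h : Pt H P t) {x g : X} (hg : g * x * g⁻¹ = x ∨ g * x * g⁻¹ = x * t) {p : X ⧸ H} :
    p ∈ fixSet H x ↔ g • p ∈ fixSet H x := by
  have h1 : fixSet H (g * x * g⁻¹) = fixSet H x := by
    rcases hg with e | e <;> rw [e]
    ext q
    simp only [mem_fixSet, mul_smul, h.t_fix]
  conv_rhs => rw [← h1, fixSet_conj, inv_smul_smul]

/-- `x` and `g` commuting modulo `t`, read from either side. -/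
theorem mod_symm (h : Pt H P t) {x g : X} (hg : g * x * g⁻¹ = x ∨ g * x * g⁻¹ = x * t) :
    x * g * x⁻¹ = g ∨ x * g * x⁻¹ = g * t := by
  rcases hg with e | e
  · exact Or.inl (mul_inv_eq_iff_eq_mul.mpr (mul_inv_eq_iff_eq_mul.mp e).symm)
  · refine Or.inr (mul_inv_eq_iff_eq_mul.mpr ?_)
    have e' : g * x = x * t * g := mul_inv_eq_iff_eq_mul.mp e
    calc x * g = x * t * g * t := by
          rw [mul_assoc (x * t) g t, (h.central g).eq, mul_assoc x t, ← mul_assoc t t g, h.inv.2, one_mul]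
      _ = g * x * t := by rw [e']
      _ = g * t * x := by rw [mul_assoc, (h.central x).eq, ← mul_assoc]

namespace Twin

variable (h : Pt H P t) (T : Twin H P t R C)
include h T

theorem sq_ne {r : X} (hr : r * r = t) : r ≠ 1 ∧ r ≠ t :=
  ⟨fun e => h.inv.1 (by rw [← hr, e, one_mul]), fun e => h.inv.1 (by rw [← hr, e, h.inv.2])⟩

/-- An element of square `t` outside two classes. -/
theorem exists_other {G : Subgroup X} (hG : Nat.card G = 8) (c : X) :
    ∃ d ∈ G, d ≠ 1 ∧ d ≠ t ∧ d ≠ c ∧ d ≠ c * t := by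
  by_contra hno
  push Not at hno
  have hsub : (G : Set X) ⊆ {1, t, c, c * t} := fun b hb => by
    by_contra hb'
    simp only [Set.mem_insert_iff, Set.mem_singleton_iff, not_or] at hb'
    exact hb'.2.2.2 (hno b hb hb'.1 hb'.2.1 hb'.2.2.1)
  have h2 := Set.ncard_le_ncard hsub (Set.toFinite _)
  rw [← Nat.card_coe_set_eq] at h2
  have h3 : Set.ncard ({1, t, c, c * t} : Set X) ≤ 4 := by
    refine (Set.ncard_insert_le _ _).trans (Nat.succ_le_succ ((Set.ncard_insert_le _ _).trans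
      (Nat.succ_le_succ ((Set.ncard_insert_le _ _).trans (Nat.succ_le_succ ?_)))))
    rw [Set.ncard_singleton]
  have h4 : Nat.card G = Nat.card (G : Set X) := rfl
  omega

theorem C_facts : t ∈ C ∧ Nat.card C = 8 ∧ (∀ c ∈ C, c ≠ 1 → c ≠ t → c * c = t) ∧
    ∀ c ∈ C, ∀ d ∈ C, c ≠ 1 → c ≠ t → d ≠ 1 → d ≠ t → d ≠ c → d ≠ c * t → c * d = d * c * t := by
  obtain ⟨g, -, hgR, -⟩ := T.swap
  have htg : g * t * g⁻¹ = t := by rw [(h.central g).eq, mul_inv_cancel_right]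
  have hpre : ∀ {c}, c ∈ C → g⁻¹ * c * g ∈ R := fun {c} hc => (hgR _).mpr (by simpa [mul_assoc] using hc)
  have hne : ∀ {c : X}, c ≠ 1 → c ≠ t → g⁻¹ * c * g ≠ 1 ∧ g⁻¹ * c * g ≠ t := fun {c} h1 h2 =>
    ⟨fun e => h1 (by rw [show c = g * (g⁻¹ * c * g) * g⁻¹ by group, e, mul_one, mul_inv_cancel]),
      fun e => h2 (by rw [show c = g * (g⁻¹ * c * g) * g⁻¹ by group, e, htg])⟩
  refine ⟨htg ▸ (hgR t).mp T.t_mem, ?_, fun c hc h1 h2 => ?_, fun c hc d hd c1 c2 d1 d2 dc dct => ?_⟩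
  · have e : R.map (MulAut.conj g).toMonoidHom = C := by
      ext x
      exact ⟨by rintro ⟨r, hr, rfl⟩; exact (hgR r).mp hr, fun hx => ⟨_, hpre hx, by simp [mul_assoc]⟩⟩
    rw [← e, Subgroup.card_map_of_injective (MulAut.conj g).injective, T.card]
  · calc c * c = g * ((g⁻¹ * c * g) * (g⁻¹ * c * g)) * g⁻¹ := by group
      _ = t := by rw [T.sq _ (hpre hc) (hne h1 h2).1 (hne h1 h2).2, htg]
  · have h3 := T.anti _ (hpre hc) _ (hpre hd) (hne c1 c2).1 (hne c1 c2).2 (hne d1 d2).1 (hne d1 d2).2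
      (fun e => dc (mul_left_cancel (mul_right_cancel e)))
      (fun e => dct (by rw [show d = g * (g⁻¹ * d * g) * g⁻¹ by group, e,
        show g * (g⁻¹ * c * g * t) * g⁻¹ = c * (g * t * g⁻¹) by group, htg]))
    calc c * d = g * ((g⁻¹ * c * g) * (g⁻¹ * d * g)) * g⁻¹ := by group
      _ = d * c * (g * t * g⁻¹) := by rw [h3]; group
      _ = d * c * t := by rw [htg]

/-- `R` commutes with itself modulo `t`. -/
theorem R_mod {r r' : X} (hr : r ∈ R) (hr' : r' ∈ R) : r' * r * r'⁻¹ = r ∨ r' * r * r'⁻¹ = r * t := by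
  by_cases h1 : r = 1 ∨ r = t
  · refine Or.inl ?_
    rcases h1 with rfl | rfl
    · simp
    · rw [(h.central r').eq, mul_inv_cancel_right]
  by_cases h2 : r' = 1 ∨ r' = t
  · refine Or.inl ?_
    rcases h2 with rfl | rfl
    · simp
    · rw [← (h.central r).eq, mul_inv_cancel_right]
  by_cases h3 : r' = r ∨ r' = r * t
  · refine Or.inl ?_
    rcases h3 with rfl | rfl
    · group
    · rw [mul_inv_eq_iff_eq_mul, mul_assoc, (h.central r).eq]
  push Not at h1 h2 h3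
  refine Or.inr ?_
  have e := T.anti r hr r' hr' h1.1 h1.2 h2.1 h2.2 h3.1 h3.2
  refine mul_inv_eq_iff_eq_mul.mpr ?_
  calc r' * r = r' * r * (t * t) := by rw [h.inv.2, mul_one]
    _ = r * r' * t := by rw [← mul_assoc, e]
    _ = r * t * r' := by rw [mul_assoc, (h.central r').eq, ← mul_assoc]

theorem R_mem_H {r : X} (hr : r ∈ R) : r ∈ H := h.P_le (T.R_le hr)

theorem C_mem_H {c : X} (hc : c ∈ C) : c ∈ H := h.P_le (T.C_le hc)

theorem C_mod {r c : X} (hr : r ∈ R) (hc : c ∈ C) : c * r * c⁻¹ = r ∨ c * r * c⁻¹ = r * t :=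
  Or.inl (by rw [(T.comm c hc r hr).eq, mul_inv_cancel_right])

/-- The elements of square `t` of `R` fix the same points. -/
theorem fixR {r r' : X} (hr : r ∈ R) (hr1 : r ≠ 1) (hrt : r ≠ t) (hr' : r' ∈ R) :
    fixSet H r ⊆ fixSet H r' := by
  intro p hp
  induction p using QuotientGroup.induction_on with
  | _ g => exact fix_iff.mpr (T.fix r hr hr1 hrt g (fix_iff.mp hp) r' hr')

theorem fixR_eq {r r' : X} (hr : r ∈ R) (hr1 : r ≠ 1) (hrt : r ≠ t) (hr' : r' ∈ R) (hr'1 : r' ≠ 1) (hr't : r' ≠ t) :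
    fixSet H r = fixSet H r' :=
  (T.fixR h hr hr1 hrt hr').antisymm (T.fixR h hr' hr'1 hr't hr)

/-- A point fixed by elements of square `t` of both groups is the base point. -/
theorem eq_base {r c : X} (hr : r ∈ R) (hc : c ∈ C) (hr2 : r * r = t) (hc2 : c * c = t) {p : X ⧸ H}
    (hrp : p ∈ fixSet H r) (hcp : p ∈ fixSet H c) : p = base H := by
  have hi : IsInv (r * c) := by
    refine ⟨fun e => ?_, by rw [(T.comm c hc r hr).mul_mul_mul_comm, hr2, hc2, h.inv.2]⟩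
    have hcR : c ∈ R := by rw [eq_inv_of_mul_eq_one_right e]; exact inv_mem hr
    exact (T.inter c hcR hc).elim (T.sq_ne h hc2).1 (T.sq_ne h hc2).2
  have hne : r * c ≠ t := fun e => by
    have hcR : c ∈ R := by rw [show c = r⁻¹ * t by rw [← e, inv_mul_cancel_left]]; exact mul_mem (inv_mem hr) T.t_mem
    exact (T.inter c hcR hc).elim (T.sq_ne h hc2).1 (T.sq_ne h hc2).2
  exact h.eq_of_fix hi hne (by rw [mul_smul, mem_fixSet.mp hcp, mem_fixSet.mp hrp])
    (fix_base.mpr (mul_mem (T.R_mem_H h hr) (T.C_mem_H h hc)))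

theorem base_mem {r : X} (hr : r ∈ R) : base H ∈ fixSet H r := fix_base.mpr (T.R_mem_H h hr)

variable {r : X} (hr : r ∈ R) (hr1 : r ≠ 1) (hrt : r ≠ t)
include hr hr1 hrt

theorem r_sq : r * r = t := T.sq r hr hr1 hrt

local notation "N" => Subgroup.normalizer (Subgroup.zpowers r : Set X)

theorem fixSet_N {n : X} (hn : n ∈ N) {p : X ⧸ H} : p ∈ fixSet H r ↔ n • p ∈ fixSet H r :=
  fixSet_move h (h.conj_eq (T.r_sq h hr hr1 hrt) hn)

/-- `N(<r>)` is transitive on the points fixed by `r`. -/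
theorem orbit {p : X ⧸ H} (hp : p ∈ fixSet H r) : ∃ n ∈ N, n • base H = p := by
  induction p using QuotientGroup.induction_on with
  | _ g =>
    obtain ⟨n, hn, hng⟩ := (T.quat h r hr hr1 hrt).1.fix_orbit h (fix_iff.mp hp)
    refine ⟨n, hn, ?_⟩
    show ((n * 1 : X) : X ⧸ H) = g
    rw [mul_one]
    exact QuotientGroup.eq.mpr hng

theorem card_fix : (fixSet H r).ncard = 5 := by
  obtain ⟨hW, hle, P', hP', hQ⟩ := T.quat h r hr hr1 hrt
  rw [← hQ.five, Subgroup.index, ← Nat.card_coe_set_eq]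
  refine (Nat.card_congr (Equiv.ofBijective (fun q : ↥N ⧸ H.subgroupOf N =>
    (⟨Quotient.liftOn' q (fun n : ↥N => ((n : X) : X ⧸ H)) (fun a b hab => QuotientGroup.eq.mpr
        (by rw [QuotientGroup.leftRel_apply] at hab; exact hab)), ?_⟩ : fixSet H r)) ⟨?_, ?_⟩)).symm
  · induction q using QuotientGroup.induction_on with
    | _ n =>
      show ((n : X) : X ⧸ H) ∈ fixSet H r
      have h1 := (T.fixSet_N h hr hr1 hrt n.2).mp (T.base_mem h hr)
      have h2 : (n : X) • base H = ((n : X) : X ⧸ H) := by show (((n : X) * 1 : X) : X ⧸ H) = _; rw [mul_one]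
      rwa [h2] at h1
  · intro a b hab
    induction a using QuotientGroup.induction_on with
    | _ a =>
      induction b using QuotientGroup.induction_on with
      | _ b =>
        have h1 : ((a : X) : X ⧸ H) = ((b : X) : X ⧸ H) := congrArg Subtype.val hab
        exact QuotientGroup.eq.mpr (show (a⁻¹ * b : ↥N) ∈ H.subgroupOf N from (QuotientGroup.eq (s := H)).mp h1)
  · rintro ⟨p, hp⟩
    obtain ⟨n, hn, rfl⟩ := T.orbit h hr hr1 hrt hp
    refine ⟨((⟨n, hn⟩ : ↥N) : ↥N ⧸ H.subgroupOf N), Subtype.ext ?_⟩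
    show ((n : X) : X ⧸ H) = ((n * 1 : X) : X ⧸ H)
    rw [mul_one]

omit hr hr1 hrt in
/-- The elements of square `t` of `C` fix five points too. -/
theorem card_fixC {c : X} (hc : c ∈ C) (hc1 : c ≠ 1) (hct : c ≠ t) : (fixSet H c).ncard = 5 := by
  obtain ⟨g, -, hgR, -⟩ := T.swap
  have hpre : g⁻¹ * c * g ∈ R := (hgR _).mpr (by simpa [mul_assoc] using hc)
  have h1 : g⁻¹ * c * g ≠ 1 := fun e => hc1 (by rw [show c = g * (g⁻¹ * c * g) * g⁻¹ by group, e, mul_one,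
    mul_inv_cancel])
  have h2 : g⁻¹ * c * g ≠ t := fun e => hct (by rw [show c = g * (g⁻¹ * c * g) * g⁻¹ by group, e,
    (h.central g).eq, mul_inv_cancel_right])
  rw [← T.card_fix h hpre h1 h2]
  have e : fixSet H c = (g • ·) '' fixSet H (g⁻¹ * c * g) := by
    ext p
    rw [show fixSet H c = fixSet H (g * (g⁻¹ * c * g) * g⁻¹) by rw [show g * (g⁻¹ * c * g) * g⁻¹ = c by group],
      fixSet_conj]
    exact ⟨fun hp => ⟨_, hp, smul_inv_smul g p⟩, by rintro ⟨q, hq, rfl⟩; rwa [inv_smul_smul]⟩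
  rw [e, Set.ncard_image_of_injective _ (MulAction.injective g)]

omit hr hr1 hrt in
/-- The elements of square `t` of `C` fix the same points. -/
theorem fixC_eq {c c' : X} (hc : c ∈ C) (hc1 : c ≠ 1) (hct : c ≠ t) (hc' : c' ∈ C) (hc'1 : c' ≠ 1)
    (hc't : c' ≠ t) : fixSet H c = fixSet H c' := by
  obtain ⟨g, -, hgR, -⟩ := T.swap
  have hpre : ∀ {c}, c ∈ C → g⁻¹ * c * g ∈ R := fun {c} hc => (hgR _).mpr (by simpa [mul_assoc] using hc)
  have hne : ∀ {c : X}, c ≠ 1 → c ≠ t → g⁻¹ * c * g ≠ 1 ∧ g⁻¹ * c * g ≠ t := fun {c} h1 h2 =>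
    ⟨fun e => h1 (by rw [show c = g * (g⁻¹ * c * g) * g⁻¹ by group, e, mul_one, mul_inv_cancel]),
      fun e => h2 (by rw [show c = g * (g⁻¹ * c * g) * g⁻¹ by group, e, (h.central g).eq, mul_inv_cancel_right])⟩
  have e : ∀ c : X, fixSet H c = fixSet H (g * (g⁻¹ * c * g) * g⁻¹) := fun c => by
    rw [show g * (g⁻¹ * c * g) * g⁻¹ = c by group]
  ext p
  rw [e c, e c', fixSet_conj, fixSet_conj,
    T.fixR_eq h (hpre hc) (hne hc1 hct).1 (hne hc1 hct).2 (hpre hc') (hne hc'1 hc't).1 (hne hc'1 hc't).2]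

/-- An element of `C` maps a point fixed by `r` to another given one. -/
theorem exists_regular {p q : X ⧸ H} (hp : p ∈ fixSet H r) (hp0 : p ≠ base H) (hq : q ∈ fixSet H r)
    (hq0 : q ≠ base H) (hqp : q ≠ p) : ∃ c ∈ C, c ≠ 1 ∧ c ≠ t ∧ c • p = q := by
  obtain ⟨htC, hC8, hCsq, hCanti⟩ := T.C_facts h
  obtain ⟨c, hc, hc1, hct, -, -⟩ := T.exists_other h hC8 1
  obtain ⟨d, hd, hd1, hdt, hdc, hdct⟩ := T.exists_other h hC8 c
  have hr2 := T.r_sq h hr hr1 hrt
  have hmove : ∀ {x}, x ∈ C → x • p ∈ fixSet H r := fun {x} hx => (fixSet_move h (T.C_mod h hr hx)).mp hp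
  have hfree : ∀ {x}, x ∈ C → x ≠ 1 → x ≠ t → x • p ≠ p := fun {x} hx h1 h2 e =>
    hp0 (T.eq_base h hr hx hr2 (hCsq x hx h1 h2) hp e)
  have hfree' : ∀ {x}, x ∈ C → x • p ≠ base H := fun {x} hx e => hp0 (by
    rw [show p = x⁻¹ • x • p by rw [inv_smul_smul], e, inv_smul_eq_iff.mpr (fix_base.mpr (T.C_mem_H h hx)).symm])
  have hccd : c * c * d = t * d := by rw [hCsq c hc hc1 hct]
  have hcd1 : c * d ≠ 1 := fun e => hdct (by
    rw [eq_inv_of_mul_eq_one_right e, h.inv_eq_mul (hCsq c hc hc1 hct)])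
  have hcdt : c * d ≠ t := fun e => hdc (by
    rw [show d = c⁻¹ * t by rw [← e, inv_mul_cancel_left], h.inv_eq_mul (hCsq c hc hc1 hct), mul_assoc, h.inv.2,
      mul_one])
  have hcd : c⁻¹ * d ≠ 1 ∧ c⁻¹ * d ≠ t :=
    ⟨fun e => hdc (inv_mul_eq_one.mp e).symm, fun e => hdct (by rw [← e, mul_inv_cancel_left])⟩
  have hd' : ∀ {a b : X}, a ∈ C → b ∈ C → a⁻¹ * b ≠ 1 ∧ a⁻¹ * b ≠ t → a • p ≠ b • p := fun {a b} ha hb hne e =>
    hfree (mul_mem (inv_mem ha) hb) hne.1 hne.2 (by rw [mul_smul, ← e, inv_smul_smul])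
  have hsub : ({base H, p, c • p, d • p, (c * d) • p} : Set (X ⧸ H)) ⊆ fixSet H r := by
    rintro x (rfl | rfl | rfl | rfl | rfl)
    exacts [T.base_mem h hr, hp, hmove hc, hmove hd, hmove (mul_mem hc hd)]
  have hcard : ({base H, p, c • p, d • p, (c * d) • p} : Set (X ⧸ H)).ncard = 5 := by
    rw [Set.ncard_insert_of_notMem (by
        simp only [Set.mem_insert_iff, Set.mem_singleton_iff, not_or]
        exact ⟨hp0.symm, (hfree' hc).symm, (hfree' hd).symm, (hfree' (mul_mem hc hd)).symm⟩) (Set.toFinite _),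
      Set.ncard_insert_of_notMem (by
        simp only [Set.mem_insert_iff, Set.mem_singleton_iff, not_or]
        exact ⟨(hfree hc hc1 hct).symm, (hfree hd hd1 hdt).symm, (hfree (mul_mem hc hd) hcd1 hcdt).symm⟩)
        (Set.toFinite _),
      Set.ncard_insert_of_notMem (by
        simp only [Set.mem_insert_iff, Set.mem_singleton_iff, not_or]
        exact ⟨hd' hc hd hcd, hd' hc (mul_mem hc hd) (by rw [inv_mul_cancel_left]; exact ⟨hd1, hdt⟩)⟩)
        (Set.toFinite _),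
      Set.ncard_insert_of_notMem (by
        simp only [Set.mem_singleton_iff]
        refine hd' hd (mul_mem hc hd) ⟨fun e => hc1 ?_, fun e => hct ?_⟩
        · exact mul_eq_right.mp (inv_mul_eq_one.mp e).symm
        · have h1 : c * d = d * t := by rw [← e, mul_inv_cancel_left]
          exact mul_right_cancel (h1.trans (h.central d).eq)) (Set.toFinite _),
      Set.ncard_singleton]
  have h5 := (Set.eq_of_subset_of_ncard_le hsub (by rw [hcard, T.card_fix h hr hr1 hrt]) (Set.toFinite _)).ge hq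
  rcases h5 with e | e | e | e | e
  · exact absurd e hq0
  · exact absurd e hqp
  · exact ⟨c, hc, hc1, hct, e.symm⟩
  · exact ⟨d, hd, hd1, hdt, e.symm⟩
  · exact ⟨c * d, mul_mem hc hd, hcd1, hcdt, e.symm⟩

/-- A 2-subgroup of `H ∩ N(<r>)` trivial on the points fixed by `r` moves into `R` under `N(<r>)`. -/
theorem kernel_conj {U : Subgroup X} (hU : IsPGroup 2 U) (hUN : U ≤ N) (hUH : U ≤ H)
    (hUD : ∀ x ∈ U, ∀ p ∈ fixSet H r, x • p = p) : ∃ m ∈ N, m ∈ H ∧ ∀ x ∈ U, m * x * m⁻¹ ∈ R := by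
  haveI : Fact (Nat.Prime 2) := ⟨Nat.prime_two⟩
  obtain ⟨hW, hle, P', hP', hQ⟩ := T.quat h r hr hr1 hrt
  have hU' : IsPGroup 2 (U.subgroupOf N) := hU.comap_subtype
  obtain ⟨m, hm, hmP⟩ := Bender.Q.exists_conj_sylow hP' hU' (fun x hx => hUH hx)
  refine ⟨m, m.2, hm, fun x hx => ?_⟩
  set x' : ↥N := ⟨x, hUN hx⟩
  have hxK : x' ∈ (H.subgroupOf N).normalCore := Bender.Q.mem_normalCore_of_fix fun q => by
    induction q using QuotientGroup.induction_on with
    | _ n =>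
      refine fix_iff.mpr ?_
      show (n : X)⁻¹ * x * (n : X) ∈ H
      refine fix_iff.mp (hUD x hx _ ?_)
      have h1 := (T.fixSet_N h hr hr1 hrt n.2).mp (T.base_mem h hr)
      have h2 : (n : X) • base H = ((n : X) : X ⧸ H) := by show (((n : X) * 1 : X) : X ⧸ H) = _; rw [mul_one]
      rwa [h2] at h1
  have h3 : m * x' * m⁻¹ ∈ (P' : Subgroup ↥N) ⊓ (H.subgroupOf N).normalCore :=
    ⟨hmP x' hx, (Subgroup.normalCore_normal _).conj_mem x' hxK m⟩
  rw [← hQ.R_eq] at h3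
  exact h3

/-- An element of square `t` of `H ∩ N(<r>)` trivial on the line of `r` fixes exactly that line. -/
theorem fix_kernel {k : X} (hkN : k ∈ N) (hkH : k ∈ H) (hk2 : k * k = t)
    (hkD : ∀ p ∈ fixSet H r, k • p = p) : fixSet H k = fixSet H r := by
  have hU : IsPGroup 2 (Subgroup.zpowers k) := by
    obtain ⟨i, -, hi⟩ := (Nat.dvd_prime_pow Nat.prime_two).mp (orderOf_dvd_of_pow_eq_one (show k ^ 2 ^ 2 = 1 by
      rw [show (2 : ℕ) ^ 2 = 2 * 2 from rfl, pow_mul, pow_two k, hk2, pow_two, h.inv.2]))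
    exact IsPGroup.of_card (n := i) (by rw [Nat.card_zpowers, hi])
  obtain ⟨m, hmN, hmH, hmU⟩ := T.kernel_conj h hr hr1 hrt hU (Subgroup.zpowers_le.mpr hkN)
    (Subgroup.zpowers_le.mpr hkH) (fun x hx p hp => by
      have hle : Subgroup.zpowers k ≤ MulAction.stabilizer X p :=
        Subgroup.zpowers_le.mpr (mem_stabilizer_iff.mpr (hkD p hp))
      exact mem_stabilizer_iff.mp (hle hx))
  have hk' := hmU k (Subgroup.mem_zpowers k)
  have hk'2 : m * k * m⁻¹ * (m * k * m⁻¹) = t := by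
    rw [show m * k * m⁻¹ * (m * k * m⁻¹) = m * (k * k) * m⁻¹ by group, hk2, (h.central m).eq, mul_inv_cancel_right]
  ext p
  rw [← T.fixR_eq h hk' (T.sq_ne h hk'2).1 (T.sq_ne h hk'2).2 hr hr1 hrt,
    show fixSet H k = fixSet H (m⁻¹ * (m * k * m⁻¹) * m⁻¹⁻¹) by rw [show m⁻¹ * (m * k * m⁻¹) * m⁻¹⁻¹ = k by group],
    fixSet_conj, inv_inv, T.fixR_eq h hk' (T.sq_ne h hk'2).1 (T.sq_ne h hk'2).2 hr hr1 hrt,
    ← T.fixSet_N h hr hr1 hrt hmN]

/-- A kernel element of the line of `r` normalising `R` lies in `R`. -/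
theorem kernel_mem {k : X} (hk2 : k * k = t) (hkN : k ∈ N) (hkH : k ∈ H) (hkR : k ∈ Subgroup.normalizer (R : Set X))
    (hkD : ∀ p ∈ fixSet H r, k • p = p) : k ∈ R := by
  haveI : Fact (Nat.Prime 2) := ⟨Nat.prime_two⟩
  set U := R ⊔ Subgroup.zpowers k
  have hU : IsPGroup 2 U := by
    obtain ⟨i, -, hi⟩ := (Nat.dvd_prime_pow Nat.prime_two).mp (orderOf_dvd_of_pow_eq_one (show k ^ 2 ^ 2 = 1 by
      rw [show (2 : ℕ) ^ 2 = 2 * 2 from rfl, pow_mul, pow_two k, hk2, pow_two, h.inv.2]))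
    exact IsPGroup.to_sup_of_normal_left' (P.2.to_le T.R_le)
      (IsPGroup.of_card (n := i) (by rw [Nat.card_zpowers, hi])) (Subgroup.zpowers_le.mpr hkR)
  obtain ⟨-, hle, -⟩ := T.quat h r hr hr1 hrt
  have hstab : U ≤ (⨅ p ∈ fixSet H r, MulAction.stabilizer X p) := sup_le
    (fun x hx => by
      simp only [Subgroup.mem_iInf, mem_stabilizer_iff]
      exact fun p hp => T.fixR h hr hr1 hrt hx hp)
    (Subgroup.zpowers_le.mpr (by simpa [Subgroup.mem_iInf, mem_stabilizer_iff] using hkD))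
  obtain ⟨m, -, -, hmU⟩ := T.kernel_conj h hr hr1 hrt hU
    (sup_le (le_sup_left.trans hle) (Subgroup.zpowers_le.mpr hkN))
    (sup_le (fun x hx => T.R_mem_H h hx) (Subgroup.zpowers_le.mpr hkH))
    (fun x hx p hp => by
      have h1 := hstab hx
      simp only [Subgroup.mem_iInf, mem_stabilizer_iff] at h1
      exact h1 p hp)
  have h2 : Nat.card U ≤ Nat.card R := by
    refine Nat.card_le_card_of_injective (fun x : U => (⟨m * x * m⁻¹, hmU x x.2⟩ : R)) fun a b e => ?_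
    exact Subtype.ext (mul_left_cancel (mul_right_cancel (congrArg Subtype.val e)))
  have h3 : R = U := Subgroup.eq_of_le_of_card_ge le_sup_left h2
  rw [h3]
  exact Subgroup.mem_sup_right (Subgroup.mem_zpowers k)

/-- An element of square `t` of `H ∩ N(<r>)` fixing only the base point of the line is conjugate into `C`. -/
theorem inner {x : X} (hxN : x ∈ N) (hxH : x ∈ H) (hx2 : x * x = t)
    (hxD : ∀ p ∈ fixSet H r, x • p = p → p = base H) :
    ∃ m ∈ N, m ∈ H ∧ m * x * m⁻¹ ∈ C := by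
  haveI : Fact (Nat.Prime 2) := ⟨Nat.prime_two⟩
  obtain ⟨hW, hle, P', hP', hQ⟩ := T.quat h r hr hr1 hrt
  set x' : ↥N := ⟨x, hxN⟩
  have hU : IsPGroup 2 (Subgroup.zpowers x') := by
    obtain ⟨i, -, hi⟩ := (Nat.dvd_prime_pow Nat.prime_two).mp (orderOf_dvd_of_pow_eq_one (show x' ^ 2 ^ 2 = 1 from
      Subtype.ext (by
        show x ^ 2 ^ 2 = 1
        rw [show (2 : ℕ) ^ 2 = 2 * 2 from rfl, pow_mul, pow_two x, hx2, pow_two, h.inv.2])))
    exact IsPGroup.of_card (n := i) (by rw [Nat.card_zpowers, hi])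
  obtain ⟨m, hm, hmP⟩ := Bender.Q.exists_conj_sylow hP' hU (Subgroup.zpowers_le.mpr (show x' ∈ H.subgroupOf N from hxH))
  refine ⟨m, m.2, hm, ?_⟩
  set y : X := (m : X) * x * (m : X)⁻¹ with hy
  have hyP : (m * x' * m⁻¹ : ↥N) ∈ (P' : Subgroup ↥N) := hmP x' (Subgroup.mem_zpowers x')
  have hyN : y ∈ N := (m * x' * m⁻¹ : ↥N).2
  have hy2 : y * y = t := by
    rw [hy, show (m : X) * x * (m : X)⁻¹ * ((m : X) * x * (m : X)⁻¹) = m * (x * x) * (m : X)⁻¹ by group, hx2,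
      (h.central _).eq, mul_inv_cancel_right]
  have hm0 : (m : X) • base H = base H := fix_base.mpr hm
  have hyD : ∀ p ∈ fixSet H r, y • p = p → p = base H := by
    intro p hp e
    have hmN : (m : X)⁻¹ ∈ N := inv_mem m.2
    have h1 := hxD _ ((T.fixSet_N h hr hr1 hrt hmN).mp hp) (by
      rw [hy, mul_smul, mul_smul] at e
      exact smul_left_cancel (m : X) (e.trans (smul_inv_smul _ p).symm))
    rw [← smul_inv_smul (m : X) p, h1, hm0]
  obtain ⟨p, hp, hp0⟩ : ∃ p ∈ fixSet H r, p ≠ base H := by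
    by_contra hall
    push Not at hall
    have h1 : fixSet H r ⊆ {base H} := fun p hp => hall p hp
    have h2 := Set.ncard_le_ncard h1 (Set.toFinite _)
    rw [T.card_fix h hr hr1 hrt, Set.ncard_singleton] at h2
    omega
  have hy0 : y • base H = base H := fix_base.mpr (hP' hyP)
  have hyp := (T.fixSet_N h hr hr1 hrt hyN).mp hp
  have hyp0 : y • p ≠ base H := fun e => hp0 (smul_left_cancel y (e.trans hy0.symm))
  obtain ⟨c, hc, hc1, hct, hcp⟩ := T.exists_regular h hr hr1 hrt hp hp0 hyp hyp0 fun e => hp0 (hyD p hp e)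
  obtain ⟨-, -, hCsq, -⟩ := T.C_facts h
  have hsq : ∀ {z : X}, z * z = t → ∀ q : X ⧸ H, z • z • q = q := fun {z} hz q => by
    rw [← mul_smul, hz, h.t_fix]
  have hagree := five_eq (T.card_fix h hr hr1 hrt) (T.base_mem h hr) (fun q hq => (T.fixSet_N h hr hr1 hrt hyN).mp hq)
    hy0 (fun q _ => hsq hy2 q) hyD (e := c) (fun q hq => (fixSet_move h (T.C_mod h hr hc)).mp hq)
    (fix_base.mpr (T.C_mem_H h hc)) (fun q _ => hsq (hCsq c hc hc1 hct) q)
    (fun q hq e => T.eq_base h hr hc (T.r_sq h hr hr1 hrt) (hCsq c hc hc1 hct) hq e) hp hp0 hcp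
  have hcN : c ∈ N := hle (Subgroup.mem_sup_right hc)
  set k : ↥N := ⟨c, hcN⟩⁻¹ * (m * x' * m⁻¹) with hk
  have hkK : k ∈ (H.subgroupOf N).normalCore := Bender.Q.mem_normalCore_of_fix fun q => by
    induction q using QuotientGroup.induction_on with
    | _ n =>
      refine fix_iff.mpr ?_
      show (n : X)⁻¹ * (c⁻¹ * y) * (n : X) ∈ H
      refine fix_iff.mp ?_
      have h1 := (T.fixSet_N h hr hr1 hrt n.2).mp (T.base_mem h hr)
      have h2 : (n : X) • base H = ((n : X) : X ⧸ H) := by show (((n : X) * 1 : X) : X ⧸ H) = _; rw [mul_one]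
      rw [h2] at h1
      rw [mul_smul, ← hagree _ h1, inv_smul_smul]
  have hkP : k ∈ (P' : Subgroup ↥N) :=
    mul_mem (inv_mem (hQ.C_le (show (⟨c, hcN⟩ : ↥N) ∈ C.subgroupOf N from hc))) hyP
  have hkR : (k : X) ∈ R := by
    have h3 : k ∈ (P' : Subgroup ↥N) ⊓ (H.subgroupOf N).normalCore := ⟨hkP, hkK⟩
    rw [← hQ.R_eq] at h3
    exact h3
  have hye : y = c * (k : X) := (mul_inv_cancel_left c y).symm
  have hk2 : (k : X) * (k : X) = 1 := by
    have h4 := hy2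
    rw [hye, ((T.comm c hc _ hkR).symm).mul_mul_mul_comm, hCsq c hc hc1 hct] at h4
    exact mul_eq_left.mp h4
  by_cases hk1 : (k : X) = 1
  · rw [hye, hk1, mul_one]; exact hc
  by_cases hkt : (k : X) = t
  · rw [hye, hkt]; exact mul_mem hc (T.C_facts h).1
  exact absurd ((T.sq _ hkR hk1 hkt).symm.trans hk2) h.inv.1

/-- The Sylow subgroup of `N(<r>)` in the quaternion outcome normalises `R` and `C`. -/
theorem sylow_normalizes :
    ∃ P' : Sylow 2 ↥N, (P' : Subgroup ↥N) ≤ H.subgroupOf N ∧ ∀ x : ↥N, x ∈ (P' : Subgroup ↥N) →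
      (x : X) ∈ Subgroup.normalizer (R : Set X) ∧ (x : X) ∈ Subgroup.normalizer (C : Set X) := by
  obtain ⟨hW, hle, P', hP', hQ⟩ := T.quat h r hr hr1 hrt
  refine ⟨P', hP', fun x hx => ?_⟩
  have hR : ∀ z ∈ R, (x : X) * z * (x : X)⁻¹ ∈ R := by
    intro z hz
    have hzN : z ∈ N := hle (Subgroup.mem_sup_left hz)
    have h1 : (⟨z, hzN⟩ : ↥N) ∈ (P' : Subgroup ↥N) ⊓ (H.subgroupOf N).normalCore := hQ.R_eq ▸ hz
    have h2 : x * ⟨z, hzN⟩ * x⁻¹ ∈ (P' : Subgroup ↥N) ⊓ (H.subgroupOf N).normalCore :=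
      ⟨(P' : Subgroup ↥N).mul_mem ((P' : Subgroup ↥N).mul_mem hx h1.1) ((P' : Subgroup ↥N).inv_mem hx),
        (Subgroup.normalCore_normal _).conj_mem _ h1.2 x⟩
    rw [← hQ.R_eq] at h2
    exact h2
  have hxR : (x : X) ∈ Subgroup.normalizer (R : Set X) := Comp.mem_normalizer_of_maps hR
  refine ⟨hxR, Comp.mem_normalizer_of_maps fun c hc => ?_⟩
  by_cases hc' : c = 1 ∨ c = t
  · rcases hc' with rfl | rfl
    · simp
    · rw [(h.central _).eq, mul_inv_cancel_right]; exact hc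
  push Not at hc'
  obtain ⟨htC, -, hCsq, -⟩ := T.C_facts h
  have hr2 := T.r_sq h hr hr1 hrt
  have hc2 := hCsq c hc hc'.1 hc'.2
  have hcN : c ∈ N := hle (Subgroup.mem_sup_right hc)
  have hrN : r ∈ N := hle (Subgroup.mem_sup_left hr)
  set w : ↥N := ⟨r, hrN⟩ * ⟨c, hcN⟩
  have hwP : w ∈ (P' : Subgroup ↥N) := by
    refine mul_mem ?_ (hQ.C_le (show (⟨c, hcN⟩ : ↥N) ∈ C.subgroupOf N from hc))
    have h1 : (⟨r, hrN⟩ : ↥N) ∈ (P' : Subgroup ↥N) ⊓ (H.subgroupOf N).normalCore := hQ.R_eq ▸ hr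
    exact h1.1
  have hwi : IsInv w := by
    refine ⟨fun e => ?_, Subtype.ext ?_⟩
    · have e' : r * c = 1 := congrArg Subtype.val e
      have hcR : c ∈ R := by rw [eq_inv_of_mul_eq_one_right e']; exact inv_mem hr
      exact (T.inter c hcR hc).elim hc'.1 hc'.2
    · show r * c * (r * c) = 1
      rw [(T.comm c hc r hr).mul_mul_mul_comm, hr2, hc2, h.inv.2]
  have hwt : w ≠ World.tN h r := fun e => by
    have e' : r * c = t := congrArg Subtype.val e
    have hcR : c ∈ R := by rw [show c = r⁻¹ * t by rw [← e', inv_mul_cancel_left]]; exact mul_mem (inv_mem hr) T.t_mem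
    exact (T.inter c hcR hc).elim hc'.1 hc'.2
  obtain ⟨r₁, hr₁, c₁, hc₁, e, -, -⟩ := hQ.member (x * w * x⁻¹) (mul_mem (mul_mem hx hwP) (inv_mem hx)) (hwi.conj x)
    ((hW.pt h hP').ne_conj hwt x)
  have e' : (x : X) * (r * c) * (x : X)⁻¹ = (r₁ : X) * (c₁ : X) := congrArg Subtype.val e
  set s := ((x : X) * r * (x : X)⁻¹)⁻¹ * (r₁ : X) with hs
  have hsR : s ∈ R := mul_mem (inv_mem (hR r hr)) hr₁
  have hxc : (x : X) * c * (x : X)⁻¹ = s * (c₁ : X) := by
    rw [hs, mul_assoc ((x : X) * r * (x : X)⁻¹)⁻¹, ← e']; group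
  have hsc : ∀ z ∈ R, Commute s z := by
    intro z hz
    have h1 : Commute ((x : X) * c * (x : X)⁻¹) z := by
      have hz' : (x : X)⁻¹ * z * (x : X) ∈ R := (Subgroup.mem_normalizer_iff''.mp hxR z).mp hz
      show (x : X) * c * (x : X)⁻¹ * z = z * ((x : X) * c * (x : X)⁻¹)
      calc (x : X) * c * (x : X)⁻¹ * z = x * (c * ((x : X)⁻¹ * z * x)) * (x : X)⁻¹ := by group
        _ = x * ((x : X)⁻¹ * z * x * c) * (x : X)⁻¹ := by rw [(T.comm c hc _ hz').eq]
        _ = z * ((x : X) * c * (x : X)⁻¹) := by group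
    rw [hxc] at h1
    simpa [mul_assoc] using h1.mul_left ((T.comm _ hc₁ z hz).inv_left)
  rw [hxc]
  refine mul_mem ?_ hc₁
  by_cases hs1 : s = 1
  · rw [hs1]; exact one_mem C
  by_cases hst : s = t
  · rw [hst]; exact htC
  obtain ⟨z, hz, hz1, hzt, hzs, hzst⟩ := T.exists_other h T.card s
  have ea := T.anti s hsR z hz hs1 hst hz1 hzt hzs hzst
  rw [(hsc z hz).eq] at ea
  exact absurd (mul_eq_left.mp ea.symm) h.inv.1

omit hr hr1 hrt in
/-- The kernel meets `P` in `<t>`. -/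
theorem kernel_sylow {k : X} (hkP : k ∈ (P : Subgroup X)) (hkK : k ∈ H.normalCore) : k = 1 ∨ k = t := by
  haveI : Fact (Nat.Prime 2) := ⟨Nat.prime_two⟩
  haveI : H.normalCore.Normal := Subgroup.normalCore_normal _
  set B₀ : Subgroup ↥(P : Subgroup X) := Subgroup.zpowers ⟨t, h.t_mem_P⟩
  set K₀ : Subgroup ↥(P : Subgroup X) := H.normalCore.subgroupOf (P : Subgroup X)
  haveI : B₀.Normal := ⟨fun x hx g => by
    obtain ⟨i, rfl⟩ := Subgroup.mem_zpowers_iff.mp hx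
    rw [← conj_zpow]
    refine zpow_mem ?_ i
    rw [show g * ⟨t, h.t_mem_P⟩ * g⁻¹ = (⟨t, h.t_mem_P⟩ : ↥(P : Subgroup X)) from Subtype.ext (by
      show (g : X) * t * (g : X)⁻¹ = t
      rw [(h.central (g : X)).eq, mul_inv_cancel_right])]
    exact Subgroup.mem_zpowers _⟩
  haveI : K₀.Normal := inferInstance
  have hle : B₀ ≤ K₀ := Subgroup.zpowers_le.mpr h.t_mem_R.2
  have hmemB : ∀ z : ↥(P : Subgroup X), z ∈ B₀ → (z : X) = 1 ∨ (z : X) = t := fun z hz => by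
    obtain ⟨i, rfl⟩ := Subgroup.mem_zpowers_iff.mp hz
    rw [SubgroupClass.coe_zpow]
    show t ^ i = 1 ∨ t ^ i = t
    rcases Int.even_or_odd i with ⟨j, rfl⟩ | ⟨j, rfl⟩
    · exact Or.inl (by rw [← two_mul, zpow_mul, zpow_two, h.inv.2, one_zpow])
    · exact Or.inr (by rw [zpow_add, zpow_mul, zpow_two, h.inv.2, one_zpow, one_mul, zpow_one])
  by_contra hcon
  have hlt : B₀ < K₀ := lt_of_le_of_ne hle fun e =>
    hcon (hmemB ⟨k, hkP⟩ (e ▸ (show (⟨k, hkP⟩ : ↥(P : Subgroup X)) ∈ K₀ from hkK)))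
  obtain ⟨B, hBn, hB₀B, hBK, hcard⟩ := PGroupRankTwo.exists_normal_step P.isPGroup' hlt
  obtain ⟨z, hz, hz'⟩ : ∃ z ∈ B, z ∉ B₀ := by
    by_contra hall
    push Not at hall
    have := Subgroup.card_le_of_le hall
    have : 0 < Nat.card B₀ := Nat.card_pos
    omega
  have hidx : (B₀.subgroupOf B).index = 2 := by
    have h1 := (B₀.subgroupOf B).card_mul_index
    rw [Nat.card_congr (Subgroup.subgroupOfEquivOfLe hB₀B).toEquiv, hcard] at h1
    exact mul_left_cancel₀ Nat.card_pos.ne' h1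
  have hzz : z * z ∈ B₀ := (Subgroup.mul_mem_iff_of_index_two hidx (a := ⟨z, hz⟩) (b := ⟨z, hz⟩)).mpr Iff.rfl
  have hzK : (z : X) ∈ H.normalCore := hBK hz
  have hz1 : (z : X) ≠ 1 := fun e => hz' (by rw [show z = 1 from Subtype.ext e]; exact one_mem _)
  have hzt : (z : X) ≠ t := fun e => hz' (by
    rw [show z = ⟨t, h.t_mem_P⟩ from Subtype.ext e]; exact Subgroup.mem_zpowers _)
  have hz2 : (z : X) * z = t := by
    rcases hmemB _ hzz with e | e
    · exact absurd (h.kernel_inv ⟨hz1, e⟩ hzK) hzt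
    · exact e
  -- `z` is central modulo `t`, so acts in the normalizer of every `<r>`
  have hconj : ∀ x ∈ (P : Subgroup X), x * z * x⁻¹ = z ∨ x * z * x⁻¹ = z * t := by
    intro x hx
    set g : ↥(P : Subgroup X) := ⟨x, hx⟩
    have hgB : g * z * g⁻¹ ∈ B := hBn.conj_mem z hz g
    have hgB' : g * z * g⁻¹ ∉ B₀ := fun hmem => hz' (by
      simpa [mul_assoc] using (inferInstance : B₀.Normal).conj_mem _ hmem g⁻¹)
    have h1 : z⁻¹ * (g * z * g⁻¹) ∈ B₀ :=
      (Subgroup.mul_mem_iff_of_index_two hidx (a := ⟨z⁻¹, inv_mem hz⟩) (b := ⟨g * z * g⁻¹, hgB⟩)).mpr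
        (iff_of_false (fun e => hz' (inv_mem_iff.mp (show z⁻¹ ∈ B₀ from e))) hgB')
    rcases hmemB _ h1 with e | e
    · exact Or.inl (inv_mul_eq_one.mp (show (z : X)⁻¹ * (x * z * x⁻¹) = 1 from e)).symm
    · exact Or.inr (eq_mul_of_inv_mul_eq (show (z : X)⁻¹ * (x * z * x⁻¹) = t from e))
  obtain ⟨r₀, hr₀, hr₀1, hr₀t, -, -⟩ := T.exists_other h T.card 1
  have hr2 := T.r_sq h hr₀ hr₀1 hr₀t
  have hzN : (z : X) ∈ Subgroup.normalizer (Subgroup.zpowers r₀ : Set X) :=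
    h.mem_normalizer hr2 (mod_symm h (hconj r₀ (T.R_le hr₀)))
  have hfix := T.fix_kernel h hr₀ hr₀1 hr₀t hzN (h.P_le z.2) hz2 fun p _ => Bender.Q.fix_normalCore hzK p
  obtain ⟨g, hg, c, hc, hgc⟩ := T.apart
  obtain ⟨g₀, -, hgR, hgC⟩ := T.swap
  -- the point moved by `C` gives one moved by `R`
  have hpre : g₀⁻¹ * c * g₀ ∈ R := (hgR _).mpr (by simpa [mul_assoc] using hc)
  have hall : ∀ p : X ⧸ H, p ∈ fixSet H r₀ := fun p => hfix ▸ Bender.Q.fix_normalCore hzK p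
  refine hgc (fix_iff.mp ?_)
  show c • ((g : X) : X ⧸ H) = _
  rw [show c = g₀ * (g₀⁻¹ * c * g₀) * g₀⁻¹ by group]
  exact (fixSet_conj g₀ _ _).mpr (T.fixR h hr₀ hr₀1 hr₀t hpre (hall _))

end Twin

end CfsgLib.CoreKill.Local
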