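import Cfsg.Agent.Lib.CoreKill.Fail.Twin.Basic

/-!
Covering: every point outside the line of `r` lies on a translate under `N(<r>)` of the line of `C`. A member at the
point and `r` give an element `j` of square `t` fixing the point and one of the line; in the one case left a member
centralises it and the swap of the point with its image under `r`, halved in `N(<j>)`, finishes.

Blueprint: `blueprint/bender/CoreKill.md`, 4 (B).
-/

set_option autoImplicit false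
set_option linter.unusedSectionVars false
set_option linter.style.haveILetI false

universe u

namespace CfsgLib.CoreKill.Local

open Cfsg MulAction
open CfsgLib.Bender.TwoClosed (IsInv)
open CfsgLib.Bender.Assembly (fix_iff)

variable {X : Type u} [Group X] [Finite X] {H : Subgroup X} {P : Sylow 2 X} {t : X} {R C : Subgroup X}

/-- An element of square `t` normalising a quaternion group and fixing `x` there fixes all classes modulo `t`. -/
theorem classes_of_fixed (h : Pt H P t) {G : Subgroup X} (hsq : ∀ x ∈ G, x ≠ 1 → x ≠ t → x * x = t)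
    (hanti : ∀ x ∈ G, ∀ y ∈ G, x ≠ 1 → x ≠ t → y ≠ 1 → y ≠ t → y ≠ x → y ≠ x * t → x * y = y * x * t)
    (hclasses : ∀ x ∈ G, ∀ y ∈ G, x ≠ 1 → x ≠ t → y ≠ 1 → y ≠ t → y ≠ x → y ≠ x * t → ∀ z ∈ G,
      z = 1 ∨ z = t ∨ z = x ∨ z = x * t ∨ z = y ∨ z = y * t ∨ z = x * y ∨ z = x * y * t)
    {j : X} (hj2 : j * j = t) (hjG : ∀ z ∈ G, j * z * j⁻¹ ∈ G) {x : X} (hx : x ∈ G) (hx1 : x ≠ 1) (hxt : x ≠ t)
    (hjx : j * x * j⁻¹ = x) : ∀ z ∈ G, j * z * j⁻¹ = z ∨ j * z * j⁻¹ = z * t := by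
  intro z hz
  by_cases hz' : z = 1 ∨ z = t
  · refine Or.inl ?_
    rcases hz' with rfl | rfl
    · simp
    · rw [(h.central j).eq, mul_inv_cancel_right]
  push Not at hz'
  have hxt2 : x * t * t = x := by rw [mul_assoc, h.inv.2, mul_one]
  have hjt : j * t * j⁻¹ = t := by rw [(h.central j).eq, mul_inv_cancel_right]
  by_cases hzx : z = x ∨ z = x * t
  · refine Or.inl ?_
    rcases hzx with rfl | rfl
    · exact hjx
    · rw [show j * (x * t) * j⁻¹ = j * x * j⁻¹ * (j * t * j⁻¹) by group, hjx, hjt]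
  push Not at hzx
  have hback : ∀ w : X, j * (j * w * j⁻¹) * j⁻¹ = w := fun w => by
    rw [show j * (j * w * j⁻¹) * j⁻¹ = (j * j) * w * (j * j)⁻¹ by group, hj2, ← (h.central w).eq, mul_inv_cancel_right]
  have hz2 := hsq z hz hz'.1 hz'.2
  rcases hclasses x hx z hz hx1 hxt hz'.1 hz'.2 hzx.1 hzx.2 _ (hjG z hz) with e | e | e | e | e | e | e | e
  · exact absurd (conj_eq_one_iff.mp e) hz'.1
  · refine absurd ?_ hz'.2
    rw [show z = j⁻¹ * (j * z * j⁻¹) * j by group, e, mul_assoc, ← (h.central j).eq, inv_mul_cancel_left]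
  · refine absurd ?_ hzx.1
    rw [← hback z, e, hjx]
  · refine absurd ?_ hzx.2
    rw [← hback z, e, show j * (x * t) * j⁻¹ = j * x * j⁻¹ * (j * t * j⁻¹) by group, hjx, hjt]
  · exact Or.inl e
  · exact Or.inr e
  · refine absurd ?_ h.inv.1
    have h1 := hback z
    rw [e, show j * (x * z) * j⁻¹ = j * x * j⁻¹ * (j * z * j⁻¹) by group, hjx, e, ← mul_assoc, hsq x hx hx1 hxt] at h1
    exact mul_eq_right.mp h1
  · refine absurd ?_ h.inv.1
    have h1 := hback z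
    rw [e, show j * (x * z * t) * j⁻¹ = j * x * j⁻¹ * (j * z * j⁻¹) * (j * t * j⁻¹) by group, hjx, hjt, e,
      show x * (x * z * t) * t = x * x * z * (t * t) by group, hsq x hx hx1 hxt, h.inv.2, mul_one] at h1
    exact mul_eq_right.mp h1

/-- The smallest power of a 2-element outside `<t>`. -/
theorem exists_last_power (ht : t * t = 1) {x : X} {k : ℕ} (hk : x ^ 2 ^ k = 1) (hx : x ≠ 1 ∧ x ≠ t) :
    ∃ n : ℕ, (x ^ n ≠ 1 ∧ x ^ n ≠ t) ∧ (x ^ n * x ^ n = 1 ∨ x ^ n * x ^ n = t) := by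
  induction k generalizing x with
  | zero => exact absurd (by simpa using hk) hx.1
  | succ k ih =>
    by_cases h1 : x * x = 1 ∨ x * x = t
    · exact ⟨1, by rwa [pow_one], by rwa [pow_one]⟩
    push Not at h1
    have hk' : (x * x) ^ 2 ^ k = 1 := by rwa [← pow_two, ← pow_mul, ← pow_succ']
    obtain ⟨n, hn, hn2⟩ := ih hk' h1
    refine ⟨2 * n, ?_, ?_⟩ <;> rw [pow_mul, pow_two] <;> assumption

namespace Twin

variable (h : Pt H P t) (T : Twin H P t R C)
include h T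

theorem classes {G : Subgroup X} (hG8 : Nat.card G = 8) (htG : t ∈ G) :
    ∀ x ∈ G, ∀ y ∈ G, x ≠ 1 → x ≠ t → y ≠ 1 → y ≠ t → y ≠ x → y ≠ x * t → x * y ≠ 1 → x * y ≠ t → ∀ z ∈ G,
      z = 1 ∨ z = t ∨ z = x ∨ z = x * t ∨ z = y ∨ z = y * t ∨ z = x * y ∨ z = x * y * t := by
  classical
  intro x hx y hy hx1 hxt hy1 hyt hyx hyxt hxy1 hxyt z hz
  have hsub : ({1, t, x, x * t, y, y * t, x * y, x * y * t} : Set X) ⊆ G := by
    rintro w (rfl | rfl | rfl | rfl | rfl | rfl | rfl | rfl)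
    exacts [one_mem G, htG, hx, mul_mem hx htG, hy, mul_mem hy htG, mul_mem hx hy, mul_mem (mul_mem hx hy) htG]
  have hcard : ({1, t, x, x * t, y, y * t, x * y, x * y * t} : Set X).ncard = 8 := by
    have h2 : ∀ a : X, a * t * t = a := fun a => by rw [mul_assoc, h.inv.2, mul_one]
    have n1 : x * t ≠ 1 := fun e => hxt (by rw [← h2 x, e, one_mul])
    have n2 : y * t ≠ 1 := fun e => hyt (by rw [← h2 y, e, one_mul])
    have n3 : x * y * t ≠ 1 := fun e => hxyt (by rw [← h2 (x * y), e, one_mul])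
    have n4 : x * t ≠ t := fun e => hx1 (mul_eq_right.mp e)
    have n5 : y * t ≠ t := fun e => hy1 (mul_eq_right.mp e)
    have n6 : x * y * t ≠ t := fun e => hxy1 (mul_eq_right.mp e)
    have n7 : x ≠ x * t := fun e => h.inv.1 (mul_eq_left.mp e.symm)
    have n8 : x ≠ y * t := fun e => hyxt (by rw [e, h2])
    have n9 : x ≠ x * y := fun e => hy1 (mul_eq_left.mp e.symm)
    have n10 : x ≠ x * y * t := fun e => hyt (by
      rw [mul_assoc] at e
      rw [← h2 y, mul_eq_left.mp e.symm, one_mul])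
    have n11 : x * t ≠ y * t := fun e => hyx (mul_right_cancel e).symm
    have n12 : x * t ≠ x * y := fun e => hyt (mul_left_cancel e).symm
    have n13 : x * t ≠ x * y * t := fun e => n9 (mul_right_cancel e)
    have n14 : y ≠ y * t := fun e => h.inv.1 (mul_eq_left.mp e.symm)
    have n15 : y ≠ x * y := fun e => hx1 (mul_eq_right.mp e.symm)
    have n16 : y ≠ x * y * t := fun e => hxt (by
      have h3 : y * t = x * y := by
        conv_lhs => rw [e]
        rw [h2]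
      rw [(h.central y).eq] at h3
      exact (mul_right_cancel h3).symm)
    have n17 : y * t ≠ x * y := fun e => hxt (by rw [(h.central y).eq] at e; exact (mul_right_cancel e).symm)
    have n18 : y * t ≠ x * y * t := fun e => n15 (mul_right_cancel e)
    have n19 : x * y ≠ x * y * t := fun e => h.inv.1 (mul_eq_left.mp e.symm)
    rw [Set.ncard_insert_of_notMem (by
        simp only [Set.mem_insert_iff, Set.mem_singleton_iff, not_or]
        exact ⟨h.inv.1.symm, hx1.symm, n1.symm, hy1.symm, n2.symm, hxy1.symm, n3.symm⟩) (Set.toFinite _),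
      Set.ncard_insert_of_notMem (by
        simp only [Set.mem_insert_iff, Set.mem_singleton_iff, not_or]
        exact ⟨hxt.symm, n4.symm, hyt.symm, n5.symm, hxyt.symm, n6.symm⟩) (Set.toFinite _),
      Set.ncard_insert_of_notMem (by
        simp only [Set.mem_insert_iff, Set.mem_singleton_iff, not_or]
        exact ⟨n7, hyx.symm, n8, n9, n10⟩) (Set.toFinite _),
      Set.ncard_insert_of_notMem (by
        simp only [Set.mem_insert_iff, Set.mem_singleton_iff, not_or]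
        exact ⟨hyxt.symm, n11, n12, n13⟩) (Set.toFinite _),
      Set.ncard_insert_of_notMem (by
        simp only [Set.mem_insert_iff, Set.mem_singleton_iff, not_or]
        exact ⟨n14, n15, n16⟩) (Set.toFinite _),
      Set.ncard_insert_of_notMem (by
        simp only [Set.mem_insert_iff, Set.mem_singleton_iff, not_or]
        exact ⟨n17, n18⟩) (Set.toFinite _),
      Set.ncard_insert_of_notMem (by
        simp only [Set.mem_singleton_iff]
        exact n19) (Set.toFinite _),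
      Set.ncard_singleton]
  have h5 := (Set.eq_of_subset_of_ncard_le hsub (by
    rw [hcard]; exact le_of_eq ((Nat.card_coe_set_eq _).symm.trans hG8)) (Set.toFinite _)).ge hz
  simpa using h5

theorem classes' {G : Subgroup X} (hG8 : Nat.card G = 8) (htG : t ∈ G)
    (hsq : ∀ x ∈ G, x ≠ 1 → x ≠ t → x * x = t) :
    ∀ x ∈ G, ∀ y ∈ G, x ≠ 1 → x ≠ t → y ≠ 1 → y ≠ t → y ≠ x → y ≠ x * t → ∀ z ∈ G,
      z = 1 ∨ z = t ∨ z = x ∨ z = x * t ∨ z = y ∨ z = y * t ∨ z = x * y ∨ z = x * y * t :=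
  fun x hx y hy hx1 hxt hy1 hyt hyx hyxt => T.classes h hG8 htG x hx y hy hx1 hxt hy1 hyt hyx hyxt
    (fun e => hyxt (by rw [eq_inv_of_mul_eq_one_right e, h.inv_eq_mul (hsq x hx hx1 hxt)]))
    (fun e => hyx (by rw [show y = x⁻¹ * t by rw [← e, inv_mul_cancel_left], h.inv_eq_mul (hsq x hx hx1 hxt),
      mul_assoc, h.inv.2, mul_one]))

/-- An element of `H` fixing a second point of the line and commuting with `C` modulo `t` is trivial on it. -/
theorem trivial_of_commute {r : X} (hr : r ∈ R) (hr1 : r ≠ 1) (hrt : r ≠ t) {j : X} (hjH : j ∈ H)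
    (hjC : ∀ c ∈ C, j * c * j⁻¹ = c ∨ j * c * j⁻¹ = c * t) {p : X ⧸ H} (hp : p ∈ fixSet H r) (hp0 : p ≠ base H)
    (hjp : j • p = p) : ∀ q ∈ fixSet H r, j • q = q := by
  intro q hq
  by_cases hq0 : q = base H
  · rw [hq0]; exact fix_base.mpr hjH
  by_cases hqp : q = p
  · rw [hqp]; exact hjp
  obtain ⟨c, hc, -, -, rfl⟩ := T.exists_regular h hr hr1 hrt hp hp0 hq hq0 hqp
  have e : j * c = j * c * j⁻¹ * j := by group
  rw [← mul_smul, e, mul_smul, hjp]
  rcases hjC c hc with e' | e' <;> rw [e']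
  rw [mul_smul, h.t_fix]

variable {r : X} (hr : r ∈ R) (hr1 : r ≠ 1) (hrt : r ≠ t)
include hr hr1 hrt

local notation "N" => Subgroup.normalizer (Subgroup.zpowers r : Set X)

/-- The swap halved in `N(<j>)`, when a member centralises `j`. -/
theorem cover_cent {j : X} (hj : Cent H t j) (hjr : j * r * j⁻¹ = r ∨ j * r * j⁻¹ = r * t) {b : X ⧸ H}
    (hjb : j • b = b) (hb : b ∉ fixSet H r) :
    ∃ n ∈ N, ∀ c ∈ C, c ≠ 1 → c ≠ t → n⁻¹ • b ∈ fixSet H c := by
  classical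
  haveI : Fact (Nat.Prime 2) := ⟨Nat.prime_two⟩
  have hr2 := T.r_sq h hr hr1 hrt
  have hb0 : b ≠ base H := fun e => hb (e ▸ T.base_mem h hr)
  set M := Subgroup.normalizer (Subgroup.zpowers j : Set X)
  set HM := H.subgroupOf M
  obtain ⟨P', hP'⟩ := hj.exists_sylow h
  obtain ⟨y, hy, hyc⟩ := hj.exists_y_cent h hP'
  have hpt := hj.pt h hP'
  have hQ := hpt.hyp hy (hj.nf h hP' hy hyc)
  have htr : ∀ (n x : ↥M), (x • ((n : ↥M) : ↥M ⧸ HM) = ((n : ↥M) : ↥M ⧸ HM)) ↔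
      (x : X) • ((n : X) : X ⧸ H) = ((n : X) : X ⧸ H) := fun n x => by
    rw [fix_iff, fix_iff]; rfl
  have hsmul : ∀ (x n : ↥M), (x : X) • ((n : X) : X ⧸ H) = (((x * n : ↥M) : X) : X ⧸ H) := fun _ _ => rfl
  obtain ⟨n₁, hn₁⟩ : ∃ n : ↥M, ((n : X) : X ⧸ H) = b := by
    induction b using QuotientGroup.induction_on with
    | _ g =>
      obtain ⟨n, hn, hng⟩ := hj.fix_orbit h (fix_iff.mp hjb)
      exact ⟨⟨n, hn⟩, QuotientGroup.eq.mpr hng⟩
  have hrM : r ∈ M := h.mem_normalizer hj.sq (mod_symm h hjr)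
  set r' : ↥M := ⟨r, hrM⟩
  set c₀ : ↥M ⧸ HM := QuotientGroup.mk n₁
  set d₀ : ↥M ⧸ HM := r' • c₀
  have hrb : r • b ≠ b := hb
  have hne : c₀ ≠ d₀ := fun e => hrb (by
    rw [← hn₁]
    exact (htr n₁ r').mp e.symm)
  obtain ⟨zi, hzZ, hzc, hzd⟩ := Bender.Q.exists_swap hQ hne
  obtain ⟨x, hx, rfl⟩ := hzZ
  obtain ⟨g, rfl⟩ := isConj_iff.mp hx
  set z : ↥M := g * y * g⁻¹ with hz
  have hzc' : z • c₀ = d₀ := hzc
  have hzd' : z • d₀ = c₀ := hzd
  have hzi : IsInv z := hy.inv.conj g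
  have hzmem : img HM z ∈ img HM '' conjugatesOf y := ⟨z, hx, rfl⟩
  clear_value z
  have hrd : r' • d₀ = c₀ := by
    show r' • r' • c₀ = c₀
    rw [← mul_smul, show r' * r' = World.tN h j from Subtype.ext hr2]
    exact hpt.t_fix c₀
  set w : ↥M := r' * z * r'⁻¹ * z with hw
  have hwc : w • c₀ = c₀ := by
    rw [hw, mul_smul, hzc', mul_smul, mul_smul, inv_smul_eq_iff.mpr (show d₀ = r' • c₀ from rfl), hzc']
    exact hrd
  have hwd : w • d₀ = d₀ := by
    rw [hw, mul_smul, hzd', mul_smul, mul_smul, inv_smul_eq_iff.mpr hrd.symm, hzd']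
  -- the image of `w` has odd order
  have hodd : Odd (orderOf (img HM w)) := by
    rw [← Nat.not_even_iff_odd]
    intro hev
    set Z := img HM '' conjugatesOf y
    set v := img HM w ^ (orderOf (img HM w) / 2)
    have hpos : 0 < orderOf (img HM w) := orderOf_pos _
    obtain ⟨k, hk⟩ := hev
    have hv : IsInv v := ⟨pow_ne_one_of_lt_orderOf (by omega) (by omega), by
      rw [← pow_add, show orderOf (img HM w) / 2 + orderOf (img HM w) / 2 = orderOf (img HM w) by omega,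
        pow_orderOf_eq_one]⟩
    have hmem : v ∈ Subgroup.closure Z := by
      refine pow_mem ?_ _
      rw [hw, map_mul, map_mul, map_mul, map_inv]
      exact mul_mem (Subgroup.subset_closure (hQ.conj _ hzmem _)) (Subgroup.subset_closure hzmem)
    obtain ⟨q, -, huniq⟩ := Bender.Q.theoremQ _ (↥M ⧸ HM) Z hQ v hmem hv
    have hfixv : ∀ q : ↥M ⧸ HM, img HM w • q = q → v • q = q := fun q hq => by
      have hle : Subgroup.zpowers (img HM w) ≤ stabilizer _ q := Subgroup.zpowers_le.mpr (mem_stabilizer_iff.mpr hq)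
      exact mem_stabilizer_iff.mp (hle (pow_mem (Subgroup.mem_zpowers _) _))
    exact hne ((huniq c₀ (hfixv c₀ hwc)).trans (huniq d₀ (hfixv d₀ hwd)).symm)
  obtain ⟨k, m, hm, hkm⟩ := Nat.exists_eq_two_pow_mul_odd (orderOf_pos w).ne'
  obtain ⟨l, hl⟩ := hm
  have hdvd : orderOf (img HM w) ∣ m :=
    ((Nat.coprime_two_right.mpr hodd).pow_right k).dvd_of_dvd_mul_left (hkm ▸ orderOf_map_dvd (img HM) w)
  set e : ↥M := w ^ m with he
  have hefix : ∀ q : ↥M ⧸ HM, e • q = q := fun q => by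
    rw [← img_smul, he, map_pow, orderOf_dvd_iff_pow_eq_one.mp hdvd, one_smul]
  set z₀ : ↥M := w ^ (l + 1) * z with hz0
  have hzwz : z * w * z⁻¹ = w⁻¹ := by
    rw [hw, mul_inv_rev, mul_inv_rev, mul_inv_rev, inv_inv, hzi.inv]
    simp only [mul_assoc, hzi.2, mul_one]
  have hrw : r' * w * r'⁻¹ = w⁻¹ := by
    have hrrz : r' * r' * z * (r' * r')⁻¹ = z := by
      rw [show r' * r' = World.tN h j from Subtype.ext hr2, ← (hpt.central z).eq, mul_inv_cancel_right]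
    calc r' * w * r'⁻¹ = (r' * r' * z * (r' * r')⁻¹) * (r' * z * r'⁻¹) := by rw [hw]; group
      _ = z * (r' * z * r'⁻¹) := by rw [hrrz]
      _ = w⁻¹ := by rw [hw, mul_inv_rev, mul_inv_rev, mul_inv_rev, inv_inv, hzi.inv]; simp only [mul_assoc]
  have hz0i : z₀ * z₀ = 1 := by
    have h1 : z * w ^ (l + 1) * z⁻¹ = (w ^ (l + 1))⁻¹ := by rw [← conj_pow, hzwz, inv_pow]
    rw [hzi.inv] at h1
    calc z₀ * z₀ = w ^ (l + 1) * (z * w ^ (l + 1) * z) := by rw [hz0]; simp only [mul_assoc]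
      _ = 1 := by rw [h1, mul_inv_cancel]
  have hz0w : z₀ * w * z₀⁻¹ = w⁻¹ := by
    calc z₀ * w * z₀⁻¹ = w ^ (l + 1) * (z * w * z⁻¹) * (w ^ (l + 1))⁻¹ := by rw [hz0]; group
      _ = w⁻¹ := by rw [hzwz]; group
  have hconj : r' * z₀ * r'⁻¹ = e⁻¹ * z₀ := by
    have hwz : r' * z * r'⁻¹ = w * z := by rw [hw, mul_assoc _ z z, hzi.2, mul_one]
    calc r' * z₀ * r'⁻¹ = (r' * w * r'⁻¹) ^ (l + 1) * (r' * z * r'⁻¹) := by rw [conj_pow, hz0]; group
      _ = (w ^ (l + 1))⁻¹ * (w * z) := by rw [hrw, hwz, inv_pow]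
      _ = (w ^ m)⁻¹ * (w ^ (l + 1) * z) := by
        have hw2 : (w ^ (l + 1))⁻¹ * w = (w ^ m)⁻¹ * w ^ (l + 1) := by
          refine eq_inv_mul_iff_mul_eq.mpr ?_
          rw [hl, show 2 * l + 1 = l + (l + 1) by omega, pow_add, mul_assoc, mul_inv_cancel_left, ← pow_succ]
        rw [← mul_assoc, hw2, mul_assoc]
      _ = e⁻¹ * z₀ := by rw [he, hz0]
  -- translate to `X`
  set Z₀ : X := (z₀ : X)
  set E : X := (e : X)
  have hzj : Commute (z : X) j := by rw [hz]; exact hj.conj_cent h g hyc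
  have hwj : Commute (w : X) j := by
    show Commute ((r' : X) * z * (r' : X)⁻¹ * z) j
    exact (hj.conj_cent h r' hzj).mul_left hzj
  have hZj : Commute Z₀ j := by
    show Commute (((w ^ (l + 1) : ↥M) : X) * z) j
    rw [SubmonoidClass.coe_pow]
    exact (hwj.pow_left _).mul_left hzj
  have hwl : ∀ {q : ↥M ⧸ HM}, w • q = q → ∀ i : ℕ, (w ^ i) • q = q := fun {q} hq i => by
    have hle : Subgroup.zpowers w ≤ stabilizer _ q := Subgroup.zpowers_le.mpr (mem_stabilizer_iff.mpr hq)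
    exact mem_stabilizer_iff.mp (hle (pow_mem (Subgroup.mem_zpowers _) _))
  have hz0c : z₀ • c₀ = d₀ := by rw [hz0, mul_smul, hzc', hwl hwd]
  have hZb : Z₀ • b = r • b := by
    rw [← hn₁, hsmul z₀ n₁, show r • ((n₁ : X) : X ⧸ H) = (((r' * n₁ : ↥M) : X) : X ⧸ H) from rfl]
    exact QuotientGroup.eq.mpr (show ((z₀ * n₁)⁻¹ * (r' * n₁) : ↥M) ∈ HM from QuotientGroup.eq.mp hz0c)
  have hEb : E • b = b := by rw [← hn₁]; exact (htr n₁ e).mp (hefix _)
  have hE0 : E • base H = base H := by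
    have h1 := (htr 1 e).mp (hefix _)
    simpa using h1
  have hZ0i : IsInv Z₀ := ⟨fun e1 => hrb (by rw [← hZb, e1, one_smul]), congrArg Subtype.val hz0i⟩
  have hZt : Z₀ ≠ t := fun e1 => hrb (by rw [← hZb, e1, h.t_fix])
  have hrZ : r * Z₀ * r⁻¹ = E⁻¹ * Z₀ := congrArg Subtype.val hconj
  by_cases hE : E = 1 ∨ E = t
  · -- then `Z₀` normalises `<r>` and the fixed point is on the line
    have hmod : r * Z₀ * r⁻¹ = Z₀ ∨ r * Z₀ * r⁻¹ = Z₀ * t := by
      rcases hE with e1 | e1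
      · exact Or.inl (by rw [hrZ, e1, inv_one, one_mul])
      · exact Or.inr (by rw [hrZ, e1, h.inv.inv, (h.central Z₀).eq])
    have hZN : Z₀ ∈ N := h.mem_normalizer hr2 (mod_symm h hmod)
    obtain ⟨p, hp, -⟩ := h.one_fix hZ0i hZt
    have hpr : p ∈ fixSet H r :=
      h.eq_of_fix hZ0i hZt (mem_fixSet.mp ((fixSet_move h hmod).mp (mem_fixSet.mpr hp))) hp
    set x := r⁻¹ * Z₀ with hx'
    have hxb : x • b = b := by rw [hx', mul_smul, hZb, inv_smul_smul]
    have hxp : x • p = p := by rw [hx', mul_smul, hp, inv_smul_eq_iff.mpr hpr.symm]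
    have hbp : b ≠ p := fun e1 => hb (e1 ▸ hpr)
    have hxx : x * x = 1 ∨ x * x = t := by
      have hri : r⁻¹ * r⁻¹ = t := by rw [← mul_inv_rev, hr2, h.inv.inv]
      have e1 : x * x = r⁻¹ * r⁻¹ * (r * Z₀ * r⁻¹) * Z₀ := by rw [hx']; group
      rcases hmod with e2 | e2 <;> rw [e2, hri] at e1
      · exact Or.inr (by rw [e1, mul_assoc, hZ0i.2, mul_one])
      · exact Or.inl (by
          rw [e1, mul_assoc, mul_assoc Z₀, ← (h.central Z₀).eq, ← mul_assoc Z₀, hZ0i.2, one_mul, h.inv.2])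
    have hxt : x ≠ 1 ∧ x ≠ t := ⟨fun e1 => h.inv.1 (by
      have : Z₀ = r := (inv_mul_eq_one.mp e1).symm
      rw [← hr2, ← this]; exact hZ0i.2), fun e1 => h.inv.1 (by
      have h2 : Z₀ = r * t := eq_mul_of_inv_mul_eq e1
      have h3 := hZ0i.2
      rwa [h2, (h.central r).symm.mul_mul_mul_comm, hr2, h.inv.2, mul_one] at h3)⟩
    rcases hxx with hx2 | hx2
    · exact absurd (h.eq_of_fix ⟨hxt.1, hx2⟩ hxt.2 hxb hxp) hbp
    obtain ⟨n, hn, hnp⟩ := T.orbit h hr hr1 hrt hpr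
    have hxN : x ∈ N := mul_mem (inv_mem (Subgroup.le_normalizer (Subgroup.mem_zpowers r))) hZN
    set x₁ := n⁻¹ * x * n
    have hx1N : x₁ ∈ N := mul_mem (mul_mem (inv_mem hn) hxN) hn
    have hx1H : x₁ ∈ H := by
      refine fix_base.mp ?_
      show x₁ • base H = base H
      rw [show x₁ = n⁻¹ * x * n from rfl, mul_smul, mul_smul, hnp, hxp]
      exact inv_smul_eq_iff.mpr hnp.symm
    have hx12 : x₁ * x₁ = t := by
      rw [show x₁ * x₁ = n⁻¹ * (x * x) * n by simp only [x₁]; group, hx2, mul_assoc, ← (h.central n).eq,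
        inv_mul_cancel_left]
    obtain ⟨m', hm'N, hm'H, hm'C⟩ := T.inner h hr hr1 hrt hx1N hx1H hx12 fun q hq hxq => by
      have hq' := (T.fixSet_N h hr hr1 hrt hn).mp hq
      have h1 : x • n • q = n • q := by
        rw [show x₁ = n⁻¹ * x * n from rfl, mul_smul, mul_smul] at hxq
        exact inv_smul_eq_iff.mp hxq
      have h2 : Z₀ • n • q = n • q := by
        rw [hx', mul_smul, inv_smul_eq_iff] at h1
        rw [h1, mem_fixSet.mp hq']
      have h3 := h.eq_of_fix hZ0i hZt h2 hp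
      rw [← hnp] at h3
      exact smul_left_cancel n h3
    refine ⟨n * m'⁻¹, mul_mem hn (inv_mem hm'N), fun c hc hc1 hct => ?_⟩
    have hc2 : m' * x₁ * m'⁻¹ * (m' * x₁ * m'⁻¹) = t := by
      rw [show m' * x₁ * m'⁻¹ * (m' * x₁ * m'⁻¹) = m' * (x₁ * x₁) * m'⁻¹ by group, hx12, (h.central m').eq,
        mul_inv_cancel_right]
    rw [T.fixC_eq h hc hc1 hct hm'C (T.sq_ne h hc2).1 (T.sq_ne h hc2).2, fixSet_conj, mul_inv_rev, inv_inv,
      mul_smul, inv_smul_smul, mem_fixSet, show x₁ = n⁻¹ * x * n from rfl, mul_smul, mul_smul, smul_inv_smul, hxb]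
  · -- otherwise the member inverts and centralises `j`
    exfalso
    push Not at hE
    have hE2k : E ^ 2 ^ k = 1 := by
      show ((w ^ m : ↥M) : X) ^ 2 ^ k = 1
      rw [← SubmonoidClass.coe_pow, ← pow_mul, mul_comm, ← hkm, pow_orderOf_eq_one, Subgroup.coe_one]
    obtain ⟨i, hi, hi2⟩ := exists_last_power h.inv.2 hE2k hE
    set K := E ^ i
    have hfixK : ∀ p : X ⧸ H, E • p = p → K • p = p := fun p hp => by
      have hle : Subgroup.zpowers E ≤ stabilizer _ p := Subgroup.zpowers_le.mpr (mem_stabilizer_iff.mpr hp)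
      exact mem_stabilizer_iff.mp (hle (pow_mem (Subgroup.mem_zpowers _) _))
    have hj0 : j • base H = base H := fix_base.mpr hj.mem
    have hone : ∀ {x : X}, x * x = 1 → x • b = b → x • base H = base H → x = 1 ∨ x = t := fun {x} hx hxb hx0 => by
      by_contra hc
      push Not at hc
      exact hb0 (h.eq_of_fix ⟨hc.1, hx⟩ hc.2 hxb hx0)
    have hK2 : K * K = t := hi2.resolve_left fun e1 =>
      (hone e1 (hfixK b hEb) (hfixK _ hE0)).elim hi.1 hi.2
    have hEj : Commute E j := by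
      show Commute ((w ^ m : ↥M) : X) j
      rw [SubmonoidClass.coe_pow]
      exact hwj.pow_left m
    have hKj : Commute K j := hEj.pow_left i
    have hZK : Z₀ * K * Z₀⁻¹ = K⁻¹ := by
      have h1 : Z₀ * (w : X) * Z₀⁻¹ = (w : X)⁻¹ := congrArg Subtype.val hz0w
      have hEw : E = (w : X) ^ m := SubmonoidClass.coe_pow w m
      rw [show K = E ^ i from rfl, hEw, ← conj_pow, ← conj_pow, h1, inv_pow, inv_pow]
    have hKj2 : K * j * (K * j) = 1 := by rw [hKj.symm.mul_mul_mul_comm, hK2, hj.sq, h.inv.2]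
    have hZcomm : Commute Z₀ K := by
      rcases hone hKj2 (by rw [mul_smul, hjb, hfixK b hEb]) (by rw [mul_smul, hj0, hfixK _ hE0]) with e1 | e1
      · rw [eq_inv_of_mul_eq_one_left e1]; exact hZj.inv_right
      · rw [eq_mul_inv_of_mul_eq e1]; exact (h.central Z₀).mul_right hZj.inv_right
    rw [hZcomm.eq, mul_inv_cancel_right] at hZK
    exact h.inv.1 (by rw [← hK2]; nth_rw 1 [hZK]; exact inv_mul_cancel K)

omit hr hr1 hrt in
/-- An element of square `t` of `H` centralising `R` and normalising `C` inverts no class of `C`, unless it lies in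
`R` or `C`. -/
theorem mem_of_central {j c₁ : X} (hj2 : j * j = t) (hjH : j ∈ H) (hjR : ∀ x ∈ R, Commute j x)
    (hjC : ∀ z ∈ C, j * z * j⁻¹ ∈ C) (hc₁ : c₁ ∈ C) (hc11 : c₁ ≠ 1) (hc1t : c₁ ≠ t)
    (hjc : j * c₁ * j⁻¹ = c₁ ∨ j * c₁ * j⁻¹ = c₁ * t) : j ∈ R ∨ j ∈ C := by
  obtain ⟨g, hg, hgR, hgC⟩ := T.swap
  set k := g * j * g⁻¹ with hk
  have hk2 : k * k = t := by
    rw [hk, show g * j * g⁻¹ * (g * j * g⁻¹) = g * (j * j) * g⁻¹ by group, hj2, (h.central g).eq, mul_inv_cancel_right]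
  have hkH : k ∈ H := mul_mem (mul_mem (h.P_le hg) hjH) (inv_mem (h.P_le hg))
  set r₂ := g * c₁ * g⁻¹ with hr₂
  have hr₂R : r₂ ∈ R := (hgC c₁).mp hc₁
  have htg : g * t * g⁻¹ = t := by rw [(h.central g).eq, mul_inv_cancel_right]
  have hr₂1 : r₂ ≠ 1 := fun e => hc11 (conj_eq_one_iff.mp e)
  have hr₂t : r₂ ≠ t := h.ne_conj hc1t g
  have hkr : k * r₂ * k⁻¹ = r₂ ∨ k * r₂ * k⁻¹ = r₂ * t := by
    have e : k * r₂ * k⁻¹ = g * (j * c₁ * j⁻¹) * g⁻¹ := by rw [hk, hr₂]; group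
    rcases hjc with e' | e'
    · exact Or.inl (by rw [e, e'])
    · exact Or.inr (by rw [e, e', show g * (c₁ * t) * g⁻¹ = g * c₁ * g⁻¹ * (g * t * g⁻¹) by group, htg])
  have hkN : k ∈ Subgroup.normalizer (Subgroup.zpowers r₂ : Set X) :=
    h.mem_normalizer (T.r_sq h hr₂R hr₂1 hr₂t) hkr
  have hkC : ∀ c ∈ C, Commute k c := fun c hc => by
    have hc' : g⁻¹ * c * g ∈ R := (hgR _).mpr (by simpa [mul_assoc] using hc)
    show k * c = c * k
    rw [hk]
    calc g * j * g⁻¹ * c = g * (j * (g⁻¹ * c * g)) * g⁻¹ := by group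
      _ = g * (g⁻¹ * c * g * j) * g⁻¹ := by rw [(hjR _ hc').eq]
      _ = c * (g * j * g⁻¹) := by group
  have hkRn : k ∈ Subgroup.normalizer (R : Set X) := Comp.mem_normalizer_of_maps fun x hx => by
    have hx' : g⁻¹ * x * g ∈ C := (hgC _).mpr (by simpa [mul_assoc] using hx)
    have h2 := (hgC _).mp (hjC _ hx')
    rw [show g * (j * (g⁻¹ * x * g) * j⁻¹) * g⁻¹ = g * j * g⁻¹ * x * (g * j * g⁻¹)⁻¹ by group] at h2
    exact h2
  by_cases hfix : ∀ p ∈ fixSet H r₂, k • p = p → p = base H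
  · obtain ⟨p, hp, hp0⟩ : ∃ p ∈ fixSet H r₂, p ≠ base H := by
      by_contra hall
      push Not at hall
      have h1 : fixSet H r₂ ⊆ {base H} := fun p hp => hall p hp
      have h2 := Set.ncard_le_ncard h1 (Set.toFinite _)
      rw [T.card_fix h hr₂R hr₂1 hr₂t, Set.ncard_singleton] at h2
      omega
    have hk0 : k • base H = base H := fix_base.mpr hkH
    have hkp := (T.fixSet_N h hr₂R hr₂1 hr₂t hkN).mp hp
    obtain ⟨c, hc, hc1, hct, hcp⟩ := T.exists_regular h hr₂R hr₂1 hr₂t hp hp0 hkp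
      (fun e => hp0 (smul_left_cancel k (e.trans hk0.symm))) fun e => hp0 (hfix p hp e)
    obtain ⟨htC, -, hCsq, -⟩ := T.C_facts h
    have hsq : ∀ {z : X}, z * z = t → ∀ q : X ⧸ H, z • z • q = q := fun {z} hz q => by rw [← mul_smul, hz, h.t_fix]
    have hagree := five_eq (T.card_fix h hr₂R hr₂1 hr₂t) (T.base_mem h hr₂R)
      (fun q hq => (T.fixSet_N h hr₂R hr₂1 hr₂t hkN).mp hq) hk0 (fun q _ => hsq hk2 q) hfix (e := c)
      (fun q hq => (fixSet_move h (T.C_mod h hr₂R hc)).mp hq) (fix_base.mpr (T.C_mem_H h hc))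
      (fun q _ => hsq (hCsq c hc hc1 hct) q)
      (fun q hq e => T.eq_base h hr₂R hc (T.r_sq h hr₂R hr₂1 hr₂t) (hCsq c hc hc1 hct) hq e) hp hp0 hcp
    have hcinv : ∀ {q}, q ∈ fixSet H r₂ → (c⁻¹ * k) • q = q := fun {q} hq => by
      rw [mul_smul, ← hagree q hq, inv_smul_smul]
    have hx2 : c⁻¹ * k * (c⁻¹ * k) = 1 := by
      rw [((hkC c hc).inv_right).mul_mul_mul_comm, hk2, ← mul_inv_rev, hCsq c hc hc1 hct, h.inv.inv, h.inv.2]
    have hkC' : k ∈ C := by
      rw [show k = c * (c⁻¹ * k) by rw [mul_inv_cancel_left]]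
      refine mul_mem hc ?_
      by_cases h1 : c⁻¹ * k = 1
      · rw [h1]; exact one_mem C
      by_cases h2 : c⁻¹ * k = t
      · rw [h2]; exact htC
      exact absurd (h.eq_of_fix ⟨h1, hx2⟩ h2 (hcinv hp) (hcinv (T.base_mem h hr₂R))) hp0
    exact Or.inl ((hgR j).mpr hkC')
  · push Not at hfix
    obtain ⟨p, hp, hkp, hp0⟩ := hfix
    have hD := T.trivial_of_commute h hr₂R hr₂1 hr₂t hkH
      (fun c hc => Or.inl (by rw [(hkC c hc).eq, mul_inv_cancel_right])) hp hp0 hkp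
    exact Or.inr ((hgC j).mpr (T.kernel_mem h hr₂R hr₂1 hr₂t hk2 hkN hkH hkRn hD))

/-- In the outer case a member centralises `j`. -/
theorem exists_member_cent {j : X} (hjN : j ∈ N) (hjH : j ∈ H) (hj2 : j * j = t)
    (hmove : ¬ ∀ p ∈ fixSet H r, j • p = p) {p : X ⧸ H} (hp : p ∈ fixSet H r) (hp0 : p ≠ base H) (hjp : j • p = p) :
    ∃ a ∈ H, IsInv a ∧ a ≠ t ∧ Commute a j := by
  haveI : Fact (Nat.Prime 2) := ⟨Nat.prime_two⟩
  obtain ⟨P', hP', hnorm⟩ := T.sylow_normalizes h hr hr1 hrt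
  set j' : ↥N := ⟨j, hjN⟩
  have hU : IsPGroup 2 (Subgroup.zpowers j') := by
    obtain ⟨i, -, hi⟩ := (Nat.dvd_prime_pow Nat.prime_two).mp (orderOf_dvd_of_pow_eq_one (show j' ^ 2 ^ 2 = 1 from
      Subtype.ext (by
        show j ^ 2 ^ 2 = 1
        rw [show (2 : ℕ) ^ 2 = 2 * 2 from rfl, pow_mul, pow_two j, hj2, pow_two, h.inv.2])))
    exact IsPGroup.of_card (n := i) (by rw [Nat.card_zpowers, hi])
  obtain ⟨m, hm, hmP⟩ := Bender.Q.exists_conj_sylow hP' hU
    (Subgroup.zpowers_le.mpr (show j' ∈ H.subgroupOf N from hjH))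
  obtain ⟨hkR, hkC⟩ := hnorm _ (hmP j' (Subgroup.mem_zpowers j'))
  set k : X := (m : X) * j * (m : X)⁻¹ with hk
  change k ∈ Subgroup.normalizer (R : Set X) at hkR
  change k ∈ Subgroup.normalizer (C : Set X) at hkC
  have hmH : (m : X) ∈ H := hm
  have hkH : k ∈ H := mul_mem (mul_mem hmH hjH) (inv_mem hmH)
  suffices hk' : ∃ a ∈ H, IsInv a ∧ a ≠ t ∧ Commute a k by
    obtain ⟨a, haH, ha, hat, hak⟩ := hk'
    refine ⟨(m : X)⁻¹ * a * (m : X), mul_mem (mul_mem (inv_mem hmH) haH) hmH, ?_, fun e => hat ?_, ?_⟩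
    · simpa using ha.conj (m : X)⁻¹
    · rw [show a = (m : X) * ((m : X)⁻¹ * a * (m : X)) * (m : X)⁻¹ by group, e, (h.central _).eq, mul_inv_cancel_right]
    · show (m : X)⁻¹ * a * (m : X) * j = j * ((m : X)⁻¹ * a * (m : X))
      calc (m : X)⁻¹ * a * (m : X) * j = (m : X)⁻¹ * (a * k) * (m : X) := by rw [hk]; group
        _ = (m : X)⁻¹ * (k * a) * (m : X) := by rw [hak.eq]
        _ = j * ((m : X)⁻¹ * a * (m : X)) := by rw [hk]; group
  have hk2 : k * k = t := by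
    rw [hk, show (m : X) * j * (m : X)⁻¹ * ((m : X) * j * (m : X)⁻¹) = m * (j * j) * (m : X)⁻¹ by group, hj2,
      (h.central _).eq, mul_inv_cancel_right]
  set q := (m : X) • p with hq
  have hqD : q ∈ fixSet H r := (T.fixSet_N h hr hr1 hrt m.2).mp hp
  have hm0 : (m : X) • base H = base H := fix_base.mpr hmH
  have hq0 : q ≠ base H := fun e => hp0 (smul_left_cancel (m : X) (e.trans hm0.symm))
  have hkq : k • q = q := by rw [hk, hq, mul_smul, mul_smul, inv_smul_smul, hjp]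
  have hkmove : ¬ ∀ p ∈ fixSet H r, k • p = p := fun hall => hmove fun p hp => by
    have h1 := hall _ ((T.fixSet_N h hr hr1 hrt m.2).mp hp)
    rw [hk, mul_smul, mul_smul, inv_smul_smul] at h1
    exact smul_left_cancel (m : X) h1
  have hkCmem : ∀ z ∈ C, k * z * k⁻¹ ∈ C := fun z hz => (Subgroup.mem_normalizer_iff.mp hkC z).mp hz
  obtain ⟨htC, hC8, hCsq, hCanti⟩ := T.C_facts h
  have hk2' : ∀ w : X, k * (k * w * k⁻¹) * k⁻¹ = w := fun w => by
    rw [show k * (k * w * k⁻¹) * k⁻¹ = (k * k) * w * (k * k)⁻¹ by group, hk2, ← (h.central w).eq, mul_inv_cancel_right]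
  -- a class of `C` fixed by `k`
  obtain ⟨c₁, hc₁, hc11, hc1t, hkc⟩ : ∃ c₁ ∈ C, c₁ ≠ 1 ∧ c₁ ≠ t ∧
      (k * c₁ * k⁻¹ = c₁ ∨ k * c₁ * k⁻¹ = c₁ * t) := by
    obtain ⟨c, hc, hc1, hct, -, -⟩ := T.exists_other h hC8 1
    by_cases hfix : k * c * k⁻¹ = c ∨ k * c * k⁻¹ = c * t
    · exact ⟨c, hc, hc1, hct, hfix⟩
    push Not at hfix
    set d := k * c * k⁻¹ with hd
    have hdC : d ∈ C := hkCmem c hc
    have hd1 : d ≠ 1 := fun e => hc1 (conj_eq_one_iff.mp e)
    have hdt : d ≠ t := h.ne_conj hct k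
    refine ⟨c * d, mul_mem hc hdC, fun e => hfix.2 ?_, fun e => hfix.1 ?_, Or.inr ?_⟩
    · rw [eq_inv_of_mul_eq_one_right e, h.inv_eq_mul (hCsq c hc hc1 hct)]
    · rw [show d = c⁻¹ * t by rw [← e, inv_mul_cancel_left], h.inv_eq_mul (hCsq c hc hc1 hct), mul_assoc, h.inv.2,
        mul_one]
    · have e1 : k * (c * d) * k⁻¹ = d * c := by
        rw [show k * (c * d) * k⁻¹ = k * c * k⁻¹ * (k * d * k⁻¹) by group, ← hd]
        rw [hd, hk2']
      rw [e1, hCanti c hc d hdC hc1 hct hd1 hdt hfix.1 hfix.2, mul_assoc (d * c), h.inv.2, mul_one]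
  have hc1sign : k * c₁ * k⁻¹ = c₁ * t := hkc.resolve_left fun e => hkmove fun p' hp' =>
    T.trivial_of_commute h hr hr1 hrt hkH
      (classes_of_fixed h hCsq hCanti (T.classes' h hC8 htC hCsq) hk2 hkCmem hc₁ hc11 hc1t e) hqD hq0 hkq p' hp'
  have hkr : k * r * k⁻¹ = r ∨ k * r * k⁻¹ = r * t :=
    h.conj_eq (T.r_sq h hr hr1 hrt) (show k ∈ N from (m * j' * m⁻¹ : ↥N).2)
  obtain ⟨x, hx, hx1, hxt, hkx⟩ : ∃ x ∈ R, x ≠ 1 ∧ x ≠ t ∧ k * x * k⁻¹ = x * t := by
    rcases hkr with e | e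
    swap
    · exact ⟨r, hr, hr1, hrt, e⟩
    by_contra hno
    push Not at hno
    have hkRmem : ∀ z ∈ R, k * z * k⁻¹ ∈ R := fun z hz => (Subgroup.mem_normalizer_iff.mp hkR z).mp hz
    have hall := classes_of_fixed h T.sq T.anti (T.classes' h T.card T.t_mem T.sq) hk2 hkRmem hr hr1 hrt e
    have hcent : ∀ z ∈ R, Commute k z := fun z hz => by
      refine mul_inv_eq_iff_eq_mul.mp ?_
      by_cases hz1 : z = 1
      · rw [hz1]; simp
      by_cases hzt : z = t
      · rw [hzt, (h.central k).eq, mul_inv_cancel_right]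
      exact (hall z hz).resolve_right (hno z hz hz1 hzt)
    rcases T.mem_of_central h hk2 hkH hcent hkCmem hc₁ hc11 hc1t hkc with hk' | hk'
    · exact hkmove fun p' hp' => mem_fixSet.mp (T.fixR h hr hr1 hrt hk' hp')
    · exact hq0 (T.eq_base h hr hk' (T.r_sq h hr hr1 hrt) hk2 hqD hkq)
  refine ⟨x * c₁, mul_mem (T.R_mem_H h hx) (T.C_mem_H h hc₁), ?_, ?_, ?_⟩
  · refine ⟨fun e => ?_, by rw [(T.comm c₁ hc₁ x hx).mul_mul_mul_comm, T.sq x hx hx1 hxt, hCsq c₁ hc₁ hc11 hc1t,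
      h.inv.2]⟩
    have hcR : c₁ ∈ R := by rw [eq_inv_of_mul_eq_one_right e]; exact inv_mem hx
    exact (T.inter c₁ hcR hc₁).elim hc11 hc1t
  · intro e
    have hcR : c₁ ∈ R := by rw [show c₁ = x⁻¹ * t by rw [← e, inv_mul_cancel_left]]; exact mul_mem (inv_mem hx) T.t_mem
    exact (T.inter c₁ hcR hc₁).elim hc11 hc1t
  · refine (mul_inv_eq_iff_eq_mul.mp ?_ : Commute k (x * c₁)).symm
    calc k * (x * c₁) * k⁻¹ = (k * x * k⁻¹) * (k * c₁ * k⁻¹) := by group
      _ = x * c₁ * (t * t) := by rw [hkx, hc1sign, ← (h.central c₁).symm.mul_mul_mul_comm]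
      _ = x * c₁ := by rw [h.inv.2, mul_one]

/-- Covering. -/
theorem cover {b : X ⧸ H} (hb : b ∉ fixSet H r) :
    ∃ n ∈ N, ∀ c ∈ C, c ≠ 1 → c ≠ t → n⁻¹ • b ∈ fixSet H c := by
  classical
  obtain ⟨v, hv, hvt, hvb⟩ : ∃ v, IsInv v ∧ v ≠ t ∧ v • b = b := by
    obtain ⟨y, hy⟩ := h.exists_y
    induction b using QuotientGroup.induction_on with
    | _ g =>
      exact ⟨g * y * g⁻¹, hy.inv.conj g, h.ne_conj hy.ne g,
        fix_iff.mpr (by simpa [mul_assoc] using h.P_le hy.mem)⟩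
  have hr2 := T.r_sq h hr hr1 hrt
  set w := v * r with hw
  have hrv : r * v = w⁻¹ * t := by
    rw [hw, mul_inv_rev, hv.inv, h.inv_eq_mul hr2, mul_assoc r t, ← (h.central v).eq, ← mul_assoc r, mul_assoc (r * v),
      h.inv.2, mul_one]
  have hvw : v * w * v⁻¹ = w⁻¹ * t := by rw [← hrv, hw, hv.inv, ← mul_assoc v v, hv.2, one_mul]
  have hrw : r * w * r⁻¹ = w⁻¹ * t := by rw [← hrv, hw, ← mul_assoc, mul_inv_cancel_right]
  obtain ⟨k, m, hm, hkm⟩ := Nat.exists_eq_two_pow_mul_odd (orderOf_pos w).ne'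
  set w₂ := w ^ m with hw₂
  have hw2k : w₂ ^ 2 ^ k = 1 := by rw [hw₂, ← pow_mul, mul_comm, ← hkm, pow_orderOf_eq_one]
  have hw2 : w₂ ≠ 1 ∧ w₂ ≠ t := by
    obtain ⟨l, rfl⟩ := hm
    refine not_or.mp fun hcase => ?_
    set q := w ^ l
    have hqv : q * v * q⁻¹ = w ^ (2 * l) * v * t ^ l := by
      have h1 : v * q⁻¹ * v⁻¹ = (w ^ l) * t ^ l := by
        rw [show v * q⁻¹ * v⁻¹ = (v * q * v⁻¹)⁻¹ by group, show q = w ^ l from rfl, ← conj_pow, hvw,
          ((h.central w⁻¹)).mul_pow, mul_inv_rev, inv_pow, inv_inv, ← inv_pow, h.inv.inv,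
          ((h.central w).pow_pow l l).eq]
      have h2 : v * q⁻¹ = w ^ l * t ^ l * v := mul_inv_eq_iff_eq_mul.mp h1
      rw [mul_assoc, h2, show q = w ^ l from rfl, two_mul, pow_add, mul_assoc (w ^ l) (t ^ l),
        ← ((h.central v).pow_right l).eq]
      simp only [mul_assoc]
    have hinv := (hv.conj q).2
    rw [hqv] at hinv
    set w' := w ^ (2 * l) * v
    have hw' : w' = w₂ * r⁻¹ := by
      rw [hw₂, pow_succ, show w' = w ^ (2 * l) * v from rfl, mul_assoc (w ^ (2 * l)), hw, mul_inv_cancel_right]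
    have hc : Commute w₂ r⁻¹ := by
      rcases hcase with e | e <;> rw [e]
      · exact Commute.one_left _
      · exact (h.central r⁻¹).symm
    have hw22 : w₂ * w₂ = 1 := by
      rcases hcase with e | e <;> rw [e]
      · exact one_mul 1
      · exact h.inv.2
    have htl : (t ^ l) * (t ^ l) = 1 := by rw [← pow_add, ← two_mul, pow_mul, pow_two, h.inv.2, one_pow]
    rw [((h.central w').pow_right l).symm.mul_mul_mul_comm, htl, mul_one, hw', hc.symm.mul_mul_mul_comm, hw22,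
      one_mul, ← mul_inv_rev, hr2, h.inv.inv] at hinv
    exact h.inv.1 hinv
  obtain ⟨i, hi, hi2⟩ := exists_last_power h.inv.2 hw2k hw2
  set j := w₂ ^ i with hj
  have hjw : j = w ^ (m * i) := by rw [hj, hw₂, pow_mul]
  have hjmod : ∀ {x : X}, x * w * x⁻¹ = w⁻¹ * t → x * j * x⁻¹ = j ∨ x * j * x⁻¹ = j * t := fun {x} hx => by
    have e : x * j * x⁻¹ = j⁻¹ * t ^ (m * i) := by
      rw [hjw, ← conj_pow, hx, (h.central w⁻¹).mul_pow, inv_pow]
    have e1 : j⁻¹ = j ∨ j⁻¹ = j * t := by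
      rcases hi2 with e' | e'
      · exact Or.inl (inv_eq_of_mul_eq_one_right e')
      · exact Or.inr (h.inv_eq_mul e')
    rcases Nat.even_or_odd (m * i) with ⟨a, ha⟩ | ⟨a, ha⟩
    · rw [ha, ← two_mul, pow_mul, pow_two, h.inv.2, one_pow, mul_one] at e
      rcases e1 with e' | e'
      · exact Or.inl (e.trans e')
      · exact Or.inr (e.trans e')
    · rw [ha, pow_succ, pow_mul, pow_two, h.inv.2, one_pow, one_mul] at e
      rcases e1 with e' | e'
      · exact Or.inr (by rw [e, e'])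
      · exact Or.inl (by rw [e, e', mul_assoc, h.inv.2, mul_one])
  have hvj := hjmod hvw
  have hrj := hjmod hrw
  have hjb : j • b = b :=
    h.eq_of_fix hv hvt (mem_fixSet.mp ((fixSet_move h (mod_symm h hvj)).mp (mem_fixSet.mpr hvb))) hvb
  rcases hi2 with hj2 | hj2
  · -- a member fixing `b` would put `b` on the line
    refine absurd ?_ hb
    have h1 : r • b ∈ fixSet H j := (fixSet_move h hrj).mp hjb
    exact h.eq_of_fix ⟨hi.1, hj2⟩ hi.2 h1 hjb
  have hjN : j ∈ N := h.mem_normalizer hr2 (mod_symm h hrj)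
  -- a point of the line fixed by `j`
  obtain ⟨d, hd, hjd⟩ : ∃ d ∈ fixSet H r, j • d = d := by
    haveI : Fintype (fixSet H r) := Fintype.ofFinite _
    haveI : Fact (Nat.Prime 2) := ⟨Nat.prime_two⟩
    let σ : Equiv.Perm (fixSet H r) :=
      { toFun := fun p => ⟨j • p.1, (T.fixSet_N h hr hr1 hrt hjN).mp p.2⟩
        invFun := fun p => ⟨j • p.1, (T.fixSet_N h hr hr1 hrt hjN).mp p.2⟩
        left_inv := fun p => Subtype.ext (show j • j • (p : X ⧸ H) = p by rw [← mul_smul, hj2, h.t_fix])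
        right_inv := fun p => Subtype.ext (show j • j • (p : X ⧸ H) = p by rw [← mul_smul, hj2, h.t_fix]) }
    have hσ : σ ^ 2 ^ 1 = 1 := Equiv.ext fun p => by
      rw [pow_one, pow_two, Equiv.Perm.mul_apply, Equiv.Perm.one_apply]
      exact Subtype.ext (show j • j • (p : X ⧸ H) = p by rw [← mul_smul, hj2, h.t_fix])
    obtain ⟨p, hp⟩ := Equiv.Perm.exists_fixed_point_of_prime (p := 2) (by
      rw [← Nat.card_eq_fintype_card, Nat.card_coe_set_eq, T.card_fix h hr hr1 hrt]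
      decide) hσ
    exact ⟨p, p.2, congrArg Subtype.val hp⟩
  obtain ⟨n, hn, rfl⟩ := T.orbit h hr hr1 hrt hd
  set j₁ := n⁻¹ * j * n with hj₁
  set b₁ := n⁻¹ • b with hb₁
  have hb1 : b₁ ∉ fixSet H r := fun hmem => hb (by
    have h1 := (T.fixSet_N h hr hr1 hrt hn).mp hmem
    rwa [hb₁, smul_inv_smul] at h1)
  have hj1N : j₁ ∈ N := mul_mem (mul_mem (inv_mem hn) hjN) hn
  have hj1H : j₁ ∈ H := fix_base.mp (by
    show j₁ • base H = base H
    rw [hj₁, mul_smul, mul_smul, hjd, inv_smul_smul])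
  have hj12 : j₁ * j₁ = t := by
    rw [hj₁, show n⁻¹ * j * n * (n⁻¹ * j * n) = n⁻¹ * (j * j) * n by group, hj2, mul_assoc, ← (h.central n).eq,
      inv_mul_cancel_left]
  have hj1b : j₁ • b₁ = b₁ := by rw [hj₁, hb₁, mul_smul, mul_smul, smul_inv_smul, hjb]
  suffices hgoal : ∃ n' ∈ N, ∀ c ∈ C, c ≠ 1 → c ≠ t → n'⁻¹ • b₁ ∈ fixSet H c by
    obtain ⟨n', hn', hc⟩ := hgoal
    exact ⟨n * n', mul_mem hn hn', fun c hcC h1 h2 => by rw [mul_inv_rev, mul_smul]; exact hc c hcC h1 h2⟩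
  by_cases hA : ∀ p ∈ fixSet H r, j₁ • p = p
  · refine absurd ?_ hb1
    rw [← T.fix_kernel h hr hr1 hrt hj1N hj1H hj12 hA]
    exact hj1b
  by_cases hB : ∀ p ∈ fixSet H r, j₁ • p = p → p = base H
  · obtain ⟨m', hm'N, -, hm'C⟩ := T.inner h hr hr1 hrt hj1N hj1H hj12 hB
    refine ⟨m'⁻¹, inv_mem hm'N, fun c hc hc1 hct => ?_⟩
    have hc2 : m' * j₁ * m'⁻¹ * (m' * j₁ * m'⁻¹) = t := by
      rw [show m' * j₁ * m'⁻¹ * (m' * j₁ * m'⁻¹) = m' * (j₁ * j₁) * m'⁻¹ by group, hj12, (h.central m').eq,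
        mul_inv_cancel_right]
    rw [T.fixC_eq h hc hc1 hct hm'C (T.sq_ne h hc2).1 (T.sq_ne h hc2).2, inv_inv, fixSet_conj, inv_smul_smul]
    exact hj1b
  push Not at hB
  obtain ⟨p, hp, hjp, hp0⟩ := hB
  obtain ⟨a, haH, ha, hat, haj⟩ := T.exists_member_cent h hr hr1 hrt hj1N hj1H hj12 hA hp hp0 hjp
  have hb10 : b₁ ≠ base H := fun e => hb1 (e ▸ T.base_mem h hr)
  obtain ⟨g, hg⟩ := QuotientGroup.mk_surjective b₁
  refine T.cover_cent h hr hr1 hrt ⟨hj1H, hj12, ⟨g, fun hgH => hb10 ?_, ?_⟩, a, haH, ha, hat, haj⟩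
    (h.conj_eq hr2 hj1N) hj1b hb1
  · rw [← hg]; exact (QuotientGroup.eq.mpr (by simpa using hgH)).symm
  · rw [← hg] at hj1b; exact fix_iff.mp hj1b

end Twin

end CfsgLib.CoreKill.Local
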