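import Cfsg.Agent.Lib.CoreKill.Fail.Twin.Seat

/-!
The quaternion outcome at a seat read in `X`, and the transport of seats by `H`.

Blueprint: `blueprint/bender/CoreKill.md`, 4 (B).
-/

set_option autoImplicit false
set_option linter.unusedSectionVars false
set_option linter.style.haveILetI false

universe u

namespace CfsgLib.CoreKill.Local

open Cfsg MulAction
open scoped Pointwise
open CfsgLib.Bender.TwoClosed (IsInv)
open CfsgLib.Bender.Assembly (fix_iff)

variable {X : Type u} [Group X] [Finite X] {H : Subgroup X} {P : Sylow 2 X} {t s : X}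

/-- An element outside four given elements of a subgroup of order above four. -/
theorem exists_outside {C : Subgroup X} (hC : 4 < Nat.card C) (a b c d : X) :
    ∃ x ∈ C, x ≠ a ∧ x ≠ b ∧ x ≠ c ∧ x ≠ d := by
  by_contra hno
  push Not at hno
  have hsub : (C : Set X) ⊆ {a, b, c, d} := fun x hx => by
    by_contra hx'
    simp only [Set.mem_insert_iff, Set.mem_singleton_iff, not_or] at hx'
    exact hx'.2.2.2 (hno x hx hx'.1 hx'.2.1 hx'.2.2.1)
  have h2 := Set.ncard_le_ncard hsub (Set.toFinite _)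
  rw [← Nat.card_coe_set_eq] at h2
  have h3 : Set.ncard ({a, b, c, d} : Set X) ≤ 4 := by
    refine (Set.ncard_insert_le _ _).trans (Nat.succ_le_succ ((Set.ncard_insert_le _ _).trans
      (Nat.succ_le_succ ((Set.ncard_insert_le _ _).trans (Nat.succ_le_succ ?_)))))
    rw [Set.ncard_singleton]
  have h4 : Nat.card C = Nat.card (C : Set X) := rfl
  omega

/-- The data of the quaternion outcome at a seat. -/
structure SeatData (H : Subgroup X) (P : Sylow 2 X) (t s : X) (C : Subgroup X) : Prop where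
  C_le : C ≤ seatT P s
  t_mem : t ∈ C
  kernel : ∀ x ∈ seatR H P s, x * x = 1 → x = 1 ∨ x = t
  partner : ∀ r ∈ seatR H P s, r * r = t → ∃ r' ∈ seatR H P s, r' * r' = t ∧ r * r' = r' * r * t
  C_comm : ∀ c ∈ C, ∀ r ∈ seatR H P s, Commute c r
  C_inf : ∀ c ∈ C, c ∈ seatR H P s → c = 1 ∨ c = t
  C_card : Nat.card C = 8
  C_sq : ∀ c ∈ C, c ≠ 1 → c ≠ t → c * c = t
  C_anti : ∀ c ∈ C, ∀ d ∈ C, c ≠ 1 → c ≠ t → d ≠ 1 → d ≠ t → d ≠ c → d ≠ c * t → c * d = d * c * t
  member : ∀ v ∈ seatT P s, IsInv v → v ≠ t →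
    ∃ r ∈ seatR H P s, ∃ c ∈ C, v = r * c ∧ r * r = t ∧ c * c = t
  trans : ∀ c ∈ C, ∀ d ∈ C, c ≠ 1 → c ≠ t → d ≠ 1 → d ≠ t →
    ∃ k ∈ H, (∀ r ∈ seatR H P s, Commute k r) ∧ (∀ x ∈ C, k * x * k⁻¹ ∈ C) ∧
      (k * c * k⁻¹ = d ∨ k * c * k⁻¹ = d * t)
  self : ∀ x ∈ seatT P s, (∀ c ∈ C, x * c * x⁻¹ = c ∨ x * c * x⁻¹ = c * t) →
    ∃ c ∈ C, c⁻¹ * x ∈ seatR H P s
  mem_C : ∀ x ∈ seatT P s, x * x = t → x ∉ seatR H P s →
    ∀ r ∈ seatR H P s, r * r = t → Commute x r → x ∈ C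

namespace Seat

variable (h : Pt H P t) (hS : Seat H P t s)
include h hS

theorem seatData : ∃ C, SeatData H P t s C := by
  obtain ⟨C, hC, P', hP', hP'H, hQ⟩ := hS.exists_data h
  have hpt := hS.world.pt h hP'H
  have hN : ∀ {x : X}, x ∈ seatR H P s → x ∈ Subgroup.normalizer (Subgroup.zpowers s : Set X) := fun hx =>
    (Subgroup.mem_inf.mp (Subgroup.mem_inf.mp hx).1).2
  have hCN : ∀ {x : X}, x ∈ C → x ∈ Subgroup.normalizer (Subgroup.zpowers s : Set X) := fun hx => (hC hx).2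
  have hT : ∀ x : ↥(Subgroup.normalizer (Subgroup.zpowers s : Set X)), x ∈ (P' : Subgroup _) ↔
      (x : X) ∈ seatT P s := fun x => by rw [hP']; rfl
  have htC : t ∈ C := by
    obtain ⟨c, hc, hc1, hct, -, -⟩ := exists_outside (C := C.subgroupOf _)
      (show 4 < Nat.card ↥(C.subgroupOf (Subgroup.normalizer (Subgroup.zpowers s : Set X))) by
        rw [hQ.C_card]; norm_num) 1 (World.tN h s) 1 1
    have h1 : c * c ∈ C.subgroupOf (Subgroup.normalizer (Subgroup.zpowers s : Set X)) := mul_mem hc hc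
    rw [hQ.C_sq c hc hc1 hct] at h1
    exact h1
  refine ⟨C, hC, htC, fun x hx hx2 => ?_, fun r hr hr2 => ?_, fun c hc r hr => ?_, fun c hc hcR => ?_, ?_,
    fun c hc hc1 hct => ?_, fun c hc d hd hc1 hct hd1 hdt hdc hdct => ?_, fun v hv hvi hvt => ?_,
    fun c hc d hd hc1 hct hd1 hdt => ?_, fun x hx hxc => ?_, fun x hx hx2 hxR r hr hr2 hxr => ?_⟩
  · by_cases hx1 : x = 1
    · exact Or.inl hx1
    · have hx' : (⟨x, hN hx⟩ : ↥(Subgroup.normalizer (Subgroup.zpowers s : Set X))) ∈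
          (seatR H P s).subgroupOf _ := hx
      rw [hQ.R_eq] at hx'
      exact Or.inr (congrArg Subtype.val (hpt.kernel_inv (v := ⟨x, hN hx⟩)
        ⟨fun e => hx1 (congrArg Subtype.val e), Subtype.ext hx2⟩ hx'.2) :)
  · obtain ⟨r', hr', h2, h3⟩ := hQ.partner ⟨r, hN hr⟩ hr (Subtype.ext hr2)
    exact ⟨r', hr', congrArg Subtype.val h2, congrArg Subtype.val h3⟩
  · exact congrArg Subtype.val (hQ.C_comm ⟨c, hCN hc⟩ hc ⟨r, hN hr⟩ hr).eq
  · rcases hQ.C_inf ⟨c, hCN hc⟩ hc hcR with e | e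
    · exact Or.inl (congrArg Subtype.val e)
    · exact Or.inr (congrArg Subtype.val e)
  · rw [← Nat.card_congr (Subgroup.subgroupOfEquivOfLe (hC.trans inf_le_right)).toEquiv]
    exact hQ.C_card
  · exact congrArg Subtype.val (hQ.C_sq ⟨c, hCN hc⟩ hc (fun e => hc1 (congrArg Subtype.val e))
      fun e => hct (congrArg Subtype.val e))
  · exact congrArg Subtype.val (hQ.C_anti ⟨c, hCN hc⟩ hc ⟨d, hCN hd⟩ hd (fun e => hc1 (congrArg Subtype.val e))
      (fun e => hct (congrArg Subtype.val e)) (fun e => hd1 (congrArg Subtype.val e))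
      (fun e => hdt (congrArg Subtype.val e)) (fun e => hdc (congrArg Subtype.val e))
      fun e => hdct (congrArg Subtype.val e))
  · obtain ⟨r, hr, c, hc, e, h2, h3⟩ := hQ.member ⟨v, hv.2⟩ ((hT _).mpr hv)
      ⟨fun e => hvi.1 (congrArg Subtype.val e), Subtype.ext hvi.2⟩ fun e => hvt (congrArg Subtype.val e)
    exact ⟨r, hr, c, hc, congrArg Subtype.val e, congrArg Subtype.val h2, congrArg Subtype.val h3⟩
  · obtain ⟨k, hk, hkR, hkC, e⟩ := hQ.trans ⟨c, hCN hc⟩ hc ⟨d, hCN hd⟩ hd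
      (fun e => hc1 (congrArg Subtype.val e)) (fun e => hct (congrArg Subtype.val e))
      (fun e => hd1 (congrArg Subtype.val e)) fun e => hdt (congrArg Subtype.val e)
    refine ⟨k, hk, fun r hr => congrArg Subtype.val (hkR ⟨r, hN hr⟩ hr).eq,
      fun x hx => hkC ⟨x, hCN hx⟩ hx, ?_⟩
    exact e.imp (congrArg Subtype.val) (congrArg Subtype.val)
  · set x' : ↥(Subgroup.normalizer (Subgroup.zpowers s : Set X)) := ⟨x, hx.2⟩
    obtain ⟨c, hc, hfix⟩ := hQ.self x' (hP'H ((hT x').mpr hx)) fun c hc p => by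
      rcases hxc c hc with e | e
      · rw [show x' * c = c * x' from Subtype.ext (mul_inv_eq_iff_eq_mul.mp e)]
      · have e' : x' * c = c * x' * World.tN h s := Subtype.ext (by
          show x * (c : X) = (c : X) * x * t
          rw [mul_inv_eq_iff_eq_mul.mp e, mul_assoc, ← (h.central x).eq, ← mul_assoc])
        rw [e', mul_smul, hpt.t_fix]
    refine ⟨c, hc, Subgroup.mem_inf.mpr ⟨mul_mem (inv_mem (hC hc)) hx, ?_⟩⟩
    have hker : c⁻¹ * x' ∈ (H.subgroupOf (Subgroup.normalizer (Subgroup.zpowers s : Set X))).normalCore :=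
      img_mem_core.mp (Bender.Q.permImg_eq_one.mpr fun p => by rw [mul_smul, hfix p, inv_smul_smul])
    exact (hS.world.fixer_iff h).mp hker
  · exact hQ.mem_C hpt htC (x := ⟨x, hx.2⟩) (r := ⟨r, hN hr⟩) ((hT _).mpr hx) (Subtype.ext hx2) hxR hr
      (Subtype.ext hr2) (Subtype.ext hxr.eq)

omit hS

/-- The Sylow subgroup conjugated by `k ∈ H` gives the same setting. -/
theorem pt_conj {k : X} (hk : k ∈ H) : Pt H (k • P) t := by
  obtain ⟨B, hB, hBe, hB8⟩ := h.eight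
  refine ⟨⟨h.ne_top, fun x hx => ?_, h.inv, h.central, h.fix⟩, ?_⟩
  · obtain ⟨y, hy, rfl⟩ := hx
    exact mul_mem (mul_mem hk (h.P_le hy)) (inv_mem hk)
  · refine ⟨B.map (MulAut.conj k).toMonoidHom, ?_, SolvSF.ea_of_comm ?_ ?_, ?_⟩
    · rintro _ ⟨b, hb, rfl⟩
      exact ⟨b, hB hb, rfl⟩
    · rintro _ ⟨a, ha, rfl⟩ _ ⟨b, hb, rfl⟩
      rw [← map_mul, ← map_mul, CfsgLib.Signalizer.ea_comm hBe ha hb]
    · rintro _ ⟨a, ha, rfl⟩
      rw [← map_pow, hBe.2 a ha, map_one]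
    · have e : Nat.card (B.map (MulAut.conj k).toMonoidHom) = Nat.card B :=
        Subgroup.card_map_of_injective (MulAut.conj k).injective
      rw [e]; exact hB8

theorem normalizer_conj {k x : X} (hW : World H t s) (hk : k ∈ H) :
    x ∈ Subgroup.normalizer (Subgroup.zpowers (k * s * k⁻¹) : Set X) ↔
      k⁻¹ * x * k ∈ Subgroup.normalizer (Subgroup.zpowers s : Set X) := by
  have hsq := (hW.conj h hk).sq
  constructor
  · intro hx
    refine h.mem_normalizer hW.sq ?_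
    have e0 : k⁻¹ * x * k * s * (k⁻¹ * x * k)⁻¹ = k⁻¹ * (x * (k * s * k⁻¹) * x⁻¹) * k := by group
    rcases h.conj_eq hsq hx with e | e <;> rw [e0, e]
    · exact Or.inl (by group)
    · refine Or.inr ?_
      rw [show k⁻¹ * (k * s * k⁻¹ * t) * k = s * (k⁻¹ * (t * k)) by group, ← (h.central k).eq, inv_mul_cancel_left]
  · intro hx
    refine h.mem_normalizer hsq ?_
    have e0 : x * (k * s * k⁻¹) * x⁻¹ = k * (k⁻¹ * x * k * s * (k⁻¹ * x * k)⁻¹) * k⁻¹ := by group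
    rcases h.conj_eq hW.sq hx with e | e <;> rw [e0, e]
    · exact Or.inl rfl
    · refine Or.inr ?_
      rw [show k * (s * t) * k⁻¹ = k * s * k⁻¹ * (k * t * k⁻¹) by group, (h.central k).eq, mul_inv_cancel_right]

theorem mem_fixer_conj {k x : X} : x ∈ fixer H (k * s * k⁻¹) ↔ k⁻¹ * x * k ∈ fixer H s := by
  rw [mem_fixer, mem_fixer]
  constructor
  · intro hx c hc
    have h1 := hx (k • c) ((fixPts_conj k s c).mpr hc)
    rw [mul_smul, mul_smul, h1, inv_smul_smul]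
  · intro hx c hc
    have h1 := hx (k⁻¹ • c) ((fixPts_conj k s _).mp (by rwa [smul_inv_smul]))
    rw [mul_smul, mul_smul, smul_inv_smul, smul_left_cancel_iff] at h1
    exact h1

theorem mem_seatT_conj {k x : X} (hW : World H t s) (hk : k ∈ H) :
    x ∈ seatT (k • P) (k * s * k⁻¹) ↔ k⁻¹ * x * k ∈ seatT P s := by
  rw [Subgroup.mem_inf, Subgroup.mem_inf, normalizer_conj h hW hk]
  refine and_congr ⟨?_, fun hx => ⟨k⁻¹ * x * k, hx, ?_⟩⟩ Iff.rfl
  · rintro ⟨y, hy, rfl⟩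
    show k⁻¹ * (k * y * k⁻¹) * k ∈ (P : Subgroup X)
    rw [show k⁻¹ * (k * y * k⁻¹) * k = y by group]
    exact hy
  · show k * (k⁻¹ * x * k) * k⁻¹ = x
    group

theorem mem_seatR_conj {k x : X} (hW : World H t s) (hk : k ∈ H) :
    x ∈ seatR H (k • P) (k * s * k⁻¹) ↔ k⁻¹ * x * k ∈ seatR H P s :=
  Subgroup.mem_inf.trans ((and_congr (mem_seatT_conj h hW hk) (mem_fixer_conj h)).trans Subgroup.mem_inf.symm)

include hS

/-- Seats move with `H`. -/
theorem conj {k : X} (hk : k ∈ H) : Seat H (k • P) t (k * s * k⁻¹) := by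
  refine ⟨hS.world.conj h hk, fun r hr he U hU hUN => ?_⟩
  have e1 : Nat.card (U.map (MulAut.conj k⁻¹).toMonoidHom) = Nat.card U :=
    Subgroup.card_map_of_injective (MulAut.conj k⁻¹).injective
  have h1 := hS.max (k⁻¹ * r * k⁻¹⁻¹) (hr.conj h (inv_mem hk)) (by
    rw [fixPts_conj_image, he, fixPts_conj_image, ← Set.image_comp]
    simp) (U.map (MulAut.conj k⁻¹).toMonoidHom) (hU.map _) (by
    rintro _ ⟨x, hx, rfl⟩
    refine Subgroup.mem_inf.mpr ⟨mul_mem (mul_mem (inv_mem hk) (hUN hx).1) (inv_mem (inv_mem hk)), ?_⟩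
    rw [normalizer_conj h hr (inv_mem hk)]
    show k⁻¹⁻¹ * (k⁻¹ * x * k⁻¹⁻¹) * k⁻¹ ∈ _
    rw [show k⁻¹⁻¹ * (k⁻¹ * x * k⁻¹⁻¹) * k⁻¹ = x by group]
    exact (hUN hx).2)
  rw [e1] at h1
  refine h1.trans ?_
  have e2 : Nat.card ((seatT P s).map (MulAut.conj k).toMonoidHom) = Nat.card (seatT P s) :=
    Subgroup.card_map_of_injective (MulAut.conj k).injective
  rw [← e2]
  refine Subgroup.card_le_of_le ?_
  rintro _ ⟨x, hx, rfl⟩
  refine (mem_seatT_conj h hS.world hk).mpr ?_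
  show k⁻¹ * (k * x * k⁻¹) * k ∈ seatT P s
  rw [show k⁻¹ * (k * x * k⁻¹) * k = x by group]
  exact hx

theorem conj_self {g : X} (hg : g ∈ (P : Subgroup X)) : Seat H P t (g * s * g⁻¹) := by
  have h1 := hS.conj h (h.P_le hg)
  rwa [show g • P = P from Sylow.smul_eq_iff_mem_normalizer.mpr (Subgroup.le_normalizer hg)] at h1

end Seat

end CfsgLib.CoreKill.Local
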