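import Cfsg.Agent.Lib.CoreKill.Fail.World

/-!
Case (B): two commuting quaternion groups of worlds exchanged by the Sylow subgroup.

Blueprint: `blueprint/bender/CoreKill.md`, 4 (B).
-/

set_option autoImplicit false

universe u

namespace CfsgLib.CoreKill.Local

open Cfsg
open CfsgLib.Bender.TwoClosed (IsInv)

variable {X : Type u} [Group X] [Finite X]

/-- Two quaternion groups of order eight of worlds of `P`, centralising each other and exchanged in `P`. -/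
structure Twin (H : Subgroup X) (P : Sylow 2 X) (t : X) (R C : Subgroup X) : Prop where
  R_le : R ≤ (P : Subgroup X)
  C_le : C ≤ (P : Subgroup X)
  comm : ∀ c ∈ C, ∀ r ∈ R, Commute c r
  inter : ∀ x ∈ R, x ∈ C → x = 1 ∨ x = t
  t_mem : t ∈ R
  card : Nat.card R = 8
  sq : ∀ r ∈ R, r ≠ 1 → r ≠ t → r * r = t
  anti : ∀ r ∈ R, ∀ r' ∈ R, r ≠ 1 → r ≠ t → r' ≠ 1 → r' ≠ t → r' ≠ r → r' ≠ r * t → r * r' = r' * r * t
  /-- `P` exchanges the two groups. -/
  swap : ∃ g ∈ (P : Subgroup X), (∀ x, x ∈ R ↔ g * x * g⁻¹ ∈ C) ∧ ∀ x, x ∈ C ↔ g * x * g⁻¹ ∈ R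
  /-- Every element of square `t` of `R` is a world with `R` and `C` its quaternion outcome. -/
  quat : ∀ (h : Pt H P t), ∀ r ∈ R, r ≠ 1 → r ≠ t → World H t r ∧
    R ⊔ C ≤ Subgroup.normalizer (Subgroup.zpowers r : Set X) ∧
    ∃ P' : Sylow 2 ↥(Subgroup.normalizer (Subgroup.zpowers r : Set X)),
      (P' : Subgroup _) ≤ H.subgroupOf (Subgroup.normalizer (Subgroup.zpowers r : Set X)) ∧
      Quat (H.subgroupOf (Subgroup.normalizer (Subgroup.zpowers r : Set X))) P' (World.tN h r)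
        (R.subgroupOf (Subgroup.normalizer (Subgroup.zpowers r : Set X)))
        (C.subgroupOf (Subgroup.normalizer (Subgroup.zpowers r : Set X)))
  /-- The centralizer of `C` in `H` permutes `R` transitively modulo `t`. -/
  trans : ∀ r ∈ R, ∀ r' ∈ R, r ≠ 1 → r ≠ t → r' ≠ 1 → r' ≠ t →
    ∃ h ∈ H, (∀ c ∈ C, Commute h c) ∧ (∀ x ∈ R, h * x * h⁻¹ ∈ R) ∧ (h * r * h⁻¹ = r' ∨ h * r * h⁻¹ = r' * t)
  /-- The elements of square `t` of `R` fix the same points. -/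
  fix : ∀ r ∈ R, r ≠ 1 → r ≠ t → ∀ g : X, g⁻¹ * r * g ∈ H → ∀ r' ∈ R, g⁻¹ * r' * g ∈ H
  /-- Some point fixed by `R` is moved by `C`. -/
  apart : ∃ g : X, (∀ r ∈ R, g⁻¹ * r * g ∈ H) ∧ ∃ c ∈ C, g⁻¹ * c * g ∉ H
  /-- Every world is conjugate in `H` to one in `R`. -/
  worlds : ∀ s : X, World H t s → ∃ x ∈ H, x * s * x⁻¹ ∈ R
  /-- The members of `P` normalising `R` lie in `R C`. -/
  member : ∀ v ∈ (P : Subgroup X), IsInv v → v ≠ t → v ∈ Subgroup.normalizer (R : Set X) →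
    ∃ r ∈ R, ∃ c ∈ C, v = r * c ∧ r * r = t ∧ c * c = t

end CfsgLib.CoreKill.Local
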