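import Cfsg.Agent.Lib.CoreKill.Fail.Twin.Defs

/-!
A seat: a world placed in `P` whose 2-part is as large as that of any world with the same fixed points. The subgroup
`R` of `P` fixing these points pointwise, with its quaternion partner `C`.

Blueprint: `blueprint/bender/CoreKill.md`, 4 (B).
-/

set_option autoImplicit false
set_option linter.unusedSectionVars false
set_option linter.style.haveILetI false

universe u

namespace CfsgLib.CoreKill.Local

open Cfsg MulAction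
open CfsgLib.Bender.TwoClosed (IsInv)
open CfsgLib.Bender.Assembly (fix_iff)

variable {X : Type u} [Group X] [Finite X] {H : Subgroup X} {P : Sylow 2 X} {t s : X}

/-- The points fixed by `x`. -/
abbrev fixPts (H : Subgroup X) (x : X) : Set (X ⧸ H) := {c | x • c = c}

/-- The part of `P` normalising `<s>`. -/
abbrev seatT (P : Sylow 2 X) (s : X) : Subgroup X :=
  (P : Subgroup X) ⊓ Subgroup.normalizer (Subgroup.zpowers s : Set X)

/-- The elements fixing every point that `s` fixes. -/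
def fixer (H : Subgroup X) (s : X) : Subgroup X :=
  ⨅ c ∈ fixPts H s, stabilizer X c

theorem mem_fixer {x : X} : x ∈ fixer H s ↔ ∀ c ∈ fixPts H s, x • c = c := by
  simp only [fixer, Subgroup.mem_iInf, mem_stabilizer_iff]

/-- The part of `P` normalising `<s>` and fixing every point that `s` fixes. -/
abbrev seatR (H : Subgroup X) (P : Sylow 2 X) (s : X) : Subgroup X := seatT P s ⊓ fixer H s

theorem fixPts_conj (k x : X) (c : X ⧸ H) : k • c ∈ fixPts H (k * x * k⁻¹) ↔ c ∈ fixPts H x := by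
  show (k * x * k⁻¹) • k • c = k • c ↔ x • c = c
  rw [← mul_smul, inv_mul_cancel_right, mul_smul]
  exact smul_left_cancel_iff k

theorem fixPts_conj_image (k x : X) : fixPts H (k * x * k⁻¹) = (k • ·) '' fixPts H x := by
  ext c
  refine ⟨fun hc => ⟨k⁻¹ • c, (fixPts_conj k x _).mp ?_, smul_inv_smul k c⟩, ?_⟩
  · rwa [smul_inv_smul]
  · rintro ⟨d, hd, rfl⟩
    exact (fixPts_conj k x d).mpr hd

/-- A conjugate in `H` of a world is a world. -/
theorem World.conj (h : Pt H P t) (hW : World H t s) {k : X} (hk : k ∈ H) : World H t (k * s * k⁻¹) := by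
  obtain ⟨g, hgH, hg⟩ := hW.fix_two
  obtain ⟨v, hvH, hv, hvt, hvs⟩ := hW.invert
  obtain ⟨a, haH, b, hbH, ha, hat, has, hb, hbt, hbN, hab, hfix⟩ := hW.four
  have hsq : k * s * k⁻¹ * (k * s * k⁻¹) = t := by
    rw [show k * s * k⁻¹ * (k * s * k⁻¹) = k * (s * s) * k⁻¹ by group, hW.sq, (h.central k).eq, mul_inv_cancel_right]
  have hN : ∀ x : X, x ∈ Subgroup.normalizer (Subgroup.zpowers s : Set X) →
      k * x * k⁻¹ ∈ Subgroup.normalizer (Subgroup.zpowers (k * s * k⁻¹) : Set X) := by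
    intro x hx
    refine h.mem_normalizer hsq ?_
    have e0 : k * x * k⁻¹ * (k * s * k⁻¹) * (k * x * k⁻¹)⁻¹ = k * (x * s * x⁻¹) * k⁻¹ := by group
    rcases h.conj_eq hW.sq hx with e | e <;> rw [e0, e]
    · exact Or.inl rfl
    · refine Or.inr ?_
      rw [show k * (s * t) * k⁻¹ = k * s * k⁻¹ * (k * t * k⁻¹) by group, (h.central k).eq, mul_inv_cancel_right]
  refine ⟨mul_mem (mul_mem hk hW.mem) (inv_mem hk), hsq, ⟨k * g, fun e => hgH ?_, ?_⟩,
    ⟨k * v * k⁻¹, mul_mem (mul_mem hk hvH) (inv_mem hk), hv.conj k, h.ne_conj hvt k, ?_⟩,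
    ⟨k * a * k⁻¹, mul_mem (mul_mem hk haH) (inv_mem hk), k * b * k⁻¹, mul_mem (mul_mem hk hbH) (inv_mem hk),
      ha.conj k, h.ne_conj hat k, ?_, hb.conj k, h.ne_conj hbt k, hN b hbN, ?_, fun g' hg' hg'' => ?_⟩⟩
  · have h1 := mul_mem (inv_mem hk) e
    rwa [inv_mul_cancel_left] at h1
  · rw [show (k * g)⁻¹ * (k * s * k⁻¹) * (k * g) = g⁻¹ * s * g by group]
    exact hg
  · calc k * v * k⁻¹ * (k * s * k⁻¹) * (k * v * k⁻¹)⁻¹ = k * (v * s * v⁻¹) * k⁻¹ := by group
      _ = (k * s * k⁻¹)⁻¹ := by rw [hvs]; group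
  · show k * a * k⁻¹ * (k * s * k⁻¹) = k * s * k⁻¹ * (k * a * k⁻¹)
    calc k * a * k⁻¹ * (k * s * k⁻¹) = k * (a * s) * k⁻¹ := by group
      _ = k * (s * a) * k⁻¹ := by rw [has.eq]
      _ = _ := by group
  · rcases hab with e | e
    · left
      calc k * b * k⁻¹ * (k * a * k⁻¹) = k * (b * a) * k⁻¹ := by group
        _ = k * a * k⁻¹ * (k * b * k⁻¹) := by rw [e]; group
    · right
      calc k * b * k⁻¹ * (k * a * k⁻¹) = k * (b * a) * k⁻¹ := by group
        _ = k * a * k⁻¹ * (k * b * k⁻¹) * (k * t * k⁻¹) := by rw [e]; group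
        _ = k * a * k⁻¹ * (k * b * k⁻¹) * t := by rw [(h.central k).eq, mul_inv_cancel_right]
  · have hn : k⁻¹ * g' * k ∈ Subgroup.normalizer (Subgroup.zpowers s : Set X) := by
      refine h.mem_normalizer hW.sq ?_
      have e0 : k⁻¹ * g' * k * s * (k⁻¹ * g' * k)⁻¹ = k⁻¹ * (g' * (k * s * k⁻¹) * g'⁻¹) * k := by group
      rcases h.conj_eq hsq hg' with e | e <;> rw [e0, e]
      · exact Or.inl (by group)
      · refine Or.inr ?_
        rw [show k⁻¹ * (k * s * k⁻¹ * t) * k = s * (k⁻¹ * (t * k)) by group, ← (h.central k).eq,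
          inv_mul_cancel_left]
    have h1 : k⁻¹ * g' * k ∈ H := hfix _ hn (by
      rw [show (k⁻¹ * g' * k)⁻¹ * (b * a) * (k⁻¹ * g' * k) = k⁻¹ * (g'⁻¹ * (k * b * k⁻¹ * (k * a * k⁻¹)) * g') * k
        by group]
      exact mul_mem (mul_mem (inv_mem hk) hg'') hk)
    have h2 := mul_mem (mul_mem hk h1) (inv_mem hk)
    rwa [show k * (k⁻¹ * g' * k) * k⁻¹ = g' by group] at h2

namespace World

variable (h : Pt H P t) (hW : World H t s)
include h hW

local notation "N" => Subgroup.normalizer (Subgroup.zpowers s : Set X)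

/-- Five points are fixed by `s`. -/
theorem card_fix : (fixPts H s).ncard = 5 := by
  obtain ⟨P', hP'⟩ := hW.exists_sylow h
  obtain ⟨C, hQ⟩ := hW.quat h hP'
  let f : ↥N ⧸ H.subgroupOf N → X ⧸ H := Quotient.map' (fun n : ↥N => (n : X)) fun a b hab =>
    QuotientGroup.leftRel_apply.mpr (show (a : X)⁻¹ * b ∈ H from (QuotientGroup.leftRel_apply.mp hab :))
  have hf : Function.Injective f := by
    intro a b e
    induction a using QuotientGroup.induction_on with
    | _ a =>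
      induction b using QuotientGroup.induction_on with
      | _ b => exact QuotientGroup.eq.mpr (QuotientGroup.eq.mp e : (a : X)⁻¹ * b ∈ H)
  have hr : Set.range f = fixPts H s := by
    ext c
    constructor
    · rintro ⟨a, rfl⟩
      induction a using QuotientGroup.induction_on with
      | _ a => exact fix_iff.mpr (fix_iff.mp (hW.s_fix h ((a : ↥N) : ↥N ⧸ H.subgroupOf N)) :)
    · intro hc
      induction c using QuotientGroup.induction_on with
      | _ g =>
        obtain ⟨n, hn, hng⟩ := hW.fix_orbit h (fix_iff.mp hc)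
        exact ⟨((⟨n, hn⟩ : ↥N) : ↥N ⧸ H.subgroupOf N), QuotientGroup.eq.mpr hng⟩
  rw [← hr, ← Set.image_univ, Set.ncard_image_of_injective _ hf, Set.ncard_univ]
  exact hQ.five

/-- Worlds with nested fixed points fix the same points. -/
theorem fix_eq {r : X} (hr : World H t r) (hsub : fixPts H s ⊆ fixPts H r) : fixPts H r = fixPts H s :=
  (Set.eq_of_subset_of_ncard_le hsub (by rw [hr.card_fix h, hW.card_fix h]) (Set.toFinite _)).symm

theorem fixer_iff {x : ↥N} : x ∈ (H.subgroupOf N).normalCore ↔ (x : X) ∈ fixer H s := by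
  rw [← img_mem_core, Bender.Q.permImg_eq_one, mem_fixer]
  constructor
  · intro hx c hc
    induction c using QuotientGroup.induction_on with
    | _ g =>
      obtain ⟨n, hn, hng⟩ := hW.fix_orbit h (fix_iff.mp hc)
      rw [show ((g : X) : X ⧸ H) = ((n : X) : X ⧸ H) from (QuotientGroup.eq.mpr hng).symm]
      exact fix_iff.mpr (fix_iff.mp (hx ((⟨n, hn⟩ : ↥N) : ↥N ⧸ H.subgroupOf N)) :)
  · intro hx c
    induction c using QuotientGroup.induction_on with
    | _ a =>
      have h1 := hx ((a : X) : X ⧸ H) (fix_iff.mpr (fix_iff.mp (hW.s_fix h ((a : ↥N) : ↥N ⧸ H.subgroupOf N)) :))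
      exact fix_iff.mpr (fix_iff.mp h1 :)

end World

/-- In the quaternion outcome, an element of square `t` outside `R` that commutes with an element of square `t` of `R`
lies in `C`. -/
theorem Quat.mem_C {R C : Subgroup X} (hQ : Quat H P t R C) (h : Pt0 H P t) (ht : t ∈ C) {x r : X}
    (hx : x ∈ (P : Subgroup X)) (hx2 : x * x = t) (hxR : x ∉ R) (hr : r ∈ R) (hr2 : r * r = t)
    (hc : Commute x r) : x ∈ C := by
  have hrP : r ∈ (P : Subgroup X) := by
    rw [hQ.R_eq] at hr; exact hr.1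
  set j := x * r with hj
  have hji : IsInv j := ⟨fun e => hxR (by rw [eq_inv_of_mul_eq_one_left e]; exact inv_mem hr),
    by rw [hj, hc.symm.mul_mul_mul_comm, hx2, hr2, h.inv.2]⟩
  have hjt : j ≠ t := fun e => hxR (by
    have htR : t ∈ R := hr2 ▸ mul_mem hr hr
    rw [eq_mul_inv_of_mul_eq e]
    exact mul_mem htR (inv_mem hr))
  obtain ⟨r₂, hr₂, c, hcC, e, -, hc2⟩ := hQ.member j (mul_mem hx hrP) hji hjt
  have hρ : r₂ * r⁻¹ ∈ R := mul_mem hr₂ (inv_mem hr)
  have hx' : x = r₂ * r⁻¹ * c := by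
    rw [eq_mul_inv_of_mul_eq e, mul_assoc, ((hQ.C_comm c hcC r hr).inv_right).eq, mul_assoc]
  set ρ := r₂ * r⁻¹
  have hρ2 : ρ * ρ = 1 := by
    have h1 : ρ * ρ * (c * c) = t := by rw [← (hQ.C_comm c hcC ρ hρ).mul_mul_mul_comm, ← hx', hx2]
    rw [hc2] at h1
    exact mul_eq_right.mp h1
  by_cases hρ1 : ρ = 1
  · rw [hx', hρ1, one_mul]; exact hcC
  rw [hQ.R_eq] at hρ
  rw [hx', h.kernel_inv ⟨hρ1, hρ2⟩ hρ.2]
  exact mul_mem ht hcC

/-- A seat. -/
structure Seat (H : Subgroup X) (P : Sylow 2 X) (t s : X) : Prop where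
  world : World H t s
  max : ∀ r : X, World H t r → fixPts H r = fixPts H s → ∀ U : Subgroup X, IsPGroup 2 U →
    U ≤ H ⊓ Subgroup.normalizer (Subgroup.zpowers r : Set X) → Nat.card U ≤ Nat.card (seatT P s)

/-- A world has a conjugate in `H` fixing the same points as a seat. -/
theorem exists_seat (h : Pt H P t) (hW : World H t s) :
    ∃ r, Seat H P t r ∧ ∃ k ∈ H, fixPts H r = fixPts H (k * s * k⁻¹) := by
  haveI : Fact (Nat.Prime 2) := ⟨Nat.prime_two⟩
  classical
  let good : Set (Subgroup X) := {U | IsPGroup 2 U ∧ ∃ r : X, World H t r ∧ fixPts H r = fixPts H s ∧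
    U ≤ H ⊓ Subgroup.normalizer (Subgroup.zpowers r : Set X)}
  obtain ⟨U, ⟨hU, r, hr, hrs, hUN⟩, hmax⟩ := (Set.toFinite good).exists_maximalFor (fun U : Subgroup X => Nat.card U)
    good ⟨⊥, IsPGroup.of_bot, s, hW, rfl, bot_le⟩
  obtain ⟨m, hm, hmP⟩ := Bender.Q.exists_conj_sylow h.P_le hU (hUN.trans inf_le_left)
  refine ⟨m * r * m⁻¹, ⟨hr.conj h hm, fun r' hr' he V hV hVN => ?_⟩, m, hm, ?_⟩
  · have h1 : Nat.card U ≤ Nat.card (seatT P (m * r * m⁻¹)) := by
      have e : Nat.card (U.map (MulAut.conj m).toMonoidHom) = Nat.card U :=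
        Subgroup.card_map_of_injective (MulAut.conj m).injective
      rw [← e]
      refine Subgroup.card_le_of_le ?_
      rintro _ ⟨x, hx, rfl⟩
      refine Subgroup.mem_inf.mpr ⟨hmP x hx, h.mem_normalizer (hr.conj h hm).sq ?_⟩
      have hxN := (hUN hx).2
      show m * x * m⁻¹ * (m * r * m⁻¹) * (m * x * m⁻¹)⁻¹ = _ ∨ _
      have e0 : m * x * m⁻¹ * (m * r * m⁻¹) * (m * x * m⁻¹)⁻¹ = m * (x * r * x⁻¹) * m⁻¹ := by group
      rcases h.conj_eq hr.sq hxN with e | e
      · exact Or.inl (e0.trans (by rw [e]))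
      · refine Or.inr (e0.trans ?_)
        rw [e, show m * (r * t) * m⁻¹ = m * r * m⁻¹ * (m * t * m⁻¹) by group, (h.central m).eq, mul_inv_cancel_right]
    by_contra hlt
    have hmem : V.map (MulAut.conj m⁻¹).toMonoidHom ∈ good := by
      refine ⟨hV.map _, m⁻¹ * r' * m⁻¹⁻¹, hr'.conj h (inv_mem hm), ?_, ?_⟩
      · rw [fixPts_conj_image, he, fixPts_conj_image, ← Set.image_comp, hrs]
        simp
      · rintro _ ⟨x, hx, rfl⟩
        refine Subgroup.mem_inf.mpr ⟨mul_mem (mul_mem (inv_mem hm) (hVN hx).1) (inv_mem (inv_mem hm)),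
          h.mem_normalizer (hr'.conj h (inv_mem hm)).sq ?_⟩
        show m⁻¹ * x * m⁻¹⁻¹ * (m⁻¹ * r' * m⁻¹⁻¹) * (m⁻¹ * x * m⁻¹⁻¹)⁻¹ = _ ∨ _
        have e0 : m⁻¹ * x * m⁻¹⁻¹ * (m⁻¹ * r' * m⁻¹⁻¹) * (m⁻¹ * x * m⁻¹⁻¹)⁻¹ =
            m⁻¹ * (x * r' * x⁻¹) * m⁻¹⁻¹ := by group
        rcases h.conj_eq hr'.sq (hVN hx).2 with e | e
        · exact Or.inl (e0.trans (by rw [e]))
        · refine Or.inr (e0.trans ?_)
          rw [e, show m⁻¹ * (r' * t) * m⁻¹⁻¹ = m⁻¹ * r' * m⁻¹⁻¹ * (m⁻¹ * t * m⁻¹⁻¹) by group,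
            (h.central m⁻¹).eq, mul_inv_cancel_right]
    have h2 : Nat.card U < Nat.card (V.map (MulAut.conj m⁻¹).toMonoidHom) := by
      rw [Subgroup.card_map_of_injective (MulAut.conj m⁻¹).injective]
      omega
    exact absurd (hmax hmem h2.le) (not_le.mpr h2)
  · rw [fixPts_conj_image, fixPts_conj_image, hrs]

namespace Seat

variable (h : Pt H P t) (hS : Seat H P t s)
include h hS

local notation "N" => Subgroup.normalizer (Subgroup.zpowers s : Set X)

theorem T_le : seatT P s ≤ H := inf_le_left.trans h.P_le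

theorem exists_sylow : ∃ P' : Sylow 2 ↥N, (P' : Subgroup ↥N) = (seatT P s).subgroupOf N ∧
    (P' : Subgroup ↥N) ≤ H.subgroupOf N := by
  haveI : Fact (Nat.Prime 2) := ⟨Nat.prime_two⟩
  obtain ⟨P₀, hP₀⟩ := hS.world.exists_sylow h
  have h1 := hS.max s hS.world rfl _ (P₀.isPGroup'.map (Subgroup.subtype N)) (by
    rintro _ ⟨x, hx, rfl⟩
    exact Subgroup.mem_inf.mpr ⟨hP₀ hx, x.2⟩)
  rw [Subgroup.card_map_of_injective (Subgroup.subtype_injective N)] at h1
  have hT : IsPGroup 2 ↥((seatT P s).subgroupOf N) := (P.isPGroup'.to_le inf_le_left).comap_subtype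
  obtain ⟨P', hP'⟩ := hT.exists_le_sylow
  have h2 : Nat.card ↥((seatT P s).subgroupOf N) = Nat.card (seatT P s) :=
    Nat.card_congr (Subgroup.subgroupOfEquivOfLe inf_le_right).toEquiv
  have h3 : Nat.card P' = Nat.card P₀ := by rw [P'.card_eq_multiplicity, P₀.card_eq_multiplicity]
  have he : (seatT P s).subgroupOf N = (P' : Subgroup ↥N) := Subgroup.eq_of_le_of_card_ge hP' (by omega)
  exact ⟨P', he.symm, fun x hx => hS.T_le h (by rw [← he] at hx; exact hx)⟩

theorem s_mem : s ∈ seatR H P s := by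
  obtain ⟨P', hP', -⟩ := hS.exists_sylow h
  have h1 := hS.world.s_mem_sylow h P'
  rw [hP'] at h1
  exact Subgroup.mem_inf.mpr ⟨h1, mem_fixer.mpr fun c hc => hc⟩

theorem t_mem : t ∈ seatR H P s := hS.world.sq ▸ mul_mem (hS.s_mem h) (hS.s_mem h)

theorem R_normal : seatT P s ≤ Subgroup.normalizer (seatR H P s : Set X) := fun x hx => by
  refine Comp.mem_normalizer_of_maps fun a ha => ?_
  obtain ⟨haT, haF⟩ := Subgroup.mem_inf.mp ha
  refine Subgroup.mem_inf.mpr ⟨mul_mem (mul_mem hx haT) (inv_mem hx), mem_fixer.mpr fun c hc => ?_⟩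
  have hd : x⁻¹ • c ∈ fixPts H s := by
    show s • x⁻¹ • c = x⁻¹ • c
    rw [← mul_smul, show s * x⁻¹ = x⁻¹ * (x * s * x⁻¹) by group, mul_smul]
    rcases h.conj_eq hS.world.sq (Subgroup.mem_inf.mp hx).2 with e | e <;> rw [e]
    · rw [show s • c = c from hc]
    · rw [mul_smul, h.t_fix, show s • c = c from hc]
  rw [mul_smul, mul_smul, mem_fixer.mp haF _ hd, smul_inv_smul]

/-- The quaternion outcome at a seat, over subgroups of `X`. -/
theorem exists_data : ∃ C ≤ seatT P s, ∃ P' : Sylow 2 ↥N, (P' : Subgroup ↥N) = (seatT P s).subgroupOf N ∧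
    (P' : Subgroup ↥N) ≤ H.subgroupOf N ∧
    Quat (H.subgroupOf N) P' (World.tN h s) ((seatR H P s).subgroupOf N) (C.subgroupOf N) := by
  obtain ⟨P', hP', hP'H⟩ := hS.exists_sylow h
  obtain ⟨C₀, hQ⟩ := hS.world.quat h hP'H
  have hR : kerR (H.subgroupOf N) P' = (seatR H P s).subgroupOf N := by
    ext x
    show x ∈ (P' : Subgroup ↥N) ⊓ (H.subgroupOf N).normalCore ↔ (x : X) ∈ seatT P s ⊓ fixer H s
    rw [Subgroup.mem_inf, Subgroup.mem_inf, hS.world.fixer_iff h, hP']
    rfl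
  rw [hR] at hQ
  have hC : (C₀.map (Subgroup.subtype N)).subgroupOf N = C₀ := Subgroup.comap_map_eq_self_of_injective
    (Subgroup.subtype_injective N) C₀
  refine ⟨C₀.map (Subgroup.subtype N), ?_, P', hP', hP'H, by rw [hC]; exact hQ⟩
  rintro _ ⟨c, hc, rfl⟩
  have h1 := hQ.C_le hc
  rwa [hP'] at h1

/-- An element of square `t` of `R` is a world with the same fixed points. -/
theorem world_of_mem {r : X} (hr : r ∈ seatR H P s) (hr2 : r * r = t) :
    World H t r ∧ fixPts H r = fixPts H s := by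
  obtain ⟨C, hC, P', hP', hP'H, hQ⟩ := hS.exists_data h
  have hpt := hS.world.pt h hP'H
  have hrN : r ∈ N := (Subgroup.mem_inf.mp (Subgroup.mem_inf.mp hr).1).2
  obtain ⟨g, hgH, hg⟩ := hS.world.fix_two
  have hrsub : fixPts H s ⊆ fixPts H r := fun c hc => mem_fixer.mp (Subgroup.mem_inf.mp hr).2 c hc
  obtain ⟨r', hr'R, hr'2, hanti⟩ := hQ.partner ⟨r, hrN⟩ hr (Subtype.ext hr2)
  -- two anticommuting elements of `C`
  obtain ⟨c, hc, hc1, hct⟩ : ∃ c ∈ C.subgroupOf N, c ≠ 1 ∧ c ≠ World.tN h s := by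
    by_contra hno
    push Not at hno
    have h1 : ((C.subgroupOf N : Subgroup ↥N) : Set ↥N) ⊆ {1, World.tN h s} := fun b hb => by
      by_cases hb1 : b = 1
      · exact Or.inl hb1
      · exact Or.inr (hno b hb hb1)
    have h2 := Set.ncard_le_ncard h1 (Set.toFinite _)
    rw [← Nat.card_coe_set_eq, Set.ncard_pair (Ne.symm hpt.inv.1)] at h2
    have h3 : Nat.card ↥(C.subgroupOf N) = Nat.card ((C.subgroupOf N : Subgroup ↥N) : Set ↥N) := rfl
    have h4 := hQ.C_card
    omega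
  obtain ⟨d, hd, hd1, hdt, hdc, hdct⟩ :
      ∃ d ∈ C.subgroupOf N, d ≠ 1 ∧ d ≠ World.tN h s ∧ d ≠ c ∧ d ≠ c * World.tN h s := by
    by_contra hno
    push Not at hno
    have hsub : ((C.subgroupOf N : Subgroup ↥N) : Set ↥N) ⊆ {1, World.tN h s, c, c * World.tN h s} :=
      fun b hb => by
        by_contra hb'
        simp only [Set.mem_insert_iff, Set.mem_singleton_iff, not_or] at hb'
        exact hb'.2.2.2 (hno b hb hb'.1 hb'.2.1 hb'.2.2.1)
    have h2 := Set.ncard_le_ncard hsub (Set.toFinite _)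
    rw [← Nat.card_coe_set_eq] at h2
    have h3 : Set.ncard ({1, World.tN h s, c, c * World.tN h s} : Set ↥N) ≤ 4 := by
      refine (Set.ncard_insert_le _ _).trans (Nat.succ_le_succ ((Set.ncard_insert_le _ _).trans
        (Nat.succ_le_succ ((Set.ncard_insert_le _ _).trans (Nat.succ_le_succ ?_)))))
      rw [Set.ncard_singleton]
    have h4 : Nat.card ↥(C.subgroupOf N) = Nat.card ((C.subgroupOf N : Subgroup ↥N) : Set ↥N) := rfl
    have h5 := hQ.C_card
    omega
  have hc2 := hQ.C_sq c hc hc1 hct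
  have hd2 := hQ.C_sq d hd hd1 hdt
  have hcd := hQ.C_anti c hc d hd hc1 hct hd1 hdt hdc hdct
  set r₀ : ↥N := ⟨r, hrN⟩
  have hr0R : r₀ ∈ (seatR H P s).subgroupOf N := hr
  have hr02 : r₀ * r₀ = World.tN h s := Subtype.ext hr2
  have hmem : ∀ z : ↥N, z ∈ (P' : Subgroup ↥N) → (z : X) ∈ H := fun z hz => hP'H hz
  have hRP : ∀ z ∈ (seatR H P s).subgroupOf N, z ∈ (P' : Subgroup ↥N) := fun z hz => by
    rw [hQ.R_eq] at hz; exact hz.1
  -- a product of elements of square `t` of `R` and `C` is a member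
  have hinv : ∀ ρ ∈ (seatR H P s).subgroupOf N, ρ * ρ = World.tN h s → ∀ κ ∈ C.subgroupOf N,
      κ * κ = World.tN h s →
      IsInv ((ρ : X) * (κ : X)) ∧ (ρ : X) * (κ : X) ≠ t ∧ (ρ : X) * (κ : X) ∈ H := by
    intro ρ hρ hρ2 κ hκ hκ2
    have hinter : ∀ e : X, e = 1 ∨ e = t → (ρ : X) * (κ : X) = e → False := by
      intro e he hρκ
      have hκR : κ ∈ (seatR H P s).subgroupOf N := by
        show (κ : X) ∈ seatR H P s
        rw [eq_inv_mul_of_mul_eq hρκ]
        refine mul_mem (inv_mem hρ) ?_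
        rcases he with rfl | rfl
        · exact one_mem _
        · exact hS.t_mem h
      rcases hQ.C_inf κ hκ hκR with e' | e'
      · exact hpt.inv.1 (by rw [← hκ2, e', one_mul])
      · exact hpt.inv.1 (by rw [← hκ2, e', hpt.inv.2])
    refine ⟨⟨fun e => hinter 1 (Or.inl rfl) e, ?_⟩, fun e => hinter t (Or.inr rfl) e,
      mul_mem (hmem ρ (hRP ρ hρ)) (hmem κ (hQ.C_le hκ))⟩
    have h2 : (ρ * κ) * (ρ * κ) = 1 := by
      rw [(hQ.C_comm κ hκ ρ hρ).mul_mul_mul_comm, hρ2, hκ2, hpt.inv.2]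
    exact congrArg Subtype.val h2
  have hanti' : (r' : X) * r * (r' : X)⁻¹ = r⁻¹ := by
    rw [h.inv_eq_mul hr2]
    have e : r * (r' : X) = (r' : X) * r * t := congrArg Subtype.val hanti
    calc (r' : X) * r * (r' : X)⁻¹ = (r' : X) * r * t * (r' : X)⁻¹ * t := by
          rw [mul_assoc _ t, ← (h.central (r' : X)⁻¹).eq, ← mul_assoc, mul_assoc _ t t, h.inv.2, mul_one]
      _ = r * t := by rw [← e, mul_inv_cancel_right]
  obtain ⟨hai, hat, haH⟩ := hinv r₀ hr0R hr02 c hc hc2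
  obtain ⟨hbi, hbt, hbH⟩ := hinv r' hr'R hr'2 d hd hd2
  have hcr : Commute (c : X) r := congrArg Subtype.val (hQ.C_comm c hc r₀ hr0R).eq
  have hdr : Commute (d : X) r := congrArg Subtype.val (hQ.C_comm d hd r₀ hr0R).eq
  have hbr : (r' : X) * (d : X) * r * ((r' : X) * (d : X))⁻¹ = r⁻¹ := by
    calc (r' : X) * (d : X) * r * ((r' : X) * (d : X))⁻¹ = (r' : X) * ((d : X) * r * (d : X)⁻¹) * (r' : X)⁻¹ := by
          group
      _ = r⁻¹ := by rw [hdr.eq, mul_inv_cancel_right, hanti']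
  have hW : World H t r := by
    refine ⟨h.P_le (Subgroup.mem_inf.mp (Subgroup.mem_inf.mp hr).1).1, hr2,
      ⟨g, hgH, fix_iff.mp (hrsub (fix_iff.mpr hg))⟩, ⟨_, hbH, hbi, hbt, hbr⟩,
      ⟨r * (c : X), haH, (r' : X) * (d : X), hbH, hai, hat, ?_, hbi, hbt,
        h.mem_normalizer hr2 (Or.inr (hbr.trans (h.inv_eq_mul hr2))), ?_, ?_⟩⟩
    · exact (Commute.refl r).mul_left hcr
    all_goals
      have hprod : r' * d * (r₀ * c) = r₀ * c * (r' * d) := by
        calc r' * d * (r₀ * c) = r' * (d * r₀) * c := by group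
          _ = r' * (r₀ * d) * c := by rw [(hQ.C_comm d hd r₀ hr0R).eq]
          _ = (r' * r₀) * (d * c) * (World.tN h s * World.tN h s) := by rw [hpt.inv.2]; group
          _ = (r' * r₀ * World.tN h s) * (d * c * World.tN h s) := by
            rw [(hpt.central (d * c)).symm.mul_mul_mul_comm]
          _ = r₀ * r' * (c * d) := by rw [← hanti, ← hcd]
          _ = r₀ * (r' * c) * d := by group
          _ = r₀ * c * (r' * d) := by rw [← (hQ.C_comm c hc r' hr'R).eq]; group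
    · exact Or.inl (congrArg Subtype.val hprod)
    · intro g' _ hg'
      have e : r' * d * (r₀ * c) = (r' * r₀) * (d * c) := by
        rw [(hQ.C_comm d hd r₀ hr0R).mul_mul_mul_comm]
      have hsq1 : r' * r₀ * (r' * r₀) = World.tN h s := by
        calc r' * r₀ * (r' * r₀) = r' * (r₀ * r') * r₀ := by group
          _ = r' * r' * (r₀ * (World.tN h s * r₀)) := by rw [hanti]; group
          _ = World.tN h s := by
            rw [hr'2, ← (hpt.central r₀).eq, ← mul_assoc r₀, hr02, hpt.inv.2, mul_one]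
      have hsq2 : d * c * (d * c) = World.tN h s := by
        calc d * c * (d * c) = d * (c * d) * c := by group
          _ = d * d * (c * (World.tN h s * c)) := by rw [hcd]; group
          _ = World.tN h s := by
            rw [hd2, ← (hpt.central c).eq, ← mul_assoc c, hc2, hpt.inv.2, mul_one]
      obtain ⟨hi, hit, hiH⟩ := hinv (r' * r₀) (mul_mem hr'R hr0R) hsq1 (d * c) (mul_mem hd hc) hsq2
      have hg'' : g'⁻¹ * (((r' * r₀ : ↥N) : X) * ((d * c : ↥N) : X)) * g' ∈ H := by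
        rw [show ((r' * r₀ : ↥N) : X) * ((d * c : ↥N) : X) = ((r' * d * (r₀ * c) : ↥N) : X) from
          (congrArg Subtype.val e).symm]
        exact hg'
      exact inv_mem_iff.mp (h.fix _ hiH hi hit g'⁻¹ (by simpa using hg''))
  exact ⟨hW, hS.world.fix_eq h hW hrsub⟩

/-- A 2-subgroup of `H` over `T` normalising `R` is `T`. -/
theorem normalizer_le {Q : Subgroup X} (hQ : IsPGroup 2 Q) (hQH : Q ≤ H) (hTQ : seatT P s ≤ Q)
    (hQR : Q ≤ Subgroup.normalizer (seatR H P s : Set X)) :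
    Q = seatT P s ∧ ∃ r ∈ seatR H P s, r * r = t ∧ Q ≤ Subgroup.normalizer (Subgroup.zpowers r : Set X) := by
  haveI : Fact (Nat.Prime 2) := ⟨Nat.prime_two⟩
  have hsR := hS.s_mem h
  have htR := hS.t_mem h
  have hRQ : seatR H P s ≤ Q := inf_le_left.trans hTQ
  have htQ : t ∈ Q := hRQ htR
  -- a normal subgroup of order four over `<t>` inside `R`
  let t' : ↥Q := ⟨t, htQ⟩
  haveI : (Subgroup.zpowers t').Normal := ⟨fun x hx g => by
    rw [show g * x = x * g by
      obtain ⟨k, rfl⟩ := Subgroup.mem_zpowers_iff.mp hx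
      exact (Commute.zpow_right (Subtype.ext (h.central (g : X)).eq : Commute g t') k).eq, mul_inv_cancel_right]
    exact hx⟩
  haveI : ((seatR H P s).subgroupOf Q).Normal := (Subgroup.normal_subgroupOf_iff_le_normalizer hRQ).mpr hQR
  have hlt : Subgroup.zpowers t' < (seatR H P s).subgroupOf Q := by
    refine lt_of_le_of_ne (Subgroup.zpowers_le.mpr htR) fun e => ?_
    have h1 : (⟨s, hRQ hsR⟩ : ↥Q) ∈ Subgroup.zpowers t' := e ▸ (show _ ∈ (seatR H P s).subgroupOf Q from hsR)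
    obtain ⟨k, hk⟩ := Subgroup.mem_zpowers_iff.mp h1
    refine h.inv.1 ?_
    rw [← hS.world.sq, show s = t ^ k from (congrArg Subtype.val hk).symm, ← zpow_add, ← two_mul, zpow_mul,
      zpow_two, h.inv.2, one_zpow]
  obtain ⟨M, hMn, htM, hMR, hcard⟩ := PGroupRankTwo.exists_normal_step hQ hlt
  have ht2 : orderOf t' = 2 := orderOf_eq_prime (Subtype.ext (by show t ^ 2 = 1; rw [pow_two, h.inv.2]))
    fun e => h.inv.1 (congrArg Subtype.val e)
  rw [Nat.card_zpowers, ht2] at hcard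
  obtain ⟨r, hrM, hrt⟩ := SetLike.exists_of_lt
    (lt_of_le_of_ne htM fun e => by rw [← e, Nat.card_zpowers, ht2] at hcard; omega)
  obtain ⟨C, hC, P', hP', hP'H, hQu⟩ := hS.exists_data h
  have hkey : ∀ z : ↥Q, z ∈ M → (z : X) * z = 1 → z = 1 ∨ z = t' := by
    intro z hz hz2
    by_cases hz1 : (z : X) = 1
    · exact Or.inl (Subtype.ext hz1)
    have hzR : (z : X) ∈ seatR H P s := hMR hz
    have hzN := (Subgroup.mem_inf.mp (Subgroup.mem_inf.mp hzR).1).2
    have hzR' : (⟨(z : X), hzN⟩ : ↥N) ∈ (seatR H P s).subgroupOf N := hzR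
    rw [hQu.R_eq] at hzR'
    have h5 := (hS.world.pt h hP'H).kernel_inv (v := ⟨(z : X), hzN⟩)
      ⟨fun e => hz1 (congrArg Subtype.val e), Subtype.ext hz2⟩ hzR'.2
    exact Or.inr (Subtype.ext (congrArg Subtype.val h5 :))
  have hr4 : (r : X) * r * ((r : X) * r) = 1 := by
    have h1 : (⟨r, hrM⟩ : ↥M) ^ 4 = 1 := by
      rw [show (4 : ℕ) = Nat.card M by omega]; exact pow_card_eq_one'
    have h2 : (r : X) ^ 4 = 1 := congrArg (fun z : ↥M => ((z : ↥Q) : X)) h1
    rw [← h2, show (4 : ℕ) = 2 * 2 from rfl, pow_mul, pow_two (r : X), pow_two]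
  have hr2 : (r : X) * r = t := by
    rcases hkey (r * r) (mul_mem hrM hrM) hr4 with e | e
    · exfalso
      rcases hkey r hrM (congrArg Subtype.val e) with e' | e'
      · exact hrt (e' ▸ one_mem _)
      · exact hrt (e' ▸ Subgroup.mem_zpowers t')
    · exact congrArg Subtype.val e
  have hQN : Q ≤ Subgroup.normalizer (Subgroup.zpowers (r : X) : Set X) := by
    intro q hq
    refine h.mem_normalizer hr2 ?_
    set b : ↥Q := ⟨q, hq⟩ * r * ⟨q, hq⟩⁻¹
    have hbM : b ∈ M := hMn.conj_mem r hrM ⟨q, hq⟩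
    have hidx : ((Subgroup.zpowers t').subgroupOf M).index = 2 := by
      have h1 := ((Subgroup.zpowers t').subgroupOf M).card_mul_index
      rw [Nat.card_congr (Subgroup.subgroupOfEquivOfLe htM).toEquiv, Nat.card_zpowers, ht2, hcard] at h1
      omega
    have hbt : b ∉ Subgroup.zpowers t' := fun hb => hrt (by
      have h1 := (inferInstance : (Subgroup.zpowers t').Normal).conj_mem b hb ⟨q, hq⟩⁻¹
      rwa [show ⟨q, hq⟩⁻¹ * b * ⟨q, hq⟩⁻¹⁻¹ = r by simp only [b]; group] at h1)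
    have hbr : b * r ∈ Subgroup.zpowers t' :=
      (Subgroup.mul_mem_iff_of_index_two hidx (a := ⟨b, hbM⟩) (b := ⟨r, hrM⟩)).mpr (iff_of_false hbt hrt)
    obtain ⟨k, hk⟩ := Subgroup.mem_zpowers_iff.mp hbr
    have hrinv : (r : X)⁻¹ = r * t := h.inv_eq_mul hr2
    have hb : q * r * q⁻¹ = t ^ k * (r : X)⁻¹ := eq_mul_inv_of_mul_eq (congrArg Subtype.val hk).symm
    rcases Int.even_or_odd' k with ⟨j, rfl | rfl⟩
    · right
      rw [hb, zpow_mul, zpow_two, h.inv.2, one_zpow, one_mul, hrinv]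
    · left
      rw [hb, zpow_add, zpow_mul, zpow_two, h.inv.2, one_zpow, one_mul, zpow_one, hrinv, ← mul_assoc,
        ← (h.central (r : X)).eq, mul_assoc, h.inv.2, mul_one]
  obtain ⟨hW, he⟩ := hS.world_of_mem h (hMR hrM) hr2
  refine ⟨(Subgroup.eq_of_le_of_card_ge hTQ (hS.max r hW he Q hQ (le_inf hQH hQN))).symm, r, hMR hrM, hr2, hQN⟩

end Seat

end CfsgLib.CoreKill.Local
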