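import Cfsg.Agent.Lib.CoreKill.Fail.Twin.Data

/-!
An element of `P` normalising the part of `P` at a seat, outside it, carries `R` onto `C`.

Blueprint: `blueprint/bender/CoreKill.md`, 4 (B).
-/

set_option autoImplicit false
set_option linter.unusedSectionVars false
set_option linter.style.haveILetI false

universe u

namespace CfsgLib.CoreKill.Local

open Cfsg MulAction
open scoped Pointwise
open CfsgLib.Bender.TwoClosed (IsInv)

variable {X : Type u} [Group X] [Finite X] {H : Subgroup X} {P : Sylow 2 X} {t s : X}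

namespace Seat

variable (h : Pt H P t) (hS : Seat H P t s)
include h hS

omit hS in
theorem mem_seatT_self {g x : X} (hW : World H t s) (hg : g ∈ (P : Subgroup X)) :
    x ∈ seatT P (g * s * g⁻¹) ↔ g⁻¹ * x * g ∈ seatT P s := by
  have h1 := mem_seatT_conj (P := P) (x := x) h hW (h.P_le hg)
  rwa [show g • P = P from Sylow.smul_eq_iff_mem_normalizer.mpr (Subgroup.le_normalizer hg)] at h1

omit hS in
theorem mem_seatR_self {g x : X} (hW : World H t s) (hg : g ∈ (P : Subgroup X)) :
    x ∈ seatR H P (g * s * g⁻¹) ↔ g⁻¹ * x * g ∈ seatR H P s := by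
  have h1 := mem_seatR_conj (P := P) (x := x) h hW (h.P_le hg)
  rwa [show g • P = P from Sylow.smul_eq_iff_mem_normalizer.mpr (Subgroup.le_normalizer hg)] at h1

/-- An element of `P` normalising `R` lies in the part of `P` at the seat. -/
theorem mem_of_normalizer {g : X} (hg : g ∈ (P : Subgroup X))
    (hgR : g ∈ Subgroup.normalizer (seatR H P s : Set X)) : g ∈ seatT P s :=
  (hS.normalizer_le h (Q := (P : Subgroup X) ⊓ Subgroup.normalizer (seatR H P s : Set X))
    (P.isPGroup'.to_le inf_le_left) (inf_le_left.trans h.P_le) (le_inf inf_le_left (hS.R_normal h))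
    inf_le_right).1.le ⟨hg, hgR⟩

/-- Two worlds moved into each other by a normaliser of the seat fix different points. -/
theorem fix_ne {g : X} (hg : g ∈ (P : Subgroup X)) (hgT : seatT P (g * s * g⁻¹) = seatT P s)
    (hgn : g ∉ seatT P s) : fixPts H (g * s * g⁻¹) ≠ fixPts H s := fun e => hgn <| by
  have hR : seatR H P (g * s * g⁻¹) = seatR H P s := by
    show seatT P (g * s * g⁻¹) ⊓ fixer H (g * s * g⁻¹) = seatT P s ⊓ fixer H s
    rw [hgT, show fixer H (g * s * g⁻¹) = fixer H s by rw [fixer, fixer, e]]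
  refine hS.mem_of_normalizer h hg (Comp.mem_normalizer_of_maps fun a ha => ?_)
  show g * a * g⁻¹ ∈ seatR H P s
  rw [← hR, mem_seatR_self h hS.world hg, show g⁻¹ * (g * a * g⁻¹) * g = a by group]
  exact ha

/-- Their groups meet in `<t>`. -/
theorem inter_R {g : X} (hg : g ∈ (P : Subgroup X)) (hgT : seatT P (g * s * g⁻¹) = seatT P s)
    (hgn : g ∉ seatT P s) {x : X} (hx : x ∈ seatR H P s) (hx' : x ∈ seatR H P (g * s * g⁻¹)) :
    x = 1 ∨ x = t := by
  by_contra hcon
  push Not at hcon
  obtain ⟨C, hC⟩ := hS.seatData h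
  obtain ⟨k, hk⟩ := IsPGroup.iff_orderOf.mp P.isPGroup' ⟨x, (Subgroup.mem_inf.mp (Subgroup.mem_inf.mp hx).1).1⟩
  rw [← Subgroup.orderOf_coe] at hk
  change orderOf x = 2 ^ k at hk
  have hk2 : 2 ≤ k := by
    by_contra hlt
    have hx2 : x * x = 1 := by
      rw [← pow_two]
      refine orderOf_dvd_iff_pow_eq_one.mp (hk ▸ ?_)
      interval_cases k <;> norm_num
    exact (hC.kernel x hx hx2).elim hcon.1 hcon.2
  set r := x ^ (2 ^ (k - 2)) with hr
  have hrR : r ∈ seatR H P s := pow_mem hx _
  have hr4 : r * r * (r * r) = 1 := by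
    rw [← pow_two r, ← pow_add, show 2 + 2 = 2 ^ 2 from rfl, hr, ← pow_mul, ← pow_add, Nat.sub_add_cancel hk2, ← hk,
      pow_orderOf_eq_one]
  have hr2 : r * r = t := (hC.kernel (r * r) (mul_mem hrR hrR) hr4).resolve_left fun e => by
    rw [hr, ← pow_two, ← pow_mul, ← pow_succ] at e
    have h1 := orderOf_dvd_of_pow_eq_one e
    rw [hk, Nat.pow_dvd_pow_iff_le_right (by norm_num)] at h1
    omega
  exact hS.fix_ne h hg hgT hgn (((hS.conj_self h hg).world_of_mem h (pow_mem hx' _) hr2).2.symm.trans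
    (hS.world_of_mem h hrR hr2).2)

/-- The swap: `R` goes to `C`. -/
theorem image_eq {C : Subgroup X} (hC : SeatData H P t s C) {g : X} (hg : g ∈ (P : Subgroup X))
    (hgT : seatT P (g * s * g⁻¹) = seatT P s) (hgn : g ∉ seatT P s) : seatR H P (g * s * g⁻¹) = C := by
  haveI : Fact (Nat.Prime 2) := ⟨Nat.prime_two⟩
  have hS' := hS.conj_self h hg
  obtain ⟨C', hC'⟩ := hS'.seatData h
  set R' := seatR H P (g * s * g⁻¹) with hR'
  have hR'T : R' ≤ seatT P s := inf_le_left.trans hgT.le
  have hnorm : seatT P s ≤ Subgroup.normalizer (R' : Set X) := hgT.ge.trans (hS'.R_normal h)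
  -- `R'` centralises `R` modulo `t`
  have hcomm : ∀ a ∈ R', ∀ b ∈ seatR H P s, a * b * a⁻¹ = b ∨ a * b * a⁻¹ = b * t := by
    intro a ha b hb
    have h1 : a * b * a⁻¹ * b⁻¹ ∈ seatR H P s :=
      mul_mem ((Subgroup.mem_normalizer_iff.mp (hS.R_normal h (hR'T ha)) b).mp hb) (inv_mem hb)
    have h2 : a * b * a⁻¹ * b⁻¹ ∈ R' := by
      rw [show a * b * a⁻¹ * b⁻¹ = a * (b * a⁻¹ * b⁻¹) by group]
      exact mul_mem ha ((Subgroup.mem_normalizer_iff.mp (hnorm (Subgroup.mem_inf.mp hb).1) a⁻¹).mp (inv_mem ha))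
    rcases hS.inter_R h hg hgT hgn h1 h2 with e | e
    · exact Or.inl (mul_inv_eq_one.mp e)
    · exact Or.inr ((mul_inv_eq_iff_eq_mul.mp e).trans (h.central b).eq.symm)
  -- elements of square `t` of `R'` lie in `C`
  have hsq : ∀ x ∈ R', x * x = t → x ∈ C := by
    intro x hx hx2
    have hxR : x ∉ seatR H P s := fun hxR => by
      rcases hS.inter_R h hg hgT hgn hxR hx with e | e <;> rw [e] at hx2
      · exact h.inv.1 (by rw [← hx2, one_mul])
      · exact h.inv.1 (hx2.symm.trans h.inv.2)
    obtain ⟨s₁, hs₁, hs₁2, hss₁⟩ := hC.partner s (hS.s_mem h) hS.world.sq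
    rcases hcomm x hx s (hS.s_mem h) with e | e
    · exact hC.mem_C x (hR'T hx) hx2 hxR s (hS.s_mem h) hS.world.sq (mul_inv_eq_iff_eq_mul.mp e)
    rcases hcomm x hx s₁ hs₁ with e₁ | e₁
    · exact hC.mem_C x (hR'T hx) hx2 hxR s₁ hs₁ hs₁2 (mul_inv_eq_iff_eq_mul.mp e₁)
    refine hC.mem_C x (hR'T hx) hx2 hxR (s * s₁) (mul_mem (hS.s_mem h) hs₁) ?_ ?_
    · calc s * s₁ * (s * s₁) = s * (s₁ * s) * s₁ * (t * t) := by rw [h.inv.2]; group
        _ = s * (s₁ * s * t) * s₁ * t := by
          rw [show s * (s₁ * s * t) * s₁ * t = s * (s₁ * s) * (t * s₁) * t by group, ← (h.central s₁).eq]; group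
        _ = (s * s) * (s₁ * s₁) * t := by rw [← hss₁]; group
        _ = t := by rw [hS.world.sq, hs₁2, h.inv.2, one_mul]
    · refine mul_inv_eq_iff_eq_mul.mp ?_
      calc x * (s * s₁) * x⁻¹ = (x * s * x⁻¹) * (x * s₁ * x⁻¹) := by group
        _ = s * t * (s₁ * t) := by rw [e, e₁]
        _ = s * s₁ * (t * t) := by rw [(h.central s₁).symm.mul_mul_mul_comm]
        _ = s * s₁ := by rw [h.inv.2, mul_one]
  -- so `C ≤ R'`
  have hCR : C ≤ R' := by
    obtain ⟨s₁, hs₁, hs₁2, hanti⟩ := hC'.partner _ (hS'.s_mem h) hS'.world.sq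
    set a := g * s * g⁻¹ with ha
    have haC : a ∈ C := hsq a (hS'.s_mem h) hS'.world.sq
    have hs₁C : s₁ ∈ C := hsq s₁ hs₁ hs₁2
    have hord : orderOf a = 4 := by
      refine orderOf_eq_prime_pow (p := 2) (n := 1) (fun e => h.inv.1 ?_) ?_
      · rw [pow_one, pow_two, hS'.world.sq] at e; exact e
      · rw [show (2 : ℕ) ^ (1 + 1) = 2 * 2 from rfl, pow_mul, pow_two a, hS'.world.sq, pow_two, h.inv.2]
    have hz : Subgroup.zpowers a ≤ C ⊓ R' := Subgroup.zpowers_le.mpr ⟨haC, hS'.s_mem h⟩
    have h8 : Nat.card ↥(C ⊓ R') = 8 := by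
      have hdvd : Nat.card ↥(C ⊓ R') ∣ 2 ^ 3 := by
        rw [show (2 : ℕ) ^ 3 = Nat.card C by rw [hC.C_card]; norm_num]
        exact Subgroup.card_dvd_of_le inf_le_left
      obtain ⟨i, hi, e⟩ := (Nat.dvd_prime_pow Nat.prime_two).mp hdvd
      have h4 : 4 ≤ Nat.card ↥(C ⊓ R') := by
        have := Subgroup.card_le_of_le hz
        rwa [Nat.card_zpowers, hord] at this
      obtain rfl | rfl : i = 2 ∨ i = 3 := by
        by_contra hne
        push Not at hne
        have h5 : 2 ^ i ≤ 2 ^ 1 := Nat.pow_le_pow_right (by norm_num) (by omega)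
        rw [e] at h4
        omega
      swap
      · rw [e]; norm_num
      exfalso
      have heq : Subgroup.zpowers a = C ⊓ R' :=
        Subgroup.eq_of_le_of_card_ge hz (by rw [Nat.card_zpowers, hord, e]; norm_num)
      obtain ⟨k, hk⟩ := Subgroup.mem_zpowers_iff.mp (heq.ge ⟨hs₁C, hs₁⟩)
      have hc : Commute a s₁ := hk ▸ (Commute.refl a).zpow_right k
      rw [hc.eq] at hanti
      exact h.inv.1 (mul_eq_left.mp hanti.symm)
    exact fun c hc => ((Subgroup.eq_of_le_of_card_ge inf_le_left (by rw [hC.C_card, h8])).ge hc).2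
  refine le_antisymm ?_ hCR
  -- descent
  suffices key : ∀ n, ∀ x ∈ R', orderOf x = n → x ∈ C from fun x hx => key _ x hx rfl
  intro n
  induction n using Nat.strong_induction_on with
  | _ n ih =>
    intro x hx hn
    by_cases hx2 : x * x = 1
    · rcases hC'.kernel x hx hx2 with e | e <;> rw [e]
      · exact one_mem C
      · exact hC.t_mem
    have hxP : x ∈ (P : Subgroup X) := (Subgroup.mem_inf.mp (hR'T hx)).1
    obtain ⟨k, hk⟩ := IsPGroup.iff_orderOf.mp P.isPGroup' ⟨x, hxP⟩
    rw [← Subgroup.orderOf_coe] at hk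
    change orderOf x = 2 ^ k at hk
    have hk0 : k ≠ 0 := fun e => hx2 (by
      rw [e, pow_zero, orderOf_eq_one_iff] at hk
      rw [hk, one_mul])
    have hlt : orderOf (x * x) < n := by
      rw [← hn, ← pow_two, orderOf_pow' _ (by norm_num), hk, Nat.gcd_eq_right (dvd_pow_self 2 hk0)]
      exact Nat.div_lt_self (by positivity) (by norm_num)
    have haC : x * x ∈ C := ih _ hlt (x * x) (mul_mem hx hx) rfl
    by_cases hxt : x * x = t
    · exact hsq x hx hxt
    set a := x * x with ha
    obtain ⟨b, hb, hb1, hbt, hba, hbat⟩ := exists_outside (C := C) (by rw [hC.C_card]; norm_num) 1 t a (a * t)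
    have hb2 := hC.C_sq b hb hb1 hbt
    have ha2 := hC.C_sq a haC hx2 hxt
    have hab : a * b = b * a * t := hC.C_anti a haC b hb hx2 hxt hb1 hbt hba hbat
    set e := x * b * x⁻¹ with he
    have heR : e ∈ R' := mul_mem (mul_mem hx (hCR hb)) (inv_mem hx)
    have he2 : e * e = t := by
      rw [he, show x * b * x⁻¹ * (x * b * x⁻¹) = x * (b * b) * x⁻¹ by group, hb2, (h.central x).eq,
        mul_inv_cancel_right]
    have heC : e ∈ C := hsq e heR he2
    have hxa : Commute x a := by show x * (x * x) = x * x * x; group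
    have hea : a * e = e * a * t := by
      calc a * e = x * (a * b) * x⁻¹ := by
            rw [he, show a * (x * b * x⁻¹) = (a * x) * b * x⁻¹ by group, ← hxa.eq]; group
        _ = (x * b) * (a * x⁻¹) * t := by
            rw [hab, show x * (b * a * t) * x⁻¹ = x * b * a * (t * x⁻¹) by group, ← (h.central x⁻¹).eq]; group
        _ = e * a * t := by rw [← hxa.inv_left.eq, he]; group
    by_cases heb : e = b ∨ e = b * t
    · exfalso
      have h2 : a * b * a⁻¹ = b := by
        calc a * b * a⁻¹ = x * e * x⁻¹ := by rw [he, ha]; group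
          _ = b := by
            rcases heb with e' | e' <;> rw [e']
            · rw [← he, e']
            · rw [show x * (b * t) * x⁻¹ = (x * b * x⁻¹) * (x * t * x⁻¹) by group, ← he, e', (h.central x).eq,
                mul_inv_cancel_right, mul_assoc, h.inv.2, mul_one]
      have h3 : a * b = b * a := mul_inv_eq_iff_eq_mul.mp h2
      rw [h3] at hab
      exact h.inv.1 (mul_eq_left.mp hab.symm)
    push Not at heb
    have he1 : e ≠ 1 := fun e' => hb1 (conj_eq_one_iff.mp (he.symm.trans e'))
    have het : e ≠ t := fun e' => h.inv.1 (he2.symm.trans (by rw [e', h.inv.2]))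
    have hebC : e * b ∈ C := mul_mem heC hb
    have hbinv : b⁻¹ = b * t := inv_eq_of_mul_eq_one_right (by rw [← mul_assoc, hb2, h.inv.2])
    have heb1 : e * b ≠ 1 := fun e' => heb.2 (by rw [eq_inv_of_mul_eq_one_left e', hbinv])
    have hebt : e * b ≠ t := fun e' => heb.1 (by
      rw [eq_mul_inv_of_mul_eq e', hbinv, (h.central b).eq, ← mul_assoc, h.inv.2, one_mul])
    have hcom : Commute a (e * b) := by
      show a * (e * b) = e * b * a
      calc a * (e * b) = (a * e) * b := by group
        _ = e * (a * b) * t := by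
            rw [hea, show e * a * t * b = e * a * (t * b) by group, ← (h.central b).eq]; group
        _ = e * b * a * (t * t) := by rw [hab]; group
        _ = e * b * a := by rw [h.inv.2, mul_one]
    have hcase : e * b = a ∨ e * b = a * t := by
      by_contra hne
      push Not at hne
      have h1 := hC.C_anti a haC (e * b) hebC hx2 hxt heb1 hebt hne.1 hne.2
      rw [hcom.eq] at h1
      exact h.inv.1 (mul_eq_left.mp h1.symm)
    -- then `(x b)² ∈ <t>`
    have hxb : x * b * (x * b) = 1 ∨ x * b * (x * b) = t := by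
      have e1 : x * b * (x * b) = e * a * b := by rw [he, ha]; group
      have hm : a * b * (a * b) = t := by
        calc a * b * (a * b) = a * (b * a) * b * (t * t) := by rw [h.inv.2]; group
          _ = a * (b * a * t) * b * t := by
            rw [show a * (b * a * t) * b * t = a * (b * a) * (t * b) * t by group, ← (h.central b).eq]; group
          _ = (a * a) * (b * b) * t := by rw [← hab]; group
          _ = t := by rw [ha2, hb2, h.inv.2, one_mul]
      rcases hcase with e' | e'
      · left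
        rw [e1, eq_mul_inv_of_mul_eq e', hbinv,
          show a * (b * t) * a * b = a * b * (t * (a * b)) by group, ← (h.central (a * b)).eq, ← mul_assoc, hm,
          h.inv.2]
      · right
        rw [e1, eq_mul_inv_of_mul_eq e', hbinv, show a * t * (b * t) = a * (t * b) * t by group,
          ← (h.central b).eq, show a * (b * t) * t * a * b = a * b * (t * t) * (a * b) by group, h.inv.2, mul_one, hm]
    have hxbR : x * b ∈ R' := mul_mem hx (hCR hb)
    have hxbC : x * b ∈ C := by
      rcases hxb with e' | e'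
      · rcases hC'.kernel _ hxbR e' with e'' | e'' <;> rw [e'']
        · exact one_mem C
        · exact hC.t_mem
      · exact hsq _ hxbR e'
    have h5 := mul_mem hxbC (inv_mem hb)
    rwa [mul_inv_cancel_right] at h5

end Seat

end CfsgLib.CoreKill.Local
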